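import Cfsg.Agent.H982.Five720b
import Cfsg.Agent.H352.LemmaW
import Cfsg.Agent.S3225

/-!
# S3568, section E720: `e720` (helper982)

A group `G` with commuting Klein four-groups `V₁`, `V₂` interchanged by `g`, `C_G(V₁V₂) = V₁V₂` and
`|N(V₁) ∩ N(V₁V₂)| = 144` has a subgroup of index two.
-/

set_option autoImplicit false

open Pointwise

namespace Cfsg.Agent.H982.Five720

open Cfsg.Agent.H399 Cfsg.Agent.H209.Five

variable {G : Type*} [Group G]

namespace Ct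

variable {V₁ V₂ : Subgroup G} {g : G} (C : Ct V₁ V₂ g)
include C

/-- an involution interchanging `V₁` and `V₂` -/
theorem exists_u : ∃ u ∈ Nm (V₁ ⊔ V₂), u * u = 1 ∧ cj u V₁ = V₂ ∧ cj u V₂ = V₁ := by
  obtain ⟨x, hx, hx2, h1, h2⟩ := C.exists_x
  obtain ⟨a, ha, b, hb, hab⟩ := C.mem_sup.1 hx2
  have hxa : x * a * x⁻¹ ∈ V₂ := by rw [← h1]; exact conj_mem_cj.2 ha
  have hxb : x * b * x⁻¹ ∈ V₁ := by rw [← h2]; exact conj_mem_cj.2 hb
  have h3 : (x * b * x⁻¹) * (x * a * x⁻¹) = a * b := by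
    have h4 : (x * b * x⁻¹) * (x * a * x⁻¹) = x * (b * a) * x⁻¹ := by group
    rw [h4, ← C.hc a ha b hb, hab]; group
  have h5 := (C.uniq hxb ha hxa hb h3).2
  refine ⟨a * x, mul_mem ((self_le_Nm _) (Ct.V₁_le ha)) hx, ?_, ?_, ?_⟩
  · have h6 : a * x * (a * x) = a * (x * a * x⁻¹) * (x * x) := by group
    rw [h6, h5, hab]
    exact C.sq hx2
  · rw [cj_mul, h1]
    exact cj_of_mem_Nm (C.le_nm ha)
  · rw [cj_mul, h2]
    exact cj_of_mem ha

end Ct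

/-- the situation with the involution -/
structure Cu (V₁ V₂ : Subgroup G) (g u : G) : Prop extends Ct V₁ V₂ g where
  un : u ∈ Nm (V₁ ⊔ V₂)
  u2 : u * u = 1
  u₁ : cj u V₁ = V₂
  u₂ : cj u V₂ = V₁

namespace Cu

variable {V₁ V₂ : Subgroup G} {g u : G} (C : Cu V₁ V₂ g u)
include C

theorem uinv : u⁻¹ = u := inv_eq_of_mul_eq_one_left C.u2

theorem uconj {x : G} (hx : x ∈ V₁) : u * x * u ∈ V₂ := by
  have := (conj_mem_cj (x := u)).2 hx
  rw [C.u₁, C.uinv] at this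
  exact this

theorem uconj' {x : G} (hx : x ∈ V₂) : u * x * u ∈ V₁ := by
  have := (conj_mem_cj (x := u)).2 hx
  rw [C.u₂, C.uinv] at this
  exact this

theorem u_not : u ∉ Nm V₁ := by
  intro h
  rw [mem_Nm, C.u₁] at h
  exact C.toCt.V₁_ne h.symm

theorem u_notS : u ∉ V₁ ⊔ V₂ := fun h => C.u_not (C.toCt.S_le_D h).1

theorem mem_or {n : G} (hn : n ∈ Nm (V₁ ⊔ V₂)) :
    n ∈ Nm V₁ ⊓ Nm (V₁ ⊔ V₂) ∨ n * u ∈ Nm V₁ ⊓ Nm (V₁ ⊔ V₂) := by
  have h1 : n * u ∈ Nm (V₁ ⊔ V₂) := mul_mem hn C.un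
  rcases C.toCt.perm hn with h | h
  · left
    exact ⟨mem_Nm.2 h, hn⟩
  · right
    -- `n` maps `V₂` to `V₁`: apply `perm` to `n u`
    rcases C.toCt.perm h1 with h2 | h2
    · exact ⟨mem_Nm.2 h2, h1⟩
    · exfalso
      rw [cj_mul, C.u₁] at h2
      have h3 : cj n V₁ = cj n V₂ := by rw [h, h2]
      exact C.toCt.V₁_ne (cj_inj.1 h3)

theorem card_N [Finite G] : Nat.card ↥(Nm (V₁ ⊔ V₂)) = 288 := by
  have h1 : (Nm V₁ ⊓ Nm (V₁ ⊔ V₂)).relIndex (Nm (V₁ ⊔ V₂)) = 2 := by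
    rw [Subgroup.relIndex, Subgroup.index_eq_two_iff]
    refine ⟨⟨u, C.un⟩, ?_⟩
    rintro ⟨n, hn⟩
    have e1 : (⟨n, hn⟩ : ↥(Nm (V₁ ⊔ V₂))) ∈ (Nm V₁ ⊓ Nm (V₁ ⊔ V₂)).subgroupOf (Nm (V₁ ⊔ V₂)) ↔
      n ∈ Nm V₁ ⊓ Nm (V₁ ⊔ V₂) := Iff.rfl
    have e2 : (⟨n, hn⟩ : ↥(Nm (V₁ ⊔ V₂))) * ⟨u, C.un⟩ ∈
      (Nm V₁ ⊓ Nm (V₁ ⊔ V₂)).subgroupOf (Nm (V₁ ⊔ V₂)) ↔ n * u ∈ Nm V₁ ⊓ Nm (V₁ ⊔ V₂) := Iff.rfl
    rw [e1, e2]
    have h3 : ¬ (n ∈ Nm V₁ ⊓ Nm (V₁ ⊔ V₂) ∧ n * u ∈ Nm V₁ ⊓ Nm (V₁ ⊔ V₂)) := by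
      rintro ⟨h4, h5⟩
      have h6 := mul_mem (inv_mem h4) h5
      rw [inv_mul_cancel_left] at h6
      exact C.u_not h6.1
    rcases C.mem_or hn with h4 | h4
    · right
      exact ⟨h4, fun h5 => h3 ⟨h4, h5⟩⟩
    · left
      exact ⟨h4, fun h5 => h3 ⟨h5, h4⟩⟩
  have h2 := card_mul_relIndex (inf_le_right : Nm V₁ ⊓ Nm (V₁ ⊔ V₂) ≤ Nm (V₁ ⊔ V₂))
  rw [C.hN, h1] at h2
  exact h2.symm

/-- the Sylow `2`-subgroup -/
def PP (V₁ V₂ : Subgroup G) (u : G) : Subgroup G := Subgroup.zpowers u ⊔ (V₁ ⊔ V₂)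

theorem zp_le : Subgroup.zpowers u ≤ Nm (V₁ ⊔ V₂) := by
  rw [Subgroup.zpowers_le]; exact C.un

theorem zp_cases {x : G} (hx : x ∈ Subgroup.zpowers u) : x = 1 ∨ x = u := by
  obtain ⟨k, rfl⟩ := Subgroup.mem_zpowers_iff.1 hx
  rcases Int.even_or_odd' k with ⟨m, rfl | rfl⟩
  · left
    rw [zpow_mul, zpow_two, C.u2, one_zpow]
  · right
    rw [zpow_add, zpow_mul, zpow_two, C.u2, one_zpow, zpow_one, one_mul]

theorem mem_PP {x : G} : x ∈ PP V₁ V₂ u ↔ x ∈ V₁ ⊔ V₂ ∨ x * u ∈ V₁ ⊔ V₂ := by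
  constructor
  · intro hx
    obtain ⟨y, hy, s, hs, rfl⟩ := (mul_mem_sup_iff C.zp_le).1 hx
    rcases C.zp_cases hy with rfl | rfl
    · left; rw [one_mul]; exact hs
    · right
      have h1 := (Subgroup.mem_normalizer_iff.1 C.un s).1 hs
      rw [C.uinv] at h1
      exact h1
  · rintro (hx | hx)
    · exact (le_sup_right : V₁ ⊔ V₂ ≤ PP V₁ V₂ u) hx
    · have h1 : x = (x * u) * u := by rw [mul_assoc, C.u2, mul_one]
      rw [h1]
      exact mul_mem ((le_sup_right : V₁ ⊔ V₂ ≤ PP V₁ V₂ u) hx)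
        ((le_sup_left : Subgroup.zpowers u ≤ PP V₁ V₂ u) (Subgroup.mem_zpowers u))

omit C in
theorem S_le_PP : V₁ ⊔ V₂ ≤ PP V₁ V₂ u := le_sup_right

omit C in
theorem u_mem_PP : u ∈ PP V₁ V₂ u := (le_sup_left : Subgroup.zpowers u ≤ PP V₁ V₂ u) (Subgroup.mem_zpowers u)

theorem u_ne : u ≠ 1 := fun h => C.u_notS (h ▸ one_mem _)

theorem card_PP : Nat.card ↥(PP V₁ V₂ u) = 32 := by
  have h := card_sup C.zp_le
  have h1 : Subgroup.zpowers u ⊓ (V₁ ⊔ V₂) = ⊥ := by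
    rw [eq_bot_iff]
    rintro x ⟨hx, hx2⟩
    rcases C.zp_cases hx with rfl | rfl
    · exact one_mem _
    · exact absurd hx2 C.u_notS
  have h2 : Nat.card ↥(Subgroup.zpowers u) = 2 := by
    rw [Nat.card_zpowers]
    exact orderOf_eq_prime (by rw [pow_two, C.u2]) C.u_ne
  rw [h1, Subgroup.card_bot, h2, C.toCt.card_S, mul_one] at h
  exact h

theorem relIndex_PP : (V₁ ⊔ V₂).relIndex (PP V₁ V₂ u) = 2 := by
  have h := card_mul_relIndex (Cu.S_le_PP (V₁ := V₁) (V₂ := V₂) (u := u))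
  rw [C.toCt.card_S, C.card_PP] at h
  omega

theorem PP_le : PP V₁ V₂ u ≤ Nm (V₁ ⊔ V₂) := sup_le C.zp_le (self_le_Nm _)

/-- `C_S(u)` -/
def DD (V₁ V₂ : Subgroup G) (u : G) : Subgroup G := (V₁ ⊔ V₂) ⊓ Subgroup.centralizer {u}

omit C in
theorem mem_DD {x : G} : x ∈ DD V₁ V₂ u ↔ x ∈ V₁ ⊔ V₂ ∧ u * x = x * u := by
  rw [DD, Subgroup.mem_inf, Subgroup.mem_centralizer_singleton_iff]
  constructor
  · rintro ⟨h1, h2⟩; exact ⟨h1, h2.symm⟩
  · rintro ⟨h1, h2⟩; exact ⟨h1, h2.symm⟩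

/-- `a a^u` -/
theorem mem_DD_of {a : G} (ha : a ∈ V₁) : a * (u * a * u) ∈ DD V₁ V₂ u := by
  rw [Cu.mem_DD]
  have h1 := C.uconj ha
  refine ⟨mul_mem (Ct.V₁_le ha) (Ct.V₂_le h1), ?_⟩
  rw [C.hc a ha _ h1]
  calc u * ((u * a * u) * a) = (u * u) * a * u * a := by simp only [mul_assoc]
    _ = a * (u * a * u) * u := by rw [C.u2, one_mul]; simp only [mul_assoc, C.u2, mul_one]
    _ = (u * a * u) * a * u := by rw [C.hc a ha _ h1]

theorem card_DD [Finite G] : Nat.card ↥(DD V₁ V₂ u) = 4 := by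
  apply le_antisymm
  · -- `Δ ∩ V₁ = 1`
    have h1 : DD V₁ V₂ u ⊓ V₁ = ⊥ := by
      rw [eq_bot_iff]
      rintro x ⟨hx, hx1⟩
      have h2 := (Cu.mem_DD.1 hx).2
      have h3 := C.uconj hx1
      rw [h2, mul_assoc, C.u2, mul_one] at h3
      exact C.toCt.one_of_mem hx1 h3
    have h2 : DD V₁ V₂ u ≤ Nm V₁ := (inf_le_left).trans (C.toCt.S_le_D.trans inf_le_left)
    have h3 := card_sup h2
    rw [h1, Subgroup.card_bot, mul_one, C.h₁.card] at h3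
    have h4 : Nat.card ↥(DD V₁ V₂ u ⊔ V₁) ≤ 16 := by
      rw [← C.toCt.card_S]
      exact Nat.card_mono (Set.toFinite _) (sup_le inf_le_left Ct.V₁_le)
    omega
  · rw [← C.h₁.card]
    let f : V₁ → ↥(DD V₁ V₂ u) := fun a => ⟨_, C.mem_DD_of a.2⟩
    refine Nat.card_le_card_of_injective f ?_
    intro a b h
    have h1 : (a : G) * (u * a * u) = b * (u * b * u) := congrArg Subtype.val h
    exact Subtype.ext (C.toCt.uniq a.2 b.2 (C.uconj a.2) (C.uconj b.2) h1).1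

/-- `S` is weakly closed in `P` -/
theorem wc [Finite G] (y : G) (hy : cj y (V₁ ⊔ V₂) ≤ PP V₁ V₂ u) : cj y (V₁ ⊔ V₂) = V₁ ⊔ V₂ := by
  have hcard : Nat.card ↥(cj y (V₁ ⊔ V₂)) = 16 := by rw [card_cj, C.toCt.card_S]
  by_contra hne
  have hnle : ¬ cj y (V₁ ⊔ V₂) ≤ V₁ ⊔ V₂ := by
    intro hle
    exact hne (Subgroup.eq_of_le_of_card_ge hle (by rw [hcard, C.toCt.card_S]))
  rw [SetLike.not_le_iff_exists] at hnle
  obtain ⟨i, hi, hiS⟩ := hnle
  have hiu : i * u ∈ V₁ ⊔ V₂ := (C.mem_PP.1 (hy hi)).resolve_left hiS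
  -- `V ∩ S` centralizes `i`
  have h1 : cj y (V₁ ⊔ V₂) ⊓ (V₁ ⊔ V₂) ≤ DD V₁ V₂ u := by
    rintro x ⟨hx, hxS⟩
    rw [Cu.mem_DD]
    refine ⟨hxS, ?_⟩
    have h2 := C.toCt.comm (mem_cj.1 hx) (mem_cj.1 hi)
    have h3 : x * i = i * x := by
      have h4 := congrArg (fun z => y * z * y⁻¹) h2
      have e1 : y * (y⁻¹ * x * y * (y⁻¹ * i * y)) * y⁻¹ = x * i := by group
      have e2 : y * (y⁻¹ * i * y * (y⁻¹ * x * y)) * y⁻¹ = i * x := by group
      rw [← e1, ← e2]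
      exact h4
    have h5 := C.toCt.comm hxS hiu
    -- `x i = i x`, `x (i u) = (i u) x`
    have h6 : i * (u * x) = i * (x * u) := by
      rw [← mul_assoc, ← h5, ← mul_assoc, h3, mul_assoc]
    exact mul_left_cancel h6
  have h2 : Nat.card ↥(cj y (V₁ ⊔ V₂) ⊓ (V₁ ⊔ V₂)) ≤ 4 := by
    rw [← C.card_DD]
    exact Nat.card_mono (Set.toFinite _) h1
  have h3 := card_sup (hy.trans C.PP_le)
  rw [hcard, C.toCt.card_S] at h3
  have h4 : Nat.card ↥(cj y (V₁ ⊔ V₂) ⊔ (V₁ ⊔ V₂)) ≤ 32 := by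
    rw [← C.card_PP]
    exact Nat.card_mono (Set.toFinite _) (sup_le hy Cu.S_le_PP)
  have h5 := Nat.mul_le_mul h4 h2
  omega

theorem isPGroup_PP [Finite G] : IsPGroup 2 ↥(PP V₁ V₂ u) :=
  IsPGroup.of_card (n := 5) (by rw [C.card_PP]; norm_num)

theorem not_dvd [Finite G] : ¬ 2 ∣ (PP V₁ V₂ u).index := by
  intro h
  have : Fact (Nat.Prime 2) := ⟨Nat.prime_two⟩
  have h1 : 2 ^ (5 + 1) ∣ Nat.card G := by
    rw [← (PP V₁ V₂ u).card_mul_index, C.card_PP]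
    obtain ⟨k, hk⟩ := h
    exact ⟨k, by rw [hk]; ring⟩
  have h2 : 2 ∣ (PP V₁ V₂ u).relIndex (Nm (PP V₁ V₂ u)) :=
    Sylow.prime_dvd_card_quotient_normalizer h1 (H := PP V₁ V₂ u) (by rw [C.card_PP]; norm_num)
  -- `N(P) ≤ N(S)`
  have h4 : Nm (PP V₁ V₂ u) ≤ Nm (V₁ ⊔ V₂) := by
    intro n hn
    rw [mem_Nm]
    apply C.wc
    have h5 : cj n (PP V₁ V₂ u) = PP V₁ V₂ u := mem_Nm.1 hn
    rw [← h5]
    exact cj_le_cj.2 Cu.S_le_PP
  have h5 : (PP V₁ V₂ u).relIndex (Nm (PP V₁ V₂ u)) ∣ (PP V₁ V₂ u).relIndex (Nm (V₁ ⊔ V₂)) := by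
    rw [← Subgroup.relIndex_mul_relIndex _ _ _ (self_le_Nm (PP V₁ V₂ u)) h4]
    exact Dvd.intro _ rfl
  have h6 := card_mul_relIndex C.PP_le
  rw [C.card_PP, C.card_N] at h6
  have h7 : (PP V₁ V₂ u).relIndex (Nm (V₁ ⊔ V₂)) = 9 := by omega
  rw [h7] at h5
  have h8 := h2.trans h5
  norm_num at h8

/-- `N_G(S) ∩ C(Δ) ≤ P` -/
theorem hN' : Nm (V₁ ⊔ V₂) ⊓ Subgroup.centralizer (DD V₁ V₂ u : Set G) ≤ PP V₁ V₂ u := by
  rintro n ⟨hn, hnc⟩
  have hnc' : ∀ d ∈ DD V₁ V₂ u, d * n = n * d := by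
    intro d hd
    exact Subgroup.mem_centralizer_iff.1 hnc d hd
  -- elements of `D` centralizing `Δ` are in `S`
  have key : ∀ m ∈ Nm V₁ ⊓ Nm (V₁ ⊔ V₂), (∀ d ∈ DD V₁ V₂ u, d * m = m * d) → m ∈ V₁ ⊔ V₂ := by
    intro m hm hmc
    have hcomm : ∀ a ∈ V₁, m * a * m⁻¹ = a ∧ m * (u * a * u) * m⁻¹ = u * a * u := by
      intro a ha
      have h1 := hmc _ (C.mem_DD_of ha)
      have h2 : m * a * m⁻¹ ∈ V₁ := (Subgroup.mem_normalizer_iff.1 hm.1 a).1 ha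
      have h3 : m * (u * a * u) * m⁻¹ ∈ V₂ := (Subgroup.mem_normalizer_iff.1 (C.hD hm) _).1 (C.uconj ha)
      have h4 : m * a * m⁻¹ * (m * (u * a * u) * m⁻¹) = a * (u * a * u) := by
        have e1 : m * a * m⁻¹ * (m * (u * a * u) * m⁻¹) = m * (a * (u * a * u)) * m⁻¹ := by group
        rw [e1, ← h1, mul_inv_cancel_right]
      exact C.toCt.uniq h2 ha h3 (C.uconj ha) h4
    refine C.toCt.mem_S_of_comm (fun a ha => mul_inv_eq_iff_eq_mul.1 (hcomm a ha).1) (fun b hb => ?_)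
    have h1 := (hcomm _ (C.uconj' hb)).2
    have h2 : u * (u * b * u) * u = b := by
      calc u * (u * b * u) * u = (u * u) * b * (u * u) := by simp only [mul_assoc]
        _ = b := by rw [C.u2, one_mul, mul_one]
    rw [h2] at h1
    exact mul_inv_eq_iff_eq_mul.1 h1
  rcases C.mem_or hn with h | h
  · exact C.mem_PP.2 (Or.inl (key n h hnc'))
  · refine C.mem_PP.2 (Or.inr (key _ h fun d hd => ?_))
    rw [← mul_assoc, hnc' d hd, mul_assoc, mul_assoc, (Cu.mem_DD.1 hd).2]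

/-- the involutions of `P` outside `S` are conjugate to `u` under `S` -/
theorem inv_conj {i : G} (hi : i ∈ PP V₁ V₂ u) (hiS : i ∉ V₁ ⊔ V₂) (hi2 : i * i = 1) :
    ∃ r ∈ V₁ ⊔ V₂, r * u * r⁻¹ = i := by
  have hiu : i * u ∈ V₁ ⊔ V₂ := (C.mem_PP.1 hi).resolve_left hiS
  obtain ⟨a, ha, b, hb, hab⟩ := C.toCt.mem_sup.1 hiu
  -- `(a b u)² = 1` gives `b = u a u`
  have h1 : i = a * b * u := by rw [hab, mul_assoc, C.u2, mul_one]
  have h2 : a * b * (u * (a * b) * u) = 1 := by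
    have h3 : a * b * (u * (a * b) * u) = i * i := by rw [h1]; simp only [mul_assoc]
    rw [h3, hi2]
  have h3 : u * (a * b) * u = (u * b * u) * (u * a * u) := by
    have h4 : (u * b * u) * (u * a * u) = u * (b * a) * u := by
      calc (u * b * u) * (u * a * u) = u * b * (u * u) * a * u := by simp only [mul_assoc]
        _ = u * (b * a) * u := by rw [C.u2]; simp only [mul_assoc, mul_one]
    rw [h4, C.hc a ha b hb]
  have h4 : a * b = (u * b * u) * (u * a * u) := by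
    have h5 := C.toCt.sq (mul_mem (Ct.V₁_le ha) (Ct.V₂_le hb))
    rw [h3] at h2
    exact mul_left_cancel (h5.trans h2.symm)
  have h5 := (C.toCt.uniq ha (C.uconj' hb) hb (C.uconj ha) h4).2
  refine ⟨a, Ct.V₁_le ha, ?_⟩
  rw [h1, h5]
  have h6 : a⁻¹ = a := inv_eq_of_mul_eq_one_left (C.h₁.sq a ha)
  rw [h6]
  calc a * u * a = a * (u * a) * (u * u) := by rw [C.u2, mul_one, mul_assoc]
    _ = a * (u * a * u) * u := by simp only [mul_assoc]

/-- the final argument -/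
theorem false_of_conj [Finite G] {h : G} (h1 : h * u * h⁻¹ ∈ V₁ ⊔ V₂) : False := by
  have : Fact (Nat.Prime 2) := ⟨Nat.prime_two⟩
  let P : Sylow 2 G := C.isPGroup_PP.toSylow C.not_dvd
  have hP : (P : Subgroup G) = PP V₁ V₂ u := rfl
  have hSp : IsPGroup 2 ↥(V₁ ⊔ V₂) := C.isPGroup_PP.to_le Cu.S_le_PP
  -- `F = C_P(u) = Δ ⟨u⟩`
  let F : Subgroup G := PP V₁ V₂ u ⊓ Subgroup.centralizer {u}
  have hFmem : ∀ x, x ∈ F ↔ x ∈ PP V₁ V₂ u ∧ u * x = x * u := by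
    intro x
    rw [Subgroup.mem_inf, Subgroup.mem_centralizer_singleton_iff]
    constructor
    · rintro ⟨h1, h2⟩; exact ⟨h1, h2.symm⟩
    · rintro ⟨h1, h2⟩; exact ⟨h1, h2.symm⟩
  have huF : u ∈ F := (hFmem u).2 ⟨Cu.u_mem_PP, rfl⟩
  have hDF : DD V₁ V₂ u ≤ F := by
    intro x hx
    exact (hFmem x).2 ⟨Cu.S_le_PP (Cu.mem_DD.1 hx).1, (Cu.mem_DD.1 hx).2⟩
  have hFd : ∀ x ∈ F, x ∈ DD V₁ V₂ u ∨ x * u ∈ DD V₁ V₂ u := by
    intro x hx
    obtain ⟨hx1, hx2⟩ := (hFmem x).1 hx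
    rcases C.mem_PP.1 hx1 with h | h
    · exact Or.inl (Cu.mem_DD.2 ⟨h, hx2⟩)
    · refine Or.inr (Cu.mem_DD.2 ⟨h, ?_⟩)
      rw [← mul_assoc, hx2]
  have hFc : ∀ x ∈ F, ∀ y ∈ F, x * y = y * x := by
    have hDc : ∀ x ∈ DD V₁ V₂ u, ∀ y ∈ F, x * y = y * x := by
      intro x hx y hy
      rcases hFd y hy with h | h
      · exact C.toCt.comm (Cu.mem_DD.1 hx).1 (Cu.mem_DD.1 h).1
      · have e1 := C.toCt.comm (Cu.mem_DD.1 hx).1 (Cu.mem_DD.1 h).1
        have e2 := (Cu.mem_DD.1 hx).2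
        have e3 : x * y * u = y * x * u := by
          rw [mul_assoc, e1, mul_assoc, e2, ← mul_assoc]
        exact mul_right_cancel e3
    intro x hx y hy
    rcases hFd x hx with h | h
    · exact hDc x h y hy
    · have e1 := hDc _ h y hy
      have e2 := ((hFmem y).1 hy).2
      have e3 : x * y * u = y * x * u := by
        rw [mul_assoc, ← e2, ← mul_assoc, e1, ← mul_assoc]
      exact mul_right_cancel e3
  have hFs : ∀ x ∈ F, x * x = 1 := by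
    intro x hx
    rcases hFd x hx with h | h
    · exact C.toCt.sq (Cu.mem_DD.1 h).1
    · have e1 := C.toCt.sq (Cu.mem_DD.1 h).1
      have e2 := ((hFmem x).1 hx).2
      calc x * x = x * (u * u) * x := by rw [C.u2, mul_one]
        _ = x * u * (u * x) := by simp only [mul_assoc]
        _ = x * u * (x * u) := by rw [e2]
        _ = 1 := e1
  have hFp : IsPGroup 2 F := C.isPGroup_PP.to_le inf_le_left
  -- choose the conjugating element well
  obtain ⟨Y, hY, hYC, hSY, c, hc, hcY⟩ := H352.Five.exists_syl (p := 2)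
    (C := Subgroup.centralizer {h * u * h⁻¹}) (T := V₁ ⊔ V₂) (T₂ := cj h F) hSp (isPGroup_cj h hFp) (by
      intro s hs
      rw [Subgroup.mem_centralizer_singleton_iff]
      exact C.toCt.comm hs h1) (by
      intro x hx
      rw [mem_cj] at hx
      rw [Subgroup.mem_centralizer_singleton_iff]
      have e1 := hFc _ hx _ huF
      have e2 : x = h * (h⁻¹ * x * h) * h⁻¹ := by group
      rw [e2]
      calc h * (h⁻¹ * x * h) * h⁻¹ * (h * u * h⁻¹) = h * ((h⁻¹ * x * h) * u) * h⁻¹ := by group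
        _ = h * u * h⁻¹ * (h * (h⁻¹ * x * h) * h⁻¹) := by rw [e1]; group)
  obtain ⟨k, hk⟩ := H352.Five.le_cj_sylow P hY
  -- `k⁻¹` normalises `S`
  have hkS : cj k⁻¹ (V₁ ⊔ V₂) = V₁ ⊔ V₂ := by
    apply C.wc
    rw [cj_le_iff, inv_inv]
    exact hSY.trans hk
  -- the new element
  obtain ⟨x, hx1, hx2⟩ : ∃ x : G, x * u * x⁻¹ ∈ V₁ ⊔ V₂ ∧ cj x F ≤ PP V₁ V₂ u := by
    refine ⟨k⁻¹ * c * h, ?_, ?_⟩
    · have hc' : c * (h * u * h⁻¹) * c⁻¹ = h * u * h⁻¹ := by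
        rw [Subgroup.mem_centralizer_singleton_iff] at hc
        rw [hc, mul_inv_cancel_right]
      have e1 : k⁻¹ * c * h * u * (k⁻¹ * c * h)⁻¹ = k⁻¹ * (c * (h * u * h⁻¹) * c⁻¹) * (k⁻¹)⁻¹ := by group
      rw [e1, hc']
      have e2 : k⁻¹ * (h * u * h⁻¹) * (k⁻¹)⁻¹ ∈ cj k⁻¹ (V₁ ⊔ V₂) := conj_mem_cj.2 h1
      rwa [hkS] at e2
    · rw [cj_mul, cj_mul, cj_le_iff, inv_inv]
      exact hcY.trans hk
  by_cases hcase : cj x F ≤ V₁ ⊔ V₂
  · -- `lemmaW`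
    exact H352.Five.lemmaW P (V₁ ⊔ V₂) (DD V₁ V₂ u) u Cu.S_le_PP (fun x hx y hy => C.toCt.comm hx hy)
      (fun x hx => C.toCt.sq hx) Cu.u_mem_PP C.u_notS C.u2 (fun x hx => C.mem_PP.1 hx) (fun x => Cu.mem_DD)
      C.wc C.hN' x hx1 ((cj_le_cj.2 hDF).trans hcase)
  · rw [SetLike.not_le_iff_exists] at hcase
    obtain ⟨i, hi, hiS⟩ := hcase
    have hi2 : i * i = 1 := by
      rw [mem_cj] at hi
      have e1 := hFs _ hi
      have e2 : i * i = x * (x⁻¹ * i * x * (x⁻¹ * i * x)) * x⁻¹ := by group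
      rw [e2, e1]; group
    obtain ⟨r, hr, hri⟩ := C.inv_conj (hx2 hi) hiS hi2
    -- replace `x` by `y = r⁻¹ x`
    set y := r⁻¹ * x with hy
    have hyF : cj y F ≤ PP V₁ V₂ u := by
      rw [hy, cj_mul, cj_le_iff, inv_inv, cj_of_mem (Cu.S_le_PP hr)]
      exact hx2
    have hyu : y * u * y⁻¹ ∈ V₁ ⊔ V₂ := by
      have e1 : y * u * y⁻¹ = r⁻¹ * (x * u * x⁻¹) * r := by rw [hy]; group
      rw [e1]
      exact mul_mem (mul_mem (inv_mem hr) hx1) hr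
    have huy : u ∈ cj y F := by
      rw [mem_cj] at hi ⊢
      have e1 : y⁻¹ * u * y = x⁻¹ * i * x := by rw [hy, ← hri]; group
      rw [e1]
      exact hi
    have hyc : ∀ a ∈ cj y F, ∀ b ∈ cj y F, a * b = b * a := by
      intro a ha b hb
      rw [mem_cj] at ha hb
      have e1 := hFc _ ha _ hb
      have e2 : a * b = y * (y⁻¹ * a * y * (y⁻¹ * b * y)) * y⁻¹ := by group
      rw [e2, e1]; group
    have hyFF : cj y F = F := by
      apply Subgroup.eq_of_le_of_card_ge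
      · intro a ha
        exact (hFmem a).2 ⟨hyF ha, hyc u huy a ha⟩
      · rw [card_cj]
    -- `t = y u y⁻¹`
    have htF : y * u * y⁻¹ ∈ F := by rw [← hyFF]; exact conj_mem_cj.2 huF
    have htD : y * u * y⁻¹ ∈ DD V₁ V₂ u := Cu.mem_DD.2 ⟨hyu, ((hFmem _).1 htF).2⟩
    have htD' : y * u * y⁻¹ ∉ cj y (DD V₁ V₂ u) := by
      rw [conj_mem_cj]
      exact fun h => C.u_notS (Cu.mem_DD.1 h).1
    -- `Δ ∩ Δ'` is not trivial
    have hDyF : cj y (DD V₁ V₂ u) ≤ F := by rw [← hyFF]; exact cj_le_cj.2 hDF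
    have hFcard : Nat.card F ≤ 8 := by
      have e1 : F ≤ DD V₁ V₂ u ⊔ Subgroup.zpowers u := by
        intro z hz
        rcases hFd z hz with h | h
        · exact (le_sup_left : DD V₁ V₂ u ≤ _) h
        · have e2 : z = (z * u) * u := by rw [mul_assoc, C.u2, mul_one]
          rw [e2]
          exact mul_mem ((le_sup_left : DD V₁ V₂ u ≤ _) h)
            ((le_sup_right : Subgroup.zpowers u ≤ _) (Subgroup.mem_zpowers u))
      have e2 : DD V₁ V₂ u ≤ Nm (Subgroup.zpowers u) := by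
        rw [le_Nm]
        intro d hd z hz
        have e3 : d * z * d⁻¹ = z := by
          rcases C.zp_cases hz with rfl | rfl
          · group
          · rw [← (Cu.mem_DD.1 hd).2, mul_inv_cancel_right]
        rw [e3]; exact hz
      have e3 := card_sup e2
      have e4 : Nat.card ↥(Subgroup.zpowers u) = 2 := by
        rw [Nat.card_zpowers]
        exact orderOf_eq_prime (by rw [pow_two, C.u2]) C.u_ne
      rw [C.card_DD, e4] at e3
      have e5 : 0 < Nat.card ↥(DD V₁ V₂ u ⊓ Subgroup.zpowers u) := Nat.card_pos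
      have e6 : Nat.card F ≤ Nat.card ↥(DD V₁ V₂ u ⊔ Subgroup.zpowers u) := Nat.card_mono (Set.toFinite _) e1
      nlinarith
    obtain ⟨w, hw, hw', hw1⟩ : ∃ w, w ∈ DD V₁ V₂ u ∧ w ∈ cj y (DD V₁ V₂ u) ∧ w ≠ 1 := by
      by_contra hcon
      push Not at hcon
      have e1 : DD V₁ V₂ u ⊓ cj y (DD V₁ V₂ u) = ⊥ := by
        rw [eq_bot_iff]
        rintro z ⟨h1, h2⟩
        exact hcon z h1 h2
      have e2 : DD V₁ V₂ u ≤ Nm (cj y (DD V₁ V₂ u)) := by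
        rw [le_Nm]
        intro d hd z hz
        rw [hFc d (hDF hd) z (hDyF hz), mul_inv_cancel_right]
        exact hz
      have e3 := card_sup e2
      rw [e1, Subgroup.card_bot, card_cj, C.card_DD] at e3
      have e4 : Nat.card ↥(DD V₁ V₂ u ⊔ cj y (DD V₁ V₂ u)) ≤ Nat.card F :=
        Nat.card_mono (Set.toFinite _) (sup_le hDF hDyF)
      omega
    -- `Δ = {1, w, t, w t}`
    have hEA : EA (DD V₁ V₂ u) 4 := ⟨C.card_DD, fun a ha b hb => hFc a (hDF ha) b (hDF hb), fun a ha => hFs a (hDF ha)⟩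
    have ht1 : y * u * y⁻¹ ≠ 1 := by
      intro h
      apply C.u_ne
      have e1 : u = y⁻¹ * (y * u * y⁻¹) * y := by group
      rw [e1, h]; group
    have hwt : w ≠ y * u * y⁻¹ := fun h => htD' (h ▸ hw')
    -- the element `s'`
    obtain ⟨d, hd, hdw⟩ : ∃ d ∈ DD V₁ V₂ u, y * d * y⁻¹ = w :=
      ⟨y⁻¹ * w * y, mem_cj.1 hw', by group⟩
    obtain ⟨r', hr', hru⟩ := C.inv_conj (i := d * u) (mul_mem (Cu.S_le_PP (Cu.mem_DD.1 hd).1) Cu.u_mem_PP)
      (fun h => C.u_notS (by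
        have := mul_mem (inv_mem (Cu.mem_DD.1 hd).1) h
        rwa [inv_mul_cancel_left] at this)) (by
        have e1 := (Cu.mem_DD.1 hd).2
        calc d * u * (d * u) = d * (u * d) * u := by simp only [mul_assoc]
          _ = (d * d) * (u * u) := by rw [e1]; simp only [mul_assoc]
          _ = 1 := by rw [C.toCt.sq (Cu.mem_DD.1 hd).1, C.u2, one_mul])
    set s := y * r' * y⁻¹ with hs
    have hs2 : s * s = 1 := by
      have e1 : s * s = y * (r' * r') * y⁻¹ := by rw [hs]; group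
      rw [e1, C.toCt.sq hr']; group
    have hst : s * (y * u * y⁻¹) * s⁻¹ = w * (y * u * y⁻¹) := by
      have e1 : s * (y * u * y⁻¹) * s⁻¹ = y * (r' * u * r'⁻¹) * y⁻¹ := by rw [hs]; group
      have e2 : y * (d * u) * y⁻¹ = (y * d * y⁻¹) * (y * u * y⁻¹) := by group
      rw [e1, hru, e2, hdw]
    have hsw : s * w * s⁻¹ = w := by
      have e1 : s * w * s⁻¹ = y * (r' * d * r'⁻¹) * y⁻¹ := by rw [hs, ← hdw]; group
      have e2 : r' * d * r'⁻¹ = d := by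
        rw [C.toCt.comm hr' (Cu.mem_DD.1 hd).1, mul_inv_cancel_right]
      rw [e1, e2, hdw]
    -- `s` normalises `Δ` and `F`
    have hsD : s ∈ Nm (DD V₁ V₂ u) := by
      rw [mem_Nm]
      apply Subgroup.eq_of_le_of_card_ge
      · intro z hz
        rw [mem_cj] at hz
        have e1 : z = s * (s⁻¹ * z * s) * s⁻¹ := by group
        rw [e1]
        rcases four hEA hw htD hw1 ht1 hwt hz with h | h | h | h <;> rw [h]
        · rw [mul_one, mul_inv_cancel]; exact one_mem _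
        · rw [hsw]; exact hw
        · rw [hst]; exact mul_mem hw htD
        · have e2 : s * (w * (y * u * y⁻¹)) * s⁻¹ = (s * w * s⁻¹) * (s * (y * u * y⁻¹) * s⁻¹) := by group
          rw [e2, hsw, hst]
          exact mul_mem hw (mul_mem hw htD)
      · rw [card_cj]
    have hSF : V₁ ⊔ V₂ ≤ Nm F := by
      rw [le_Nm]
      intro a ha z hz
      have hz' : a * z * a⁻¹ ∈ PP V₁ V₂ u :=
        mul_mem (mul_mem (Cu.S_le_PP ha) ((hFmem z).1 hz).1) (inv_mem (Cu.S_le_PP ha))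
      rcases hFd z hz with h | h
      · rw [C.toCt.comm ha (Cu.mem_DD.1 h).1, mul_inv_cancel_right]; exact hz
      · -- `z = d' u`, `a z a⁻¹ = d' (a u a⁻¹)`, `a u a⁻¹ u ∈ Δ`
        have e1 : a * z * a⁻¹ = (z * u) * (a * u * a⁻¹) := by
          have e2 := C.toCt.comm ha (Cu.mem_DD.1 h).1
          calc a * z * a⁻¹ = a * (z * (u * u)) * a⁻¹ := by rw [C.u2, mul_one]
            _ = (a * (z * u)) * u * a⁻¹ := by simp only [mul_assoc]
            _ = (z * u) * (a * u * a⁻¹) := by rw [e2]; simp only [mul_assoc]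
        rw [e1]
        refine mul_mem (hDF h) ((hFmem _).2 ⟨mul_mem (mul_mem (Cu.S_le_PP ha) Cu.u_mem_PP) (inv_mem (Cu.S_le_PP ha)), ?_⟩)
        -- `u` commutes with `a u a⁻¹`
        have e3 : u * a * u ∈ V₁ ⊔ V₂ := by
          have := (Subgroup.mem_normalizer_iff.1 C.un a).1 ha
          rwa [C.uinv] at this
        have e4 : a⁻¹ = a := inv_eq_of_mul_eq_one_left (C.toCt.sq ha)
        rw [e4]
        have e5 := C.toCt.comm e3 ha
        calc u * (a * u * a) = (u * a * u) * a := by simp only [mul_assoc]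
          _ = a * (u * a * u) := e5
          _ = a * u * a * u := by simp only [mul_assoc]
    have hsF : s ∈ Nm F := by
      have e1 : y ∈ Nm F := mem_Nm.2 hyFF
      exact mul_mem (mul_mem e1 (hSF hr')) (inv_mem e1)
    -- `J = N(F) ∩ C(Δ)` contains `P` and is normalised by `s`
    let J : Subgroup G := Nm F ⊓ Subgroup.centralizer (DD V₁ V₂ u : Set G)
    have hPJ : PP V₁ V₂ u ≤ J := by
      refine sup_le ?_ ?_
      · rw [Subgroup.zpowers_le]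
        refine Subgroup.mem_inf.2 ⟨self_le_Nm F huF, Subgroup.mem_centralizer_iff.2 ?_⟩
        intro z hz
        exact ((Cu.mem_DD.1 hz).2).symm
      · refine le_inf hSF ?_
        intro a ha
        rw [Subgroup.mem_centralizer_iff]
        intro z hz
        exact C.toCt.comm (Cu.mem_DD.1 hz).1 ha
    have hsJ : s ∈ Nm J := by
      rw [mem_Nm, cj_inf, cj_Nm, cj_of_mem_Nm hsF]
      congr 1
      ext z
      rw [mem_cj, Subgroup.mem_centralizer_iff, Subgroup.mem_centralizer_iff]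
      constructor
      · intro h a ha
        have e1 : s⁻¹ * a * s ∈ DD V₁ V₂ u := by
          have := (Subgroup.mem_normalizer_iff.1 (inv_mem hsD) a).1 ha
          rwa [inv_inv] at this
        have e2 := h _ e1
        have e3 : a * z = s * ((s⁻¹ * a * s) * (s⁻¹ * z * s)) * s⁻¹ := by group
        rw [e3, e2]; group
      · intro h a ha
        have e1 : s * a * s⁻¹ ∈ DD V₁ V₂ u := (Subgroup.mem_normalizer_iff.1 hsD a).1 ha
        have e2 := h _ e1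
        have e3 : a * (s⁻¹ * z * s) = s⁻¹ * ((s * a * s⁻¹) * z) * s := by group
        rw [e3, e2]; group
    have hsnJ : s ∉ J := by
      intro h
      have h := Subgroup.mem_centralizer_iff.1 (Subgroup.mem_inf.1 h).2
      have e1 := h _ htD
      have e2 : s * (y * u * y⁻¹) * s⁻¹ = y * u * y⁻¹ := by rw [← e1, mul_inv_cancel_right]
      rw [hst] at e2
      exact hw1 (mul_eq_right.1 e2)
    apply hsnJ
    -- `|N(J) : J|` is odd
    have hodd : ¬ 2 ∣ J.relIndex (Nm J) := by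
      intro h2
      apply C.not_dvd
      rw [← Subgroup.relIndex_mul_index hPJ]
      refine Dvd.dvd.mul_left ?_ _
      rw [← Subgroup.relIndex_mul_index (self_le_Nm J)]
      exact Dvd.dvd.mul_right h2 _
    have hn : (J.subgroupOf (Nm J)).Normal := Subgroup.normal_in_normalizer
    have h3 := Subgroup.pow_index_mem (J.subgroupOf (Nm J)) ⟨s, hsJ⟩
    have h4 : s ^ (J.relIndex (Nm J)) ∈ J := h3
    obtain ⟨m, hm⟩ := Nat.odd_iff.2 (Nat.two_dvd_ne_zero.1 hodd)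
    rw [hm, pow_succ, pow_mul, pow_two, hs2, one_pow, one_mul] at h4
    exact h4

/-- the conclusion -/
theorem result [Finite G] : ∃ H : Subgroup G, H.index = 2 := by
  by_contra hcon
  push Not at hcon
  have : Fact (Nat.Prime 2) := ⟨Nat.prime_two⟩
  have hev : Even (Nat.card G) := by
    rw [even_iff_two_dvd, ← (PP V₁ V₂ u).card_mul_index, C.card_PP]
    exact Dvd.dvd.mul_right (by norm_num) _
  obtain ⟨h, hh⟩ := Cfsg.Agent.S3225.result hev hcon (C.isPGroup_PP.toSylow C.not_dvd) (V₁ ⊔ V₂) Cu.S_le_PP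
    C.relIndex_PP 1 le_rfl (by
      intro y _ hy
      rw [Nat.sub_self, pow_zero]
      have h1 : orderOf y ≠ 1 := fun h => hy (by rw [orderOf_eq_one_iff.1 h]; exact one_mem _)
      have h2 : 0 < orderOf y := orderOf_pos y
      omega) u Cu.u_mem_PP (by
      rw [pow_one]
      exact orderOf_eq_prime (by rw [pow_two, C.u2]) C.u_ne)
  exact C.false_of_conj hh

end Cu

/-- **E720** -/
theorem e720 [Finite G] {V₁ V₂ : Subgroup G} (h₁ : EA V₁ 4) (h₂ : EA V₂ 4)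
    (hc : ∀ x ∈ V₁, ∀ y ∈ V₂, x * y = y * x) (hi : V₁ ⊓ V₂ = ⊥) (g : G) (hg₁ : cj g V₁ = V₂) (hg₂ : cj g V₂ = V₁)
    (hC : Subgroup.centralizer ((V₁ ⊔ V₂ : Subgroup G) : Set G) ≤ V₁ ⊔ V₂)
    (hN : Nat.card ↥(Nm V₁ ⊓ Nm (V₁ ⊔ V₂)) = 144) (hD : Nm V₁ ⊓ Nm (V₁ ⊔ V₂) ≤ Nm V₂) :
    ∃ H : Subgroup G, H.index = 2 := by
  have C : Ct V₁ V₂ g := ⟨h₁, h₂, hc, hi, hg₁, hg₂, hC, hN, hD⟩
  obtain ⟨u, hu, hu2, h3, h4⟩ := C.exists_u
  exact Cu.result (g := g) (u := u) ⟨C, hu, hu2, h3, h4⟩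

end Cfsg.Agent.H982.Five720
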