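import Cfsg.Agent.H162.CC.Tools3
import Cfsg.Agent.H964.NoHall.RowsM
import Cfsg.Agent.SporadicStructure.M22Syl11
import Cfsg.Agent.SporadicStructure.M24Frame
import Cfsg.Agent.SporadicA.M23Simple
import Cfsg.Agent.SporadicA.MathieuRecog
import Cfsg.Agent.S0249
import Cfsg.Agent.S0364
import Cfsg.Agent.S0365
import Cfsg.Agent.S0376
import Cfsg.Agent.S0377
import Cfsg.Agent.S0378
import Cfsg.Agent.S0379
import Cfsg.Agent.S0380
import Cfsg.Agent.S0381
import Cfsg.Agent.S0382
import Cfsg.Agent.S0383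
import Cfsg.Agent.S1553

/-!
# S3828, rows M22, M23, M24 (helper982, for helper162)
-/

set_option autoImplicit false

namespace Cfsg.Agent.H982.CrMathieu

open Cfsg Cfsg.Agent.H162.CCR MulAction Subgroup
open scoped Pointwise

universe u

/-! ### General -/

section General

variable {G : Type*} [Group G] [Finite G] {p : ℕ} [hp : Fact p.Prime]

omit [Finite G] hp in
/-- `p` does not divide the order -/
theorem crow_of_not_dvd (h : ¬ p ∣ Nat.card G) : CRow p G := by
  intro C hC c hc
  obtain ⟨k, hk⟩ := hC.pel c hc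
  rcases Nat.eq_zero_or_pos k with rfl | hk0
  · rw [pow_zero, orderOf_eq_one_iff] at hk
    exact hk
  · exfalso
    apply h
    have h1 : orderOf c ∣ Nat.card G := orderOf_dvd_natCard c
    rw [hk] at h1
    exact (dvd_pow_self p hk0.ne').trans h1

/-- a subgroup `H ≃* K`, `K` simple and not abelian, of index `n` prime to `p` -/
theorem crow_of_simple {K : Type*} [Group K] [Finite K] [IsSimpleGroup K] (hK : ¬ IsMulCommutative K) {H : Subgroup G}
    (e : H ≃* K) {n : ℕ} (hn : H.index = n) (hn1 : n ≠ 1) (hp : ¬ p ∣ n) : CRow p G := by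
  intro C hC
  refine hC.eq_one_of_index (H := H) ?_ (by rwa [hn]) ?_
  · rintro rfl
    exact hn1 (by rw [← hn, Subgroup.index_top])
  · have h1 := pCore_eq_bot_of_simple hK p
    rw [eq_bot_iff]
    intro x hx
    have h2 := pCore_of_equiv e hx
    rw [h1, Subgroup.mem_bot] at h2
    rw [Subgroup.mem_bot]
    exact e.injective (by rw [h2, map_one])

/-- Sylow subgroups of order `p` with normalisers of odd order -/
theorem crow_of_normalizer [hs : IsSimpleGroup G] (hab : ¬ IsMulCommutative G) (h2 : 2 ∣ Nat.card G)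
    (h1 : ¬ p ^ 2 ∣ Nat.card G) (P : Sylow p G) (hP : ¬ 2 ∣ Nat.card (Subgroup.normalizer ((P : Subgroup G) : Set G))) :
    CRow p G := by
  have : Fact (Nat.Prime 2) := ⟨Nat.prime_two⟩
  intro C hC c hc
  by_contra hc1
  obtain ⟨t, ht⟩ := exists_prime_orderOf_dvd_card' 2 h2
  have ht2 : t * t = 1 := by rw [← pow_two, ← ht, pow_orderOf_eq_one]
  have ht1 : t ≠ 1 := by
    rintro rfl
    rw [orderOf_one] at ht
    omega
  obtain ⟨e, he, he1, hte⟩ := hC.exists_inverted (pCore_eq_bot_of_simple hab p) hc hc1 ht2 ht1 hs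
  -- `⟨e⟩` is a Sylow subgroup
  obtain ⟨k, hk⟩ := hC.pel e he
  have hk1 : k = 1 := by
    have hk0 : k ≠ 0 := by
      rintro rfl
      rw [pow_zero, orderOf_eq_one_iff] at hk
      exact he1 hk
    by_contra hk1
    apply h1
    have h3 : p ^ 2 ∣ p ^ k := pow_dvd_pow p (by omega)
    rw [← hk] at h3
    exact h3.trans (orderOf_dvd_natCard e)
  rw [hk1, pow_one] at hk
  obtain ⟨Q, hQ⟩ := (hC.isPGroup_zpowers he).exists_le_sylow
  have hQe : (Q : Subgroup G) = Subgroup.zpowers e := by
    symm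
    apply Subgroup.eq_of_le_of_card_ge hQ
    rw [Nat.card_zpowers, hk]
    obtain ⟨m, hm⟩ := IsPGroup.iff_card.1 Q.2
    rw [hm]
    by_contra hcon
    push Not at hcon
    apply h1
    have h3 : 2 ≤ m := by
      by_contra h4
      have : m ≤ 1 := by omega
      have h5 : p ^ m ≤ p ^ 1 := Nat.pow_le_pow_right hp.out.pos this
      rw [pow_one] at h5
      omega
    have h4 : p ^ 2 ∣ p ^ m := pow_dvd_pow p h3
    rw [← hm] at h4
    exact h4.trans (Subgroup.card_subgroup_dvd_card _)
  have htN : t ∈ Subgroup.normalizer ((Q : Subgroup G) : Set G) := by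
    rw [hQe, Subgroup.mem_normalizer_iff]
    have key : ∀ x : G, x ∈ Subgroup.zpowers e → t * x * t⁻¹ ∈ Subgroup.zpowers e := by
      rintro x ⟨n, rfl⟩
      refine ⟨-n, ?_⟩
      show e ^ (-n) = t * e ^ n * t⁻¹
      rw [← conj_zpow, hte, inv_zpow']
    intro x
    refine ⟨key x, fun h => ?_⟩
    have h3 := key _ h
    have h4 : t * (t * x * t⁻¹) * t⁻¹ = x := by
      have ht' : t⁻¹ = t := inv_eq_of_mul_eq_one_left ht2
      rw [ht']
      calc t * (t * x * t) * t = (t * t) * x * (t * t) := by group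
        _ = x := by rw [ht2, one_mul, mul_one]
    rwa [h4] at h3
  obtain ⟨g, hg⟩ := MulAction.exists_smul_eq G Q P
  have h5 : Nat.card (Subgroup.normalizer ((P : Subgroup G) : Set G)) =
      Nat.card (Subgroup.normalizer ((Q : Subgroup G) : Set G)) := by
    rw [← hg, Sylow.coe_subgroup_smul]
    have h6 : Subgroup.normalizer ((MulAut.conj g • (Q : Subgroup G) : Subgroup G) : Set G) =
        (Subgroup.normalizer ((Q : Subgroup G) : Set G)).map (MulAut.conj g).toMonoidHom :=
      (Subgroup.map_equiv_normalizer_eq _ (MulAut.conj g)).symm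
    rw [h6]
    exact Nat.card_congr ((Subgroup.normalizer ((Q : Subgroup G) : Set G)).equivMapOfInjective _
      (MulAut.conj g).injective).symm.toEquiv
  apply hP
  rw [h5, ← ht]
  have h7 := orderOf_dvd_natCard (⟨t, htN⟩ : Subgroup.normalizer ((Q : Subgroup G) : Set G))
  rwa [Subgroup.orderOf_mk] at h7

omit [Finite G] hp in
theorem not_comm_of_card [hs : IsSimpleGroup G] {n : ℕ} (h : Nat.card G = n) (hn : n ≠ 0) (hp : ¬ n.Prime) :
    ¬ IsMulCommutative G := by
  intro hc
  have hf : Finite G := Nat.finite_of_card_ne_zero (by rw [h]; exact hn)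
  letI : CommGroup G := { (inferInstance : Group G) with mul_comm := hc.is_comm.comm }
  have := IsSimpleGroup.prime_card (α := G)
  rw [h] at this
  exact hp this

end General

/-! ### `M24` -/

instance : Finite M24 := Nat.finite_of_card_ne_zero (by rw [S0364.result]; norm_num)

instance : IsSimpleGroup M24 := S0365.result

theorem m24_ncomm : ¬ IsMulCommutative M24 := not_comm_of_card S0364.result (by norm_num) (by norm_num)

/-- five points of an octad can be mapped to any five points of this octad -/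
theorem exists_five {o : Finset GolayPt} (ho : o ∈ octads) {x y : Fin 5 → GolayPt} (hx : Function.Injective x)
    (hy : Function.Injective y) (hxo : ∀ i, x i ∈ o) (hyo : ∀ i, y i ∈ o) :
    ∃ g ∈ M24, g • o = o ∧ ∀ i, g (x i) = y i := by
  obtain ⟨g, hg⟩ := S0366.result.exists_smul_eq (⟨x, hx⟩ : Fin 5 ↪ GolayPt) ⟨y, hy⟩
  have hgi : ∀ i, (g : Equiv.Perm GolayPt) (x i) = y i := fun i =>
    congrArg (fun z : Fin 5 ↪ GolayPt => z i) hg
  refine ⟨g, g.2, ?_, hgi⟩
  refine SporadicStructure.M24Frame.smul_octad_eq_of_five g.2 ho ho (s := Finset.univ.image x) ?_ ?_ ?_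
  · intro z hz
    obtain ⟨i, -, rfl⟩ := Finset.mem_image.1 hz
    exact hxo i
  · rw [Finset.card_image_of_injective _ hx]
    simp
  · intro z hz
    obtain ⟨i, -, rfl⟩ := Finset.mem_image.1 hz
    rw [hgi]
    exact hyo i

theorem mem_iff_of_smul {g : Equiv.Perm GolayPt} {o : Finset GolayPt} (h : g • o = o) (x : GolayPt) :
    g x ∈ o ↔ x ∈ o := by
  have := Finset.smul_mem_smul_finset_iff (s := o) (b := x) g
  rw [h] at this
  exact this

/-- restriction to an octad -/
def res (o : Finset GolayPt) : stabilizer M24 o →* Equiv.Perm ↥o where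
  toFun g := ((g : M24) : Equiv.Perm GolayPt).subtypePerm (fun x => mem_iff_of_smul g.2 x)
  map_one' := by ext x; rfl
  map_mul' := by intro a b; ext x; rfl

theorem range_res {o : Finset GolayPt} (ho : o ∈ octads) : (res o).range = alternatingGroup ↥o := by
  apply SetLike.coe_injective
  rw [← S1553.result o ho]
  ext e
  constructor
  · rintro ⟨g, rfl⟩
    exact ⟨(g : M24), (g : M24).2, fun x => mem_iff_of_smul g.2 x, rfl⟩
  · rintro ⟨g, hg, h, rfl⟩
    refine ⟨⟨⟨g, hg⟩, ?_⟩, ?_⟩
    · rw [mem_stabilizer_iff]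
      apply Finset.eq_of_subset_of_card_le
      · intro x hx
        obtain ⟨y, hy, rfl⟩ := Finset.mem_smul_finset.1 hx
        exact (h y).2 hy
      · rw [Finset.card_smul_finset]
    · rfl

theorem octad_two_core {o : Finset GolayPt} (ho : o ∈ octads) (x : stabilizer M24 o) (hx : x ∈ pCore 2 (stabilizer M24 o)) :
    x * x = 1 := by
  have : Fact (Nat.Prime 2) := ⟨Nat.prime_two⟩
  have h8 : Nat.card ↥o = 8 := by rw [Nat.card_eq_fintype_card, Fintype.card_coe]; exact ho.2
  have hs : IsSimpleGroup (alternatingGroup ↥o) := alternatingGroup.isSimpleGroup (by rw [h8]; norm_num)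
  have hcard : Nat.card (alternatingGroup ↥o) = 20160 := by
    have : Nontrivial ↥o := by
      rw [← Finite.one_lt_card_iff_nontrivial, h8]; norm_num
    rw [nat_card_alternatingGroup, h8]
    decide +kernel
  have hnc : ¬ IsMulCommutative (alternatingGroup ↥o) := not_comm_of_card hcard (by norm_num) (by norm_num)
  have h1 := pCore_eq_bot_of_simple hnc 2
  have e : (res o).range ≃* alternatingGroup ↥o := MulEquiv.subgroupCongr (range_res ho)
  -- the image of the core
  have h2 : (res o).rangeRestrict x ∈ pCore 2 (res o).range := by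
    have h3 : (pCore 2 (stabilizer M24 o)).map (res o).rangeRestrict ≤ pCore 2 (res o).range :=
      Lib.Cores.le_pCore ((Lib.Cores.pCore_normal 2).map _ (res o).rangeRestrict_surjective)
        ((Lib.Cores.pCore_isPGroup 2).map _)
    exact h3 ⟨x, hx, rfl⟩
  have h4 := pCore_of_equiv e h2
  rw [h1, Subgroup.mem_bot] at h4
  have h5 : (res o).rangeRestrict x = 1 := e.injective (by rw [h4, map_one])
  have h6 : res o x = 1 := congrArg Subtype.val h5
  have h7 : ((x : M24) : Equiv.Perm GolayPt) ∈ M24 ⊓ fixingSubgroup (Equiv.Perm GolayPt) (o : Set GolayPt) := by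
    refine ⟨(x : M24).2, ?_⟩
    refine (mem_fixingSubgroup_iff _).2 ?_
    intro y hy
    exact congrArg (fun z : Equiv.Perm ↥o => ((z ⟨y, hy⟩ : ↥o) : GolayPt)) h6
  have h8 := (S0381.result o ho).2 _ h7
  exact Subtype.ext (Subtype.ext h8)

theorem m24_index_octad {o : Finset GolayPt} (ho : o ∈ octads) : (stabilizer M24 o).index = 759 := by
  have h1 := (stabilizer M24 o).card_mul_index
  rw [H867.OctadCount.card_stabilizer_octad ho, S0364.result] at h1
  omega

theorem m24_two : CRow 2 M24 := by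
  have : Fact (Nat.Prime 2) := ⟨Nat.prime_two⟩
  have ho := SporadicStructure.M24Frame.stdOctad_mem
  intro C hC
  refine hC.eq_one_of_two_exp (pCore_eq_bot_of_simple m24_ncomm 2) (H := stabilizer M24
    SporadicStructure.M24Frame.stdOctad) ?_ ?_ (octad_two_core ho)
  · intro h
    have := m24_index_octad ho
    rw [h, Subgroup.index_top] at this
    omega
  · rw [m24_index_octad ho]
    norm_num

theorem m24_three : CRow 3 M24 := by
  have : Fact (Nat.Prime 3) := ⟨Nat.prime_three⟩
  have hd := FooteOdd.SporMEleven.dodecad_mem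
  have hs := S0383.result _ hd
  have hc := S0382.result _ hd
  have hf : Finite (stabilizer M24 Spor.squareDodecad) := inferInstance
  refine crow_of_simple (H := stabilizer M24 Spor.squareDodecad) (not_comm_of_card hc (by norm_num) (by norm_num))
    (MulEquiv.refl _) (n := 2576) ?_ (by norm_num) (by norm_num)
  have h1 := (stabilizer M24 Spor.squareDodecad).card_mul_index
  rw [hc, S0364.result] at h1
  omega

theorem m24_other {p : ℕ} [hp : Fact p.Prime] (h2 : p ≠ 2) (h3 : p ≠ 3) : CRow p M24 := by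
  have hs := S0377.result none
  have hc := S0376.result none
  refine crow_of_simple (H := stabilizer M24 (none : GolayPt)) (not_comm_of_card hc (by norm_num) (by norm_num))
    (MulEquiv.refl _) (n := 24) ?_ (by norm_num) ?_
  · have h1 := (stabilizer M24 (none : GolayPt)).card_mul_index
    rw [hc, S0364.result] at h1
    omega
  · intro h
    have h1 : p ∣ 2 ^ 3 * 3 := h
    rcases (hp.out.dvd_mul).1 h1 with h4 | h4
    · exact h2 ((Nat.prime_dvd_prime_iff_eq hp.out Nat.prime_two).1 (hp.out.dvd_of_dvd_pow h4))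
    · exact h3 ((Nat.prime_dvd_prime_iff_eq hp.out Nat.prime_three).1 h4)

theorem crow_M24 (p : ℕ) [hp : Fact p.Prime] : CRow p M24 := by
  by_cases h2 : p = 2
  · subst h2; exact m24_two
  by_cases h3 : p = 3
  · subst h3; exact m24_three
  exact m24_other h2 h3

/-! ### `M23` -/

instance : Finite Spor.M23 := Nat.finite_of_card_ne_zero (by rw [SporadicA.MathieuRecog.card_M23]; norm_num)
instance : Finite Spor.M22 := Nat.finite_of_card_ne_zero (by rw [SporadicA.MathieuRecog.card_M22]; norm_num)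

/-- the two descriptions of `M23` -/
def equivM23 : stabilizer M24 (none : GolayPt) ≃* Spor.M23 where
  toFun g := ⟨((g : M24) : Equiv.Perm GolayPt), (g : M24).2, g.2⟩
  invFun g := ⟨⟨(g : Equiv.Perm GolayPt), g.2.1⟩, g.2.2⟩
  left_inv _ := rfl
  right_inv _ := rfl
  map_mul' _ _ := rfl

theorem m23_ncomm : ¬ IsMulCommutative (stabilizer M24 (none : GolayPt)) := by
  have hs := S0377.result none
  exact not_comm_of_card (S0376.result none) (by norm_num) (by norm_num)

theorem m22_ncomm : ¬ IsMulCommutative Spor.M22 := by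
  have hs := SporadicA.MathieuRecog.simple_M22
  exact not_comm_of_card SporadicA.MathieuRecog.card_M22 (by norm_num) (by norm_num)

theorem m23_23 [hp : Fact (Nat.Prime 23)] : CRow 23 Spor.M23 := by
  refine CRow.of_equiv equivM23.symm ?_
  have hs := S0377.result none
  have hcard : Nat.card (stabilizer M24 (none : GolayPt)) = 10200960 := S0376.result none
  have hfac : (Nat.card (stabilizer M24 (none : GolayPt))).factorization 23 = 1 := by
    rw [hcard, show 10200960 = 23 ^ 1 * 443520 by norm_num]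
    rw [Nat.factorization_mul (by norm_num) (by norm_num), Nat.Prime.factorization_pow hp.out]
    simp only [Finsupp.add_apply, Finsupp.single_eq_same]
    rw [Nat.factorization_eq_zero_of_not_dvd (by norm_num)]
  let P : Sylow 23 (stabilizer M24 (none : GolayPt)) := Sylow.ofCard SporadicA.M23Simple.P0
    (by rw [hfac, SporadicA.M23Simple.card_P0, pow_one])
  refine crow_of_normalizer m23_ncomm (by rw [hcard]; norm_num) (by rw [hcard]; norm_num) P ?_
  have h1 : Nat.card (Subgroup.normalizer ((P : Subgroup (stabilizer M24 (none : GolayPt))) :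
      Set (stabilizer M24 (none : GolayPt)))) = 23 * 11 := SporadicA.M23Simple.card_normalizer
  rw [h1]
  norm_num

theorem m23_other {p : ℕ} [hp : Fact p.Prime] (h2 : p ≠ 23) : CRow p Spor.M23 := by
  have hs := SporadicA.MathieuRecog.simple_M22
  have hle : Spor.M22 ≤ Spor.M23 := inf_le_left
  refine crow_of_simple (H := Spor.M22.subgroupOf Spor.M23) m22_ncomm (Subgroup.subgroupOfEquivOfLe hle) (n := 23) ?_
    (by norm_num) ?_
  · have h1 := (Spor.M22.subgroupOf Spor.M23).card_mul_index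
    rw [Nat.card_congr (Subgroup.subgroupOfEquivOfLe hle).toEquiv, SporadicA.MathieuRecog.card_M22,
      SporadicA.MathieuRecog.card_M23] at h1
    omega
  · intro h
    exact h2 ((Nat.prime_dvd_prime_iff_eq hp.out (by norm_num)).1 h)

theorem crow_M23 (p : ℕ) [hp : Fact p.Prime] : CRow p Spor.M23 := by
  by_cases h2 : p = 23
  · subst h2; exact m23_23
  exact m23_other h2

/-! ### `M22` -/

theorem m22_11 [hp : Fact (Nat.Prime 11)] : CRow 11 Spor.M22 := by
  refine CRow.of_equiv SporadicA.MathieuRecog.M22_mulEquiv ?_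
  have h0 : (none : GolayPt) ≠ some 0 := by simp
  have hs := S0379.result none (some 0) h0
  have hcard := S0378.result none (some 0) h0
  have hnc : ¬ IsMulCommutative ↥(stabilizer M24 (none : GolayPt) ⊓ stabilizer M24 (some 0 : GolayPt)) :=
    not_comm_of_card hcard (by norm_num) (by norm_num)
  obtain ⟨P⟩ : Nonempty (Sylow 11 ↥(stabilizer M24 (none : GolayPt) ⊓ stabilizer M24 (some 0 : GolayPt))) :=
    Sylow.nonempty
  refine crow_of_normalizer hnc (by rw [hcard]; norm_num) (by rw [hcard]; norm_num) P ?_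
  have h1 := SporadicStructure.M22Syl11.card_normalizer_sylow11 h0 hcard P
  intro h2
  have h3 : 2 ∣ 55 := h1 ▸ h2
  revert h3
  norm_num

/-- the two descriptions of the stabiliser of three points -/
def equivM21 : stabilizer Spor.M22 (some 1 : GolayPt) ≃*
    ↥(stabilizer M24 (none : GolayPt) ⊓ stabilizer M24 (some 0 : GolayPt) ⊓ stabilizer M24 (some 1 : GolayPt)) where
  toFun g := ⟨⟨((g : Spor.M22) : Equiv.Perm GolayPt), (g : Spor.M22).2.1.1⟩, ⟨(g : Spor.M22).2.1.2, (g : Spor.M22).2.2⟩,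
    g.2⟩
  invFun g := ⟨⟨((g : M24) : Equiv.Perm GolayPt), ⟨(g : M24).2, g.2.1.1⟩, g.2.1.2⟩, g.2.2⟩
  left_inv _ := rfl
  right_inv _ := rfl
  map_mul' _ _ := rfl

theorem m21_simple : IsSimpleGroup (stabilizer Spor.M22 (some 1 : GolayPt)) := by
  have : Fact (Nat.Prime 2) := ⟨Nat.prime_two⟩
  let F := GaloisField 2 2
  letI : Fintype F := Fintype.ofFinite F
  have hF : Fintype.card F = 4 := by
    rw [← Nat.card_eq_fintype_card, GaloisField.card 2 2 (by norm_num)]
    norm_num
  have h01 : (some 0 : GolayPt) ≠ some 1 := by decide +kernel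
  obtain ⟨e⟩ := S0380.result none (some 0) (some 1) (by simp) (by simp) h01 F hF
  have hs : IsSimpleGroup (Matrix.ProjectiveSpecialLinearGroup (Fin 3) F) := S0249.result 3 le_rfl
  exact MulEquiv.isSimpleGroup (equivM21.trans e)

theorem card_m21 : Nat.card (stabilizer Spor.M22 (some 1 : GolayPt)) = 20160 := by
  have h1 := (stabilizer Spor.M22 (some 1 : GolayPt)).card_mul_index
  rw [H964.NoHall.m22_index, SporadicA.MathieuRecog.card_M22] at h1
  omega

theorem m22_other {p : ℕ} [hp : Fact p.Prime] (h2 : p ≠ 2) (h11 : p ≠ 11) : CRow p Spor.M22 := by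
  have hs := m21_simple
  refine crow_of_simple (H := stabilizer Spor.M22 (some 1 : GolayPt)) (not_comm_of_card card_m21 (by norm_num)
    (by norm_num)) (MulEquiv.refl _) H964.NoHall.m22_index (by norm_num) ?_
  intro h
  have h1 : p ∣ 2 * 11 := h
  rcases (hp.out.dvd_mul).1 h1 with h4 | h4
  · exact h2 ((Nat.prime_dvd_prime_iff_eq hp.out Nat.prime_two).1 h4)
  · exact h11 ((Nat.prime_dvd_prime_iff_eq hp.out (by norm_num)).1 h4)

/-- four points of an octad can be mapped to any four points of this octad -/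
theorem exists_four {o : Finset GolayPt} (ho : o ∈ octads) {x y : Fin 4 → GolayPt} (hx : Function.Injective x)
    (hy : Function.Injective y) (hxo : ∀ i, x i ∈ o) (hyo : ∀ i, y i ∈ o) :
    ∃ g ∈ M24, g • o = o ∧ ∀ i, g (x i) = y i := by
  have hex : ∀ z : Fin 4 → GolayPt, Function.Injective z → (∀ i, z i ∈ o) → ∃ z' : Fin 5 → GolayPt,
      Function.Injective z' ∧ (∀ i, z' i ∈ o) ∧ ∀ i : Fin 4, z' i.castSucc = z i := by
    intro z hz hzo
    obtain ⟨d, hd, hd'⟩ : ∃ d ∈ o, d ∉ Finset.univ.image z := by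
      by_contra hcon
      push Not at hcon
      have h1 := Finset.card_le_card hcon
      rw [Finset.card_image_of_injective _ hz, ho.2] at h1
      simp at h1
    refine ⟨Fin.snoc z d, ?_, ?_, ?_⟩
    · rw [Fin.snoc_injective_iff]
      refine ⟨hz, fun ⟨i, hi⟩ => hd' ?_⟩
      rw [← hi]
      exact Finset.mem_image_of_mem _ (Finset.mem_univ _)
    · intro i
      refine Fin.lastCases ?_ (fun j => ?_) i
      · rw [Fin.snoc_last]; exact hd
      · rw [Fin.snoc_castSucc]; exact hzo j
    · intro i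
      rw [Fin.snoc_castSucc]
  obtain ⟨x', hx1, hx2, hx3⟩ := hex x hx hxo
  obtain ⟨y', hy1, hy2, hy3⟩ := hex y hy hyo
  obtain ⟨g, hg, hgo, hgi⟩ := exists_five ho hx1 hy1 hx2 hy2
  refine ⟨g, hg, hgo, fun i => ?_⟩
  rw [← hx3, hgi, hy3]

theorem exists_two {o : Finset GolayPt} (ho : o ∈ octads) {a b c d : GolayPt} (ha : a ∈ o) (hb : b ∈ o) (hc : c ∈ o)
    (hd : d ∈ o) (hab : a ≠ b) (hcd : c ≠ d) : ∃ g ∈ M24, g • o = o ∧ g a = c ∧ g b = d := by
  obtain ⟨g, hg, h3, h4, h5⟩ := GolayOrbit.Flags.flagIn ho ha hb hab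
  obtain ⟨k, hk, h3', h4', h5'⟩ := GolayOrbit.Flags.flagIn ho hc hd hcd
  have ha' : g⁻¹ a = GolayOrbit.Flags.p₀ := by rw [Equiv.Perm.inv_eq_iff_eq, h4]
  have hb' : g⁻¹ b = GolayOrbit.Flags.q₀ := by rw [Equiv.Perm.inv_eq_iff_eq, h5]
  refine ⟨k * g⁻¹, M24.mul_mem hk (M24.inv_mem hg), ?_, ?_, ?_⟩
  · rw [mul_smul]
    nth_rewrite 1 [← h3]
    rw [inv_smul_smul, h3']
  · rw [Equiv.Perm.mul_apply, ha', h4']
  · rw [Equiv.Perm.mul_apply, hb', h5']

section Hexad

variable {o : Finset GolayPt} (ho : o ∈ octads) (hn : (none : GolayPt) ∈ o) (h0 : (some 0 : GolayPt) ∈ o)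

include ho hn h0

theorem m22_index_hexad : (stabilizer Spor.M22 o).index = 77 := by
  have hne : (none : GolayPt) ≠ some 0 := by simp
  have h1 : (stabilizer ↥(M24 ⊓ stabilizer (Equiv.Perm GolayPt) o) (none : GolayPt)).index = o.card := by
    refine H964.NoHall.index_stab _ _ _ fun q => ?_
    constructor
    · intro hq
      obtain ⟨d, hd, hdq⟩ : ∃ d ∈ o, d ≠ q := by
        by_cases h : q = none
        · exact ⟨some 0, h0, by rw [h]; exact hne.symm⟩
        · exact ⟨none, hn, fun h' => h h'.symm⟩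
      obtain ⟨g, hg, h2, h3, -⟩ := exists_two ho hn h0 hq hd hne hdq.symm
      exact ⟨g, ⟨hg, h2⟩, h3⟩
    · rintro ⟨g, hg, rfl⟩
      exact (mem_iff_of_smul hg.2 _).2 hn
  have h2 : (stabilizer ↥(M24 ⊓ stabilizer (Equiv.Perm GolayPt) o ⊓ stabilizer (Equiv.Perm GolayPt) (none : GolayPt))
      (some 0 : GolayPt)).index = (o.erase none).card := by
    refine H964.NoHall.index_stab _ _ _ fun q => ?_
    rw [Finset.mem_erase]
    constructor
    · rintro ⟨hq1, hq⟩
      obtain ⟨g, hg, h2, h3, h4⟩ := exists_two ho hn h0 hn hq hne hq1.symm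
      exact ⟨g, ⟨⟨hg, h2⟩, h3⟩, h4⟩
    · rintro ⟨g, hg, rfl⟩
      refine ⟨fun h => ?_, (mem_iff_of_smul hg.1.2 _).2 h0⟩
      have h3 : g none = none := hg.2
      exact hne (g.injective (h3.trans h.symm))
  rw [ho.2] at h1
  rw [Finset.card_erase_of_mem hn, ho.2] at h2
  have h3 := (stabilizer ↥(M24 ⊓ stabilizer (Equiv.Perm GolayPt) o) (none : GolayPt)).card_mul_index
  rw [h1, H964.NoHall.card_KO ho] at h3
  have h4 : Nat.card ↥(M24 ⊓ stabilizer (Equiv.Perm GolayPt) o ⊓ stabilizer (Equiv.Perm GolayPt) (none : GolayPt)) =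
      Nat.card (stabilizer ↥(M24 ⊓ stabilizer (Equiv.Perm GolayPt) o) (none : GolayPt)) :=
    Nat.card_congr ⟨fun g => ⟨⟨g.1, g.2.1⟩, g.2.2⟩, fun g => ⟨g.1.1, g.1.2, g.2⟩, fun _ => rfl, fun _ => rfl⟩
  have h5 := (stabilizer ↥(M24 ⊓ stabilizer (Equiv.Perm GolayPt) o ⊓ stabilizer (Equiv.Perm GolayPt) (none : GolayPt))
      (some 0 : GolayPt)).card_mul_index
  rw [h2, h4] at h5
  have h6 : Nat.card (stabilizer Spor.M22 o) = Nat.card (stabilizer ↥(M24 ⊓ stabilizer (Equiv.Perm GolayPt) o ⊓
      stabilizer (Equiv.Perm GolayPt) (none : GolayPt)) (some 0 : GolayPt)) :=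
    Nat.card_congr ⟨fun g => ⟨⟨g.1.1, ⟨g.1.2.1.1, g.2⟩, g.1.2.1.2⟩, g.1.2.2⟩,
      fun g => ⟨⟨g.1.1, ⟨g.1.2.1.1, g.1.2.2⟩, g.2⟩, g.1.2.1.2⟩, fun _ => rfl, fun _ => rfl⟩
  have h7 := (stabilizer Spor.M22 o).card_mul_index
  have h8 : Nat.card (stabilizer ↥(M24 ⊓ stabilizer (Equiv.Perm GolayPt) o) (none : GolayPt)) = 40320 := by omega
  rw [h8] at h5
  have h9 : Nat.card (stabilizer Spor.M22 o) = 5760 := by omega
  rw [h9, SporadicA.MathieuRecog.card_M22] at h7
  omega

/-- elements of the core fix the octad pointwise -/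
theorem m22_core_fix (x : stabilizer Spor.M22 o) (hx : x ∈ pCore 2 (stabilizer Spor.M22 o)) (a : GolayPt) (ha : a ∈ o) :
    ((x : Spor.M22) : Equiv.Perm GolayPt) a = a := by
  have : Fact (Nat.Prime 2) := ⟨Nat.prime_two⟩
  have hne : (none : GolayPt) ≠ some 0 := by simp
  have hfn : ∀ g : Spor.M22, (g : Equiv.Perm GolayPt) none = none := fun g => g.2.1.2
  have hf0 : ∀ g : Spor.M22, (g : Equiv.Perm GolayPt) (some 0) = some 0 := fun g => g.2.2
  by_contra hxa
  set N : Subgroup (Equiv.Perm GolayPt) := ((pCore 2 (stabilizer Spor.M22 o)).map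
    (stabilizer Spor.M22 o).subtype).map Spor.M22.subtype with hN
  have hNp : IsPGroup 2 N := ((Lib.Cores.pCore_isPGroup 2).map _).map _
  have hmem : ∀ g ∈ N, ∃ y : stabilizer Spor.M22 o, y ∈ pCore 2 (stabilizer Spor.M22 o) ∧
      ((y : Spor.M22) : Equiv.Perm GolayPt) = g := by
    rintro g ⟨-, ⟨y, hy, rfl⟩, rfl⟩
    exact ⟨y, hy, rfl⟩
  have han : a ≠ none := by rintro rfl; exact hxa (hfn _)
  have ha0 : a ≠ some 0 := by rintro rfl; exact hxa (hf0 _)
  set b := ((x : Spor.M22) : Equiv.Perm GolayPt) a with hb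
  have hbo : b ∈ o := (mem_iff_of_smul x.2 _).2 ha
  have hbn : b ≠ none := fun h => han ((((x : Spor.M22) : Equiv.Perm GolayPt)).injective (h.trans (hfn _).symm))
  have hb0 : b ≠ some 0 := fun h => ha0 ((((x : Spor.M22) : Equiv.Perm GolayPt)).injective (h.trans (hf0 _).symm))
  have h1 : (stabilizer N a).index = ((o.erase none).erase (some 0)).card := by
    refine H964.NoHall.index_stab _ _ _ fun q => ?_
    rw [Finset.mem_erase, Finset.mem_erase]
    constructor
    · rintro ⟨hq0, hqn, hq⟩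
      by_cases hqa : q = a
      · exact ⟨1, one_mem _, hqa.symm⟩
      · have hinj : ∀ c : GolayPt, c ≠ none → c ≠ some 0 → c ≠ a → Function.Injective ![none, some 0, a, c] := by
          intro c h1 h2 h3 i j hij
          fin_cases i <;> fin_cases j <;> first | rfl | (exfalso; simp_all [eq_comm])
        obtain ⟨g, hg, hgo, hgi⟩ := exists_four ho (hinj b hbn hb0 hxa) (hinj q hqn hq0 hqa)
          (by intro i; fin_cases i <;> assumption) (by intro i; fin_cases i <;> assumption)
        have hg0 : g none = none := hgi 0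
        have hg1 : g (some 0) = some 0 := hgi 1
        have hg2 : g a = a := hgi 2
        have hg3 : g b = q := hgi 3
        have hgM : g ∈ Spor.M22 := ⟨⟨hg, hg0⟩, hg1⟩
        set y : stabilizer Spor.M22 o := ⟨⟨g, hgM⟩, hgo⟩ with hy
        have h4 : y * x * y⁻¹ ∈ pCore 2 (stabilizer Spor.M22 o) := (Lib.Cores.pCore_normal 2).conj_mem x hx y
        refine ⟨((y * x * y⁻¹ : stabilizer Spor.M22 o) : Spor.M22), ⟨_, ⟨_, h4, rfl⟩, rfl⟩, ?_⟩
        show g (((x : Spor.M22) : Equiv.Perm GolayPt) (g⁻¹ a)) = q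
        have h5 : g⁻¹ a = a := by rw [Equiv.Perm.inv_eq_iff_eq, hg2]
        rw [h5, ← hb, hg3]
    · rintro ⟨g, hg, rfl⟩
      obtain ⟨y, -, rfl⟩ := hmem g hg
      refine ⟨fun h => ha0 ?_, fun h => han ?_, (mem_iff_of_smul y.2 _).2 ha⟩
      · exact (((y : Spor.M22) : Equiv.Perm GolayPt)).injective (h.trans (hf0 _).symm)
      · exact (((y : Spor.M22) : Equiv.Perm GolayPt)).injective (h.trans (hfn _).symm)
  rw [Finset.card_erase_of_mem (Finset.mem_erase.2 ⟨hne.symm, h0⟩), Finset.card_erase_of_mem hn, ho.2] at h1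
  obtain ⟨k, hk⟩ := hNp.index (stabilizer N a)
  rw [h1] at hk
  have h3 : 3 ∣ 2 ^ k := by rw [← hk]; norm_num
  have := (Nat.prime_dvd_prime_iff_eq Nat.prime_three Nat.prime_two).1 (Nat.prime_three.dvd_of_dvd_pow h3)
  omega

end Hexad

theorem m22_two : CRow 2 Spor.M22 := by
  have : Fact (Nat.Prime 2) := ⟨Nat.prime_two⟩
  have hs := SporadicA.MathieuRecog.simple_M22
  have ho := SporadicStructure.M24Frame.stdOctad_mem
  have hn : (none : GolayPt) ∈ SporadicStructure.M24Frame.stdOctad := SporadicStructure.M24Frame.base6_mem 0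
  have h0 : (some 0 : GolayPt) ∈ SporadicStructure.M24Frame.stdOctad := SporadicStructure.M24Frame.base6_mem 1
  intro C hC
  refine hC.eq_one_of_two_exp (pCore_eq_bot_of_simple m22_ncomm 2) (H := stabilizer Spor.M22
    SporadicStructure.M24Frame.stdOctad) ?_ ?_ ?_
  · intro h
    have := m22_index_hexad ho hn h0
    rw [h, Subgroup.index_top] at this
    omega
  · rw [m22_index_hexad ho hn h0]
    norm_num
  · intro x hx
    have h1 := m22_core_fix ho hn h0 x hx
    have h7 : ((x : Spor.M22) : Equiv.Perm GolayPt) ∈ M24 ⊓ fixingSubgroup (Equiv.Perm GolayPt)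
        (SporadicStructure.M24Frame.stdOctad : Set GolayPt) := by
      refine ⟨(x : Spor.M22).2.1.1, ?_⟩
      refine (mem_fixingSubgroup_iff _).2 ?_
      intro y hy
      exact h1 y hy
    exact Subtype.ext (Subtype.ext ((S0381.result _ ho).2 _ h7))

theorem crow_M22 (p : ℕ) [hp : Fact p.Prime] : CRow p Spor.M22 := by
  by_cases h2 : p = 2
  · subst h2; exact m22_two
  by_cases h3 : p = 11
  · subst h3; exact m22_11
  exact m22_other h2 h3

/-! ### The rows -/

/-- **S3828, row M22.** -/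
theorem crow_m22 {G : Type*} [Group G] (h : Spor.IsoM22 G) (p : ℕ) [Fact p.Prime] : CRow p G := by
  obtain ⟨e⟩ := h
  exact CRow.of_equiv e (crow_M22 p)

/-- **S3828, row M23.** -/
theorem crow_m23 {G : Type*} [Group G] (h : Spor.IsoM23 G) (p : ℕ) [Fact p.Prime] : CRow p G := by
  obtain ⟨e⟩ := h
  exact CRow.of_equiv e (crow_M23 p)

/-- **S3828, row M24.** -/
theorem crow_m24 {G : Type*} [Group G] (h : Spor.IsoM24 G) (p : ℕ) [Fact p.Prime] : CRow p G := by
  obtain ⟨e⟩ := h
  exact CRow.of_equiv e (crow_M24 p)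

end Cfsg.Agent.H982.CrMathieu
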