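import Cfsg.Agent.H543.PiBS.Gen
import Cfsg.Agent.S0144
import Cfsg.Agent.H585.AltSolv
import Cfsg.Agent.J2Type.ThreeF
import Cfsg.Agent.KFacts.J2.SheetX
import Cfsg.Agent.H394.SqSporBase
import Cfsg.Agent.S1620
import Cfsg.Agent.S1619
import Cfsg.Agent.H898.J3Cent
import Cfsg.Agent.CpAutJThree.Row

/-!
# DC rows for `J2`, `J3` (for S3876, helper982): general lemmas
-/

set_option autoImplicit false
set_option linter.unusedSectionVars false
set_option linter.style.haveILetI false

namespace Cfsg.Agent.H982.PiJ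

open Subgroup Cfsg Cfsg.Agent.H543.PiBS

universe u

variable {S : Type u} [Group S] [Finite S]

/-- **sieve** -/
theorem sieve {pi : Set ℕ} (hD : DC pi S) {r : ℕ} [Fact r.Prime] (R : Sylow r S)
    (hN : IsPiSubgroup pi (normalizer ((R : Subgroup S) : Set S))) :
    ∃ H : Subgroup S, IsPiHall pi H ∧ normalizer ((R : Subgroup S) : Set S) ≤ H ∧ H.index ≡ 1 [MOD r] := by
  obtain ⟨H, hH, hle⟩ := hD.d _ hN
  refine ⟨H, hH, hle, ?_⟩
  have hRH : (R : Subgroup S) ≤ H := le_normalizer.trans hle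
  have h1 : Nat.card (Sylow r S) = (normalizer ((R : Subgroup S) : Set S)).index := R.card_eq_index_normalizer
  have h2 : Nat.card (Sylow r H) = (normalizer (((R.subtype hRH : Sylow r H) : Subgroup H) : Set H)).index :=
    (R.subtype hRH).card_eq_index_normalizer
  have h3 : (normalizer (((R.subtype hRH : Sylow r H) : Subgroup H) : Set H)).index =
      (normalizer ((R : Subgroup S) : Set S)).relIndex H := by
    show _ = ((normalizer ((R : Subgroup S) : Set S)).subgroupOf H).index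
    congr 1
    exact (subgroupOf_normalizer_eq hRH).symm
  have h4 := relIndex_mul_index hle
  have h5 := card_sylow_modEq_one r S
  have h6 := card_sylow_modEq_one r H
  rw [h1, ← h4, ← h3, ← h2] at h5
  calc H.index = 1 * H.index := (one_mul _).symm
    _ ≡ Nat.card (Sylow r H) * H.index [MOD r] := (h6.symm).mul_right _
    _ ≡ 1 [MOD r] := h5

/-- conjugation action of `K` on the nontrivial elements of a subgroup it normalises -/
@[reducible] def act {K A : Subgroup S} (hKA : ∀ k ∈ K, ∀ a ∈ A, k * a * k⁻¹ ∈ A) :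
    MulAction K {a : S // a ∈ A ∧ a ≠ 1} where
  smul k a := ⟨k * a.1 * (k : S)⁻¹, hKA k k.2 _ a.2.1, fun h => a.2.2 (by
    have : (a.1 : S) = (k : S)⁻¹ * (k * a.1 * (k : S)⁻¹) * k := by group
    rw [this, h]; group)⟩
  one_smul a := Subtype.ext (by
    show ((1 : K) : S) * a.1 * ((1 : K) : S)⁻¹ = a.1
    simp)
  mul_smul k l a := Subtype.ext (by
    show ((k * l : K) : S) * a.1 * ((k * l : K) : S)⁻¹ = k * (l * a.1 * (l : S)⁻¹) * (k : S)⁻¹
    simp only [Subgroup.coe_mul]; group)

theorem orbit_card {K A : Subgroup S} (hKA : ∀ k ∈ K, ∀ a ∈ A, k * a * k⁻¹ ∈ A)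
    (x : {a : S // a ∈ A ∧ a ≠ 1}) :
    letI := act hKA
    Nat.card (MulAction.orbit K x) * Nat.card (K ⊓ centralizer ({x.1} : Set S) : Subgroup S) = Nat.card K := by
  letI := act hKA
  have h1 := Nat.card_congr (MulAction.orbitProdStabilizerEquivGroup K x)
  rw [Nat.card_prod] at h1
  rw [← h1]
  congr 1
  refine Nat.card_congr
    { toFun := fun y => ⟨⟨y.1, y.2.1⟩, ?_⟩, invFun := fun y => ⟨y.1.1, y.1.2, ?_⟩, left_inv := fun _ => rfl,
      right_inv := fun _ => rfl }
  · rw [MulAction.mem_stabilizer_iff]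
    apply Subtype.ext
    show y.1 * x.1 * y.1⁻¹ = x.1
    have := mem_centralizer_singleton_iff.1 y.2.2
    rw [this]; group
  · have h := y.2
    rw [MulAction.mem_stabilizer_iff] at h
    have h' : (y.1 : S) * x.1 * (y.1 : S)⁻¹ = x.1 := congrArg Subtype.val h
    refine mem_centralizer_singleton_iff.2 ?_
    rw [mul_inv_eq_iff_eq_mul] at h'
    exact h'

/-- orbit sizes divisible by `d` -/
theorem orbit_dvd {K A : Subgroup S} (hKA : ∀ k ∈ K, ∀ a ∈ A, k * a * k⁻¹ ∈ A) {d : ℕ}
    (h : ∀ a ∈ A, a ≠ 1 → d * Nat.card (K ⊓ centralizer ({a} : Set S) : Subgroup S) ∣ Nat.card K) :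
    d ∣ Nat.card A - 1 := by
  classical
  letI := act hKA
  have h1 : Nat.card A = Nat.card {a : S // a ∈ A ∧ a ≠ 1} + 1 := by
    rw [← Finite.card_option]
    refine Nat.card_congr
      { toFun := fun a => if h : (a : S) = 1 then none else some ⟨a, a.2, h⟩
        invFun := fun o => o.elim 1 fun x => ⟨x.1, x.2.1⟩
        left_inv := ?_, right_inv := ?_ }
    · intro a
      by_cases ha : (a : S) = 1
      · simp only [ha, dif_pos, Option.elim]
        exact Subtype.ext ha.symm
      · simp only [ha, dif_neg, not_false_eq_true, Option.elim]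
    · intro o
      cases o with
      | none => simp
      | some x =>
        have := x.2.2
        simp [this]
  rw [h1, Nat.add_sub_cancel]
  letI : Fintype (MulAction.orbitRel.Quotient K {a : S // a ∈ A ∧ a ≠ 1}) := Fintype.ofFinite _
  rw [Nat.card_congr (MulAction.selfEquivSigmaOrbits K {a : S // a ∈ A ∧ a ≠ 1}), Nat.card_sigma]
  refine Finset.dvd_sum fun ω _ => ?_
  have h2 := orbit_card hKA ω.out
  have h3 := h ω.out.1 ω.out.2.1 ω.out.2.2
  rw [← h2] at h3
  exact Nat.dvd_of_mul_dvd_mul_right Nat.card_pos h3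

theorem orbit_le {K A : Subgroup S} (hKA : ∀ k ∈ K, ∀ a ∈ A, k * a * k⁻¹ ∈ A) {a : S} (ha : a ∈ A) (ha1 : a ≠ 1) :
    Nat.card K ≤ (Nat.card A - 1) * Nat.card (K ⊓ centralizer ({a} : Set S) : Subgroup S) := by
  classical
  letI := act hKA
  have h2 := orbit_card hKA ⟨a, ha, ha1⟩
  rw [← h2]
  refine Nat.mul_le_mul_right _ ?_
  have h1 : Nat.card {a : S // a ∈ A ∧ a ≠ 1} ≤ Nat.card A - 1 := by
    have : Nat.card {a : S // a ∈ A ∧ a ≠ 1} + 1 ≤ Nat.card A := by
      rw [← Finite.card_option]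
      refine Nat.card_le_card_of_injective (fun o : Option {a : S // a ∈ A ∧ a ≠ 1} => o.elim (1 : A) fun x => ⟨x.1, x.2.1⟩) ?_
      intro o o' h
      cases o with
      | none =>
        cases o' with
        | none => rfl
        | some y => exact absurd (congrArg Subtype.val h).symm y.2.2
      | some x =>
        cases o' with
        | none => exact absurd (congrArg Subtype.val h) x.2.2
        | some y =>
          have h' : (x.1 : S) = y.1 := congrArg (fun z : A => (z : S)) h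
          exact congrArg some (Subtype.ext h')
    omega
  refine le_trans ?_ h1
  exact Nat.card_le_card_of_injective _ Subtype.val_injective

/-- a subgroup of `S` normalised by `H`, elementary abelian, inside `H` -/
theorem exists_A {H : Subgroup S} {a b : ℕ} (hc : Nat.card H = 2 ^ a * 3 ^ b) (h1 : Nat.card H ≠ 1) :
    ∃ A : Subgroup S, ∃ p : ℕ, (p = 2 ∨ p = 3) ∧ A ≤ H ∧ (∀ k ∈ H, ∀ a ∈ A, k * a * k⁻¹ ∈ A) ∧ A ≠ ⊥ ∧
      ∀ a ∈ A, a ≠ 1 → orderOf a = p := by
  have hs := Cfsg.Agent.S0144.result 2 3 a b Nat.prime_two Nat.prime_three hc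
  have hnt : Nontrivial H := by
    rw [← Finite.one_lt_card_iff_nontrivial]
    have : 0 < Nat.card H := Nat.card_pos
    omega
  obtain ⟨A, p, hp, hAn, hAb, -, hAp⟩ := Cfsg.Agent.H585.AltSolv.exists_elementary hs hnt
  have hord : ∀ a ∈ A, a ≠ 1 → orderOf a = p := fun a ha ha1 => by
    have : Fact p.Prime := ⟨hp⟩
    exact orderOf_eq_prime (hAp a ha) ha1
  refine ⟨A.map H.subtype, p, ?_, map_subtype_le _, ?_, ?_, ?_⟩
  · obtain ⟨a, ha, ha1⟩ := A.bot_or_exists_ne_one.resolve_left hAb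
    have h2 := orderOf_dvd_natCard a
    rw [hord a ha ha1, hc] at h2
    rcases (hp.dvd_mul).1 h2 with h3 | h3
    · exact Or.inl ((Nat.prime_dvd_prime_iff_eq hp Nat.prime_two).1 (hp.dvd_of_dvd_pow h3))
    · exact Or.inr ((Nat.prime_dvd_prime_iff_eq hp Nat.prime_three).1 (hp.dvd_of_dvd_pow h3))
  · rintro k hk _ ⟨a, ha, rfl⟩
    exact ⟨_, hAn.conj_mem a ha ⟨k, hk⟩, rfl⟩
  · intro h
    apply hAb
    rw [eq_bot_iff]
    intro a ha
    have : (a : S) ∈ A.map H.subtype := ⟨a, ha, rfl⟩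
    rw [h, mem_bot] at this
    exact mem_bot.2 (Subtype.ext this)
  · rintro _ ⟨a, ha, rfl⟩ h1
    have ha1 : a ≠ 1 := fun h => h1 (by rw [h, map_one])
    rw [← hord a ha ha1]
    exact orderOf_injective H.subtype Subtype.val_injective a

theorem card_le_of_disjoint {A N H : Subgroup S} (hA : A ≤ H) (hN : N ≤ H) (h : ∀ x ∈ A, x ∈ N → x = 1) :
    Nat.card A * Nat.card N ≤ Nat.card H := by
  rw [← Nat.card_prod]
  refine Nat.card_le_card_of_injective (fun x : A × N => (⟨x.1 * x.2, H.mul_mem (hA x.1.2) (hN x.2.2)⟩ : H)) ?_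
  rintro ⟨⟨a, ha⟩, ⟨n, hn⟩⟩ ⟨⟨b, hb⟩, ⟨m, hm⟩⟩ hxy
  have h1 : a * n = b * m := congrArg Subtype.val hxy
  have h2 : b⁻¹ * a = m * n⁻¹ := by
    rw [eq_mul_inv_iff_mul_eq, mul_assoc, h1]; group
  have h3 : b⁻¹ * a = 1 := h _ (A.mul_mem (A.inv_mem hb) ha) (by rw [h2]; exact N.mul_mem hm (N.inv_mem hn))
  have h4 : a = b := by rw [inv_mul_eq_one] at h3; exact h3.symm
  have h5 : n = m := by rw [h4] at h1; exact mul_left_cancel h1
  subst h4; subst h5; rfl

/-- a divisor of `N = u * m`, `u` prime to ... : coprimality with `2`, `3` strips the `2`- and `3`-parts -/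
theorem strip {n a b m : ℕ} (h : n ∣ 2 ^ a * (3 ^ b * m)) (h2 : ¬ 2 ∣ n) (h3 : ¬ 3 ∣ n) : n ∣ m := by
  have h4 := (((Nat.Prime.coprime_iff_not_dvd Nat.prime_two).2 h2).symm.pow_right a).dvd_of_dvd_mul_left h
  exact (((Nat.Prime.coprime_iff_not_dvd Nat.prime_three).2 h3).symm.pow_right b).dvd_of_dvd_mul_left h4

theorem hall_not_dvd {pi : Set ℕ} {H : Subgroup S} (hH : IsPiHall pi H) {p : ℕ} (hp : p.Prime) (h : p ∈ pi) :
    ¬ p ∣ H.index := hH.2 p hp h

/-- an inner centraliser order divides the gcd -/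
theorem card_inf_dvd (H C : Subgroup S) {n c : ℕ} (hH : Nat.card H = n) (hC : Nat.card C = c) :
    Nat.card (H ⊓ C : Subgroup S) ∣ Nat.gcd n c := by
  rw [← hH, ← hC]
  exact Nat.dvd_gcd (card_dvd_of_le inf_le_left) (card_dvd_of_le inf_le_right)

/-- a `p`-group in the sense of orders -/
theorem card_pow_of_ord {A : Subgroup S} {p : ℕ} (hp : p.Prime) (h : ∀ a ∈ A, a ≠ 1 → orderOf a = p) :
    ∃ k, Nat.card A = p ^ k := by
  have : Fact p.Prime := ⟨hp⟩
  rw [← IsPGroup.iff_card]
  intro a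
  refine ⟨1, ?_⟩
  rw [pow_one]
  by_cases ha : (a : S) = 1
  · rw [show a = 1 from Subtype.ext ha, one_pow]
  · apply Subtype.ext
    rw [SubmonoidClass.coe_pow, ← h a a.2 ha, pow_orderOf_eq_one]; rfl

end Cfsg.Agent.H982.PiJ

namespace Cfsg.Agent.H982.PiJ.J2

open Subgroup Cfsg Cfsg.Agent.H543.PiBS Cfsg.Agent.H982.PiJ Cfsg.Spor

variable {G : Type} [Group G]

theorem simple (h : IsoJ2 G) : IsSimpleGroup G := by
  obtain ⟨e⟩ := h
  exact (MulEquiv.isSimpleGroup_congr e).2 Cfsg.Agent.S1620.result.1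

/-- every proper subgroup has index at least 32 -/
theorem lb [Finite G] (h : IsoJ2 G) (M : Subgroup G) (hM : M ≠ ⊤) : 32 ≤ M.index := by
  have := simple h
  obtain ⟨t, u, Q, v, ρ, D⟩ := KFacts.J2.Facts.exists_dat_of h
  have hX := KFacts.J2.SheetX.sheetX D
  have hS : H394.SqSheet.Sh t (centralizer ({t} : Set G)) (Q.map (centralizer ({t} : Set G)).subtype) := {
    zz := hX.zz
    z1 := hX.z1
    zR := hX.zR
    RP := hX.RP
    cen := hX.cen
    perf := hX.perf
    R2 := hX.R2
    Rn := hX.Rn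
    Rmin := hX.Rmin
    Rna := hX.Rna }
  have hc : Nat.card (Q.map (centralizer ({t} : Set G)).subtype) = 32 := by
    rw [card_map_of_injective (Subtype.val_injective)]
    exact D.cardQ
  obtain ⟨x, hx⟩ := H394.SqSporBase.exists_moved hM hX.z1
  rcases H394.SqSheet.orbit_bound hS x hx with h3 | ⟨A, hA1, hA2, r, h3, h4⟩
  · rw [hc] at h3
    exact h3
  · have h5 : Nat.card (G ⧸ M) = M.index := rfl
    rw [h5] at h3
    rw [hc] at h4
    have h6 := H394.SqSheet.five_le_relIndex hX.perf hA2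
    have h7 : 8 ≤ r := by
      by_contra hlt
      have : r * r ≤ 7 * 7 := Nat.mul_le_mul (by omega) (by omega)
      omega
    have h8 : 5 * 8 ≤ A.relIndex (centralizer ({t} : Set G)) * r := Nat.mul_le_mul h6 h7
    omega

theorem row0 [Finite G] (h : IsoJ2 G) {pi : Set ℕ} (h2 : 2 ∈ pi) (h3 : 3 ∈ pi) (hD : DC pi G) : PiGrp pi G := by
  have : Fact (Nat.Prime 3) := ⟨Nat.prime_three⟩
  obtain ⟨t, u, Q, v, ρ, D⟩ := KFacts.J2.Facts.exists_dat_of h
  have F := D.F
  have hG : Nat.card G = 604800 := J2Type.Order.card_of_fus F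
  obtain ⟨R⟩ : Nonempty (Sylow 3 G) := inferInstance
  obtain ⟨-, hR, hNR, -⟩ := J2Type.ThreeF.sylow_three F R
  have hN : IsPiSubgroup pi (normalizer ((R : Subgroup G) : Set G)) := by
    intro p hp hd
    rw [hNR, show (216 : ℕ) = 2 ^ 3 * 3 ^ 3 by norm_num] at hd
    rcases (hp.dvd_mul).1 hd with h4 | h4
    · rw [(Nat.prime_dvd_prime_iff_eq hp Nat.prime_two).1 (hp.dvd_of_dvd_pow h4)]; exact h2
    · rw [(Nat.prime_dvd_prime_iff_eq hp Nat.prime_three).1 (hp.dvd_of_dvd_pow h4)]; exact h3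
  obtain ⟨H, hH, hle, hmod⟩ := sieve hD R hN
  have hmul := H.card_mul_index
  rw [hG] at hmul
  have hn2 : ¬ 2 ∣ H.index := hH.2 2 Nat.prime_two h2
  have hn3 : ¬ 3 ∣ H.index := hH.2 3 Nat.prime_three h3
  have hn : H.index ∣ 175 := by
    refine strip (a := 7) (b := 3) ?_ hn2 hn3
    rw [show 2 ^ 7 * (3 ^ 3 * 175) = 604800 by norm_num, ← hmul]
    exact Dvd.intro_left _ rfl
  by_cases hT : H = ⊤
  · intro p hp hd
    exact hH.1 p hp (by rw [hT, card_top]; exact hd)
  exfalso
  have h32 := lb h H hT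
  have hcase : H.index = 35 ∨ H.index = 175 := by
    have h5 : H.index ∈ Nat.divisors 175 := Nat.mem_divisors.2 ⟨hn, by norm_num⟩
    rw [show Nat.divisors 175 = {1, 5, 7, 25, 35, 175} by decide +kernel] at h5
    simp only [Finset.mem_insert, Finset.mem_singleton] at h5
    omega
  rcases hcase with h35 | h175
  · rw [h35] at hmod
    exact absurd hmod (by decide)
  have hcH : Nat.card H = 3456 := by rw [h175] at hmul; omega
  obtain ⟨A, p, hp, hAH, hAn, hAb, hord⟩ := exists_A (a := 7) (b := 3) (H := H) (by rw [hcH]; norm_num) (by rw [hcH]; norm_num)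
  have hAd : Nat.card A ∣ 3456 := by rw [← hcH]; exact card_dvd_of_le hAH
  have hA1 : Nat.card A ≠ 1 := fun h => hAb (card_eq_one.1 h)
  -- involutions
  have hinv : ∀ a : G, orderOf a = 2 → Nat.card (centralizer ({a} : Set G)) = 1920 ∨
      Nat.card (centralizer ({a} : Set G)) = 240 := by
    intro a ha
    rcases F.cover a ha with h1 | h1
    · left; rw [← J2Type.Cent5.card_centralizer_of_isConj h1, F.cardC]
    · right; rw [← J2Type.Cent5.card_centralizer_of_isConj h1, J2Type.Order.card_centralizer_u F]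
  rcases hp with rfl | rfl
  · -- `p = 2`
    obtain ⟨k, hk⟩ := card_pow_of_ord Nat.prime_two hord
    have h9 : 9 ∣ Nat.card A - 1 := by
      refine orbit_dvd hAn fun a ha ha1 => ?_
      rcases hinv a (hord a ha ha1) with h1 | h1
      · have h4 := card_inf_dvd H (centralizer ({a} : Set G)) hcH h1
        rw [show Nat.gcd 3456 1920 = 384 by norm_num] at h4
        rw [hcH, show 3456 = 9 * 384 by norm_num]
        exact Nat.mul_dvd_mul_left 9 h4
      · have h4 := card_inf_dvd H (centralizer ({a} : Set G)) hcH h1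
        rw [show Nat.gcd 3456 240 = 48 by norm_num] at h4
        rw [hcH, show 3456 = 9 * 384 by norm_num]
        exact Nat.mul_dvd_mul_left 9 (h4.trans (by norm_num))
    have hdis : ∀ x ∈ A, x ∈ normalizer ((R : Subgroup G) : Set G) → x = 1 := by
      intro x hx hxN
      by_contra hx1
      have hxC : (R : Subgroup G) ≤ centralizer ({x} : Set G) := by
        intro r hr
        rw [mem_centralizer_singleton_iff]
        have hrH : r ∈ H := hle (le_normalizer hr)
        have h4 : x * r * x⁻¹ * r⁻¹ ∈ A := by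
          have : x * r * x⁻¹ * r⁻¹ = x * (r * x⁻¹ * r⁻¹) := by group
          rw [this]
          exact A.mul_mem hx (hAn r hrH _ (A.inv_mem hx))
        have h5 : x * r * x⁻¹ * r⁻¹ ∈ (R : Subgroup G) :=
          mul_mem ((mem_normalizer_iff.1 hxN r).1 hr) (inv_mem hr)
        have h6 : x * r * x⁻¹ * r⁻¹ = 1 := by
          by_contra h7
          have h8 := hord _ h4 h7
          have h9 : orderOf (x * r * x⁻¹ * r⁻¹) ∣ Nat.card R := by
            have := orderOf_dvd_natCard (⟨_, h5⟩ : (R : Subgroup G))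
            rwa [Subgroup.orderOf_mk] at this
          rw [h8, hR] at h9
          omega
        rw [mul_inv_eq_one, mul_inv_eq_iff_eq_mul] at h6
        exact h6.symm
      have h4 := card_dvd_of_le hxC
      rw [hR] at h4
      rcases hinv x (hord x hx hx1) with h1 | h1 <;> rw [h1] at h4 <;> omega
    have h4 := card_le_of_disjoint hAH hle hdis
    rw [hNR, hcH] at h4
    have h5 : Nat.card A ≤ 16 := by omega
    rw [hk] at h5 h9 hA1
    have hk4 : k ≤ 4 := by
      by_contra hlt
      have : 2 ^ 5 ≤ 2 ^ k := Nat.pow_le_pow_right (by norm_num) (by omega)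
      omega
    interval_cases k <;> omega
  · -- `p = 3`
    obtain ⟨k, hk⟩ := card_pow_of_ord Nat.prime_three hord
    obtain ⟨a, b, -, -, hca, hcb, hcl, -⟩ := J2Type.ThreeF.main F
    have h16 : 16 ∣ Nat.card A - 1 := by
      refine orbit_dvd hAn fun x hx hx1 => ?_
      have h1 : Nat.card (centralizer ({x} : Set G)) = 1080 ∨ Nat.card (centralizer ({x} : Set G)) = 36 := by
        rcases hcl x (hord x hx hx1) with h1 | h1
        · left; rw [J2Type.Cent5.card_centralizer_of_isConj h1, hca]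
        · right; rw [J2Type.Cent5.card_centralizer_of_isConj h1, hcb]
      rcases h1 with h1 | h1
      · have h4 := card_inf_dvd H (centralizer ({x} : Set G)) hcH h1
        rw [show Nat.gcd 3456 1080 = 216 by norm_num] at h4
        rw [hcH, show 3456 = 16 * 216 by norm_num]
        exact Nat.mul_dvd_mul_left 16 h4
      · have h4 := card_inf_dvd H (centralizer ({x} : Set G)) hcH h1
        rw [show Nat.gcd 3456 36 = 36 by norm_num] at h4
        rw [hcH, show 3456 = 16 * 216 by norm_num]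
        exact Nat.mul_dvd_mul_left 16 (h4.trans (by norm_num))
    rw [hk] at h16 hA1 hAd
    have hk3 : k ≤ 3 := by
      by_contra hlt
      have h4 : 3 ^ 4 ∣ 3 ^ k := pow_dvd_pow 3 (by omega)
      have := h4.trans hAd
      omega
    interval_cases k <;> omega

end Cfsg.Agent.H982.PiJ.J2

namespace Cfsg.Agent.H982.PiJ.J3

open Subgroup Cfsg Cfsg.Agent.H543.PiBS Cfsg.Agent.H982.PiJ Cfsg.Spor Cfsg.Agent.J3Type.OneClass

universe u

variable {K : Type u} [Group K]

/-- the Sylow subgroup generated by an element of prime order `p`, `p ∥ |K|` -/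
theorem exists_syl [Finite K] {p : ℕ} (hp : p.Prime) (h : ¬ p ^ 2 ∣ Nat.card K) {y : K} (hy : orderOf y = p) :
    ∃ R : Sylow p K, (R : Subgroup K) = zpowers y :=
  have : Fact p.Prime := ⟨hp⟩
  ⟨Sylow.ofCard (zpowers y) (Cfsg.Agent.H836.Sylow.card_pow_fact hp h (by rw [Nat.card_zpowers, hy])), rfl⟩

theorem exists_ord [Finite K] {p : ℕ} (hp : p.Prime) (h : p ∣ Nat.card K) : ∃ y : K, orderOf y = p := by
  have := Fact.mk hp
  exact exists_prime_orderOf_dvd_card' p h

/-- the primes of the centralizer of an element of order `q` with `|C(g)| = q` do not divide other centralizers -/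
theorem not_dvd_cent [Finite K] {q : ℕ} (hq : q.Prime)
    (h : ∀ g : K, orderOf g = q → Nat.card (centralizer ({g} : Set K)) = q) {y : K} {p : ℕ} (hy : orderOf y = p)
    (hp : p.Prime) (hpq : p ≠ q) : ¬ q ∣ Nat.card (centralizer ({y} : Set K)) := by
  intro hd
  have := Fact.mk hq
  obtain ⟨g, hg⟩ := exists_prime_orderOf_dvd_card' q hd
  have hg' : orderOf (g : K) = q := by rw [← hg]; exact Subgroup.orderOf_coe g
  have h1 := h g hg'
  have h2 : y ∈ centralizer ({(g : K)} : Set K) := by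
    rw [mem_centralizer_singleton_iff]
    exact (mem_centralizer_singleton_iff.1 g.2).symm
  have h3 : orderOf (⟨y, h2⟩ : centralizer ({(g : K)} : Set K)) = p := by rw [Subgroup.orderOf_mk, hy]
  have h4 := orderOf_dvd_natCard (⟨y, h2⟩ : centralizer ({(g : K)} : Set K))
  rw [h3, h1] at h4
  exact hpq ((Nat.prime_dvd_prime_iff_eq hp hq).1 h4)

theorem row (h : IsoJ3 K) {pi : Set ℕ} (h2 : 2 ∈ pi) (h3 : 3 ∈ pi) (hD : DC pi K) : PiGrp pi K := by
  obtain ⟨-, hG, hM⟩ := Cfsg.Agent.H898.J3Cent.base h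
  have hfin : Finite K := Nat.finite_of_card_ne_zero (by rw [hG]; norm_num)
  obtain ⟨-, -, hone, -⟩ := Cfsg.Agent.CpAutJThree.base h
  obtain ⟨H0, hH0, -⟩ := hD.d ⊥ (pi_bot pi)
  have hidx : ∀ H : Subgroup K, IsPiHall pi H → H.index = H0.index := by
    intro H hH
    obtain ⟨g, hg⟩ := hD.c H0 H hH0 hH
    rw [hg]
    exact index_map_equiv (MulAut.conj g) H0
  have hn2 : ¬ 2 ∣ H0.index := hH0.2 2 Nat.prime_two h2
  have hn3 : ¬ 3 ∣ H0.index := hH0.2 3 Nat.prime_three h3
  have hmul := H0.card_mul_index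
  rw [hG] at hmul
  have hn : H0.index ∣ 1615 := by
    refine strip (a := 7) (b := 5) ?_ hn2 hn3
    rw [show 2 ^ 7 * (3 ^ 5 * 1615) = 50232960 by norm_num, ← hmul]
    exact Dvd.intro_left _ rfl
  have hcase : H0.index = 1 ∨ H0.index = 5 ∨ H0.index = 17 ∨ H0.index = 19 ∨ H0.index = 85 ∨ H0.index = 95 ∨
      H0.index = 323 ∨ H0.index = 1615 := by
    have h5 : H0.index ∈ Nat.divisors 1615 := Nat.mem_divisors.2 ⟨hn, by norm_num⟩
    rw [show Nat.divisors 1615 = {1, 5, 17, 19, 85, 95, 323, 1615} by decide +kernel] at h5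
    simp only [Finset.mem_insert, Finset.mem_singleton] at h5
    omega
  -- coprimality : the primes not in `pi` divide the index
  have hin : ∀ p : ℕ, p.Prime → p ∣ Nat.card K → p ∉ pi → p ∣ H0.index := by
    intro p hp hd hpi
    rw [← H0.card_mul_index] at hd
    rcases (hp.dvd_mul).1 hd with h5 | h5
    · exact absurd (hH0.1 p hp h5) hpi
    · exact h5
  have p19 : Nat.Prime 19 := by norm_num
  have p17 : Nat.Prime 17 := by norm_num
  have p5 : Nat.Prime 5 := by norm_num
  by_cases m19 : 19 ∈ pi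
  · have : Fact (Nat.Prime 19) := ⟨p19⟩
    obtain ⟨y, hy⟩ := exists_ord (K := K) p19 (by rw [hG]; norm_num)
    obtain ⟨R, hR⟩ := exists_syl p19 (by rw [hG]; norm_num) hy
    have hNR := Cfsg.Agent.H898.J3Cent.card_normalizer_nineteen h hy
    obtain ⟨H, hH, -, hmod⟩ := sieve hD R (by
      intro p hp hd
      rw [hR, hNR, show (19 * 9 : ℕ) = 19 * 3 ^ 2 by norm_num] at hd
      rcases (hp.dvd_mul).1 hd with h4 | h4
      · rw [(Nat.prime_dvd_prime_iff_eq hp p19).1 h4]; exact m19
      · rw [(Nat.prime_dvd_prime_iff_eq hp Nat.prime_three).1 (hp.dvd_of_dvd_pow h4)]; exact h3)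
    rw [hidx H hH] at hmod
    have h19n : ¬ 19 ∣ H0.index := hH0.2 19 p19 m19
    have h1 : H0.index = 1 := by
      rcases hcase with h4 | h4 | h4 | h4 | h4 | h4 | h4 | h4
      · exact h4
      all_goals
        exfalso
        rw [h4] at hmod h19n
        revert hmod h19n
        decide
    intro p hp hd
    exact hH0.1 p hp (by rw [index_eq_one.1 h1, card_top]; exact hd)
  exfalso
  have h19n := hin 19 p19 (by rw [hG]; norm_num) m19
  by_cases m17 : 17 ∈ pi
  · have : Fact (Nat.Prime 17) := ⟨p17⟩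
    obtain ⟨y, hy⟩ := exists_ord (K := K) p17 (by rw [hG]; norm_num)
    obtain ⟨R, hR⟩ := exists_syl p17 (by rw [hG]; norm_num) hy
    obtain ⟨-, hNR⟩ := Cfsg.Agent.H898.J3Cent.seventeen h hy
    obtain ⟨H, hH, -, hmod⟩ := sieve hD R (by
      intro p hp hd
      rw [hR, hNR, show (17 * 8 : ℕ) = 17 * 2 ^ 3 by norm_num] at hd
      rcases (hp.dvd_mul).1 hd with h4 | h4
      · rw [(Nat.prime_dvd_prime_iff_eq hp p17).1 h4]; exact m17
      · rw [(Nat.prime_dvd_prime_iff_eq hp Nat.prime_two).1 (hp.dvd_of_dvd_pow h4)]; exact h2)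
    rw [hidx H hH] at hmod
    have h17n : ¬ 17 ∣ H0.index := hH0.2 17 p17 m17
    rcases hcase with h4 | h4 | h4 | h4 | h4 | h4 | h4 | h4
    all_goals
      rw [h4] at hmod h17n h19n
      revert hmod h17n h19n
      decide
  have h17n := hin 17 p17 (by rw [hG]; norm_num) m17
  by_cases m5 : 5 ∈ pi
  · have : Fact (Nat.Prime 5) := ⟨p5⟩
    obtain ⟨y, hy⟩ := exists_ord (K := K) p5 (by rw [hG]; norm_num)
    obtain ⟨R, hR⟩ := exists_syl p5 (by rw [hG]; norm_num) hy
    obtain ⟨n, k, -, hk, -, hNR⟩ := Cfsg.Agent.H836.Sylow.card_normalizer (G := K) (p := 5) (X := zpowers y) p5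
      (by rw [hG]; norm_num) (by rw [Nat.card_zpowers, hy])
    rw [Cfsg.Agent.H898.J3Cent.centralizer_zpowers] at hNR
    have hq : ∀ q : ℕ, (q = 17 ∨ q = 19) → q.Prime → (∀ g : K, orderOf g = q → Nat.card (centralizer ({g} : Set K)) = q) →
        ¬ q ∣ Nat.card ↥(normalizer ((zpowers y : Subgroup K) : Set K)) := by
      intro q hq1 hq hc hd
      rw [hNR] at hd
      rcases (hq.dvd_mul).1 hd with h5 | h5
      · exact not_dvd_cent hq hc hy p5 (by omega) h5
      · have := Nat.le_of_dvd (by norm_num) (h5.trans hk)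
        omega
    obtain ⟨H, hH, -, hmod⟩ := sieve hD R (by
      intro p hp hd
      rw [hR] at hd
      have hpK : p ∣ 50232960 := by rw [← hG]; exact hd.trans (card_subgroup_dvd_card _)
      rcases Cfsg.Agent.H898.J3Cent.prime_dvd_card hp hpK with rfl | rfl | rfl | rfl | rfl
      · exact h2
      · exact h3
      · exact m5
      · exact absurd hd (hq 17 (Or.inl rfl) p17 fun g hg => (Cfsg.Agent.H898.J3Cent.seventeen h hg).1)
      · exact absurd hd (hq 19 (Or.inr rfl) p19 fun g hg => Cfsg.Agent.H898.J3Cent.card_nineteen h hg))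
    rw [hidx H hH] at hmod
    have h5n : ¬ 5 ∣ H0.index := hH0.2 5 p5 m5
    rcases hcase with h4 | h4 | h4 | h4 | h4 | h4 | h4 | h4
    all_goals
      rw [h4] at hmod h5n h17n h19n
      revert hmod h5n h17n h19n
      decide
  have h5n := hin 5 p5 (by rw [hG]; norm_num) m5
  have hidx' : H0.index = 1615 := by
    rcases hcase with h4 | h4 | h4 | h4 | h4 | h4 | h4 | h4
    all_goals
      first
        | exact h4
        | exfalso
          rw [h4] at h5n h17n h19n
          revert h5n h17n h19n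
          decide
  have hcH : Nat.card H0 = 31104 := by rw [hidx'] at hmul; omega
  obtain ⟨A, p, hp, hAH, hAn, hAb, hord⟩ := exists_A (a := 7) (b := 5) (H := H0) (by rw [hcH]; norm_num)
    (by rw [hcH]; norm_num)
  have hAd : Nat.card A ∣ 31104 := by rw [← hcH]; exact card_dvd_of_le hAH
  have hA1 : Nat.card A ≠ 1 := fun h => hAb (card_eq_one.1 h)
  rcases hp with rfl | rfl
  · -- `p = 2`
    obtain ⟨k, hk⟩ := card_pow_of_ord Nat.prime_two hord
    have h81 : 81 ∣ Nat.card A - 1 := by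
      refine orbit_dvd hAn fun a ha ha1 => ?_
      have h1 := (hM a (hord a ha ha1)).2.1
      have h4 := card_inf_dvd H0 (centralizer ({a} : Set K)) hcH h1
      rw [show Nat.gcd 31104 1920 = 384 by norm_num] at h4
      rw [hcH, show 31104 = 81 * 384 by norm_num]
      exact Nat.mul_dvd_mul_left 81 h4
    rw [hk] at h81 hA1 hAd
    have hk7 : k ≤ 7 := by
      by_contra hlt
      have h4 : 2 ^ 8 ∣ 2 ^ k := pow_dvd_pow 2 (by omega)
      have := h4.trans hAd
      omega
    interval_cases k <;> omega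
  · -- `p = 3`
    obtain ⟨k, hk⟩ := card_pow_of_ord Nat.prime_three hord
    obtain ⟨c, hc, ⟨s, hs, hsc⟩, hcc⟩ := Cfsg.Agent.CpAutJThree.exc h
    have hx : ∀ x : K, orderOf x = 3 → (Nat.card (H0 ⊓ centralizer ({x} : Set K) : Subgroup K) ∣ 216 ∨
        Nat.card (H0 ⊓ centralizer ({x} : Set K) : Subgroup K) ∣ 243) := by
      intro x hx
      by_cases hodd : 2 ∣ Nat.card (centralizer ({x} : Set K))
      · left
        obtain ⟨t, ht⟩ := exists_ord Nat.prime_two hodd
        have ht' : orderOf (t : K) = 2 := by rw [← ht]; exact Subgroup.orderOf_coe t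
        obtain ⟨g, hg⟩ := Cfsg.Agent.CpAutJThree.conj_three hM hone hc hx hs ht' hsc
          (mem_centralizer_singleton_iff.1 t.2)
        have h1 := Cfsg.Agent.CpAutJThree.card_centralizer_conj g hg
        rw [hcc] at h1
        have h4 := card_inf_dvd H0 (centralizer ({x} : Set K)) hcH h1.symm
        rwa [show Nat.gcd 31104 1080 = 216 by norm_num] at h4
      · right
        have h4 : Nat.card (H0 ⊓ centralizer ({x} : Set K) : Subgroup K) ∣ 2 ^ 7 * 243 := by
          rw [show 2 ^ 7 * 243 = 31104 by norm_num, ← hcH]; exact card_dvd_of_le inf_le_left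
        have h5 : ¬ 2 ∣ Nat.card (H0 ⊓ centralizer ({x} : Set K) : Subgroup K) := fun h5 =>
          hodd (h5.trans (card_dvd_of_le inf_le_right))
        exact (((Nat.Prime.coprime_iff_not_dvd Nat.prime_two).2 h5).symm.pow_right 7).dvd_of_dvd_mul_left h4
    have h16 : 16 ∣ Nat.card A - 1 := by
      refine orbit_dvd hAn fun x hx' hx1 => ?_
      rcases hx x (hord x hx' hx1) with h1 | h1
      · rw [hcH, show 31104 = 16 * 1944 by norm_num]
        exact Nat.mul_dvd_mul_left 16 (h1.trans (by norm_num))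
      · rw [hcH, show 31104 = 16 * 1944 by norm_num]
        exact Nat.mul_dvd_mul_left 16 (h1.trans (by norm_num))
    obtain ⟨a, ha, ha1⟩ := A.bot_or_exists_ne_one.resolve_left hAb
    have h128 : 128 ≤ Nat.card A - 1 := by
      have h4 := orbit_le hAn ha ha1
      rw [hcH] at h4
      have h5 : Nat.card (H0 ⊓ centralizer ({a} : Set K) : Subgroup K) ≤ 243 := by
        rcases hx a (hord a ha ha1) with h1 | h1
        · exact (Nat.le_of_dvd (by norm_num) h1).trans (by norm_num)
        · exact Nat.le_of_dvd (by norm_num) h1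
      have h6 : 31104 ≤ (Nat.card A - 1) * 243 := h4.trans (Nat.mul_le_mul_left _ h5)
      omega
    rw [hk] at h16 hA1 hAd h128
    have hk5 : k ≤ 5 := by
      by_contra hlt
      have h4 : 3 ^ 6 ∣ 3 ^ k := pow_dvd_pow 3 (by omega)
      have := h4.trans hAd
      omega
    interval_cases k <;> omega

end Cfsg.Agent.H982.PiJ.J3

namespace Cfsg.Agent.H982.PiJ

open Subgroup Cfsg Cfsg.Agent.H543.PiBS

theorem row_J2 {S : Type*} [Group S] [Finite S] (h : Cfsg.Spor.IsoJ2 S) {pi : Set ℕ} (h2 : 2 ∈ pi) (h3 : 3 ∈ pi)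
    (hD : DC pi S) : PiGrp pi S := by
  obtain ⟨e⟩ := h
  have hfin : Finite Cfsg.Spor.J2 := Finite.of_equiv _ e.toEquiv
  have h1 := J2.row0 (G := Cfsg.Spor.J2) ⟨MulEquiv.refl _⟩ h2 h3 (hD.congr e)
  intro p hp hd
  exact h1 p hp (by rw [← Nat.card_congr e.toEquiv]; exact hd)

theorem row_J3 {S : Type*} [Group S] [Finite S] (h : Cfsg.Spor.IsoJ3 S) {pi : Set ℕ} (h2 : 2 ∈ pi) (h3 : 3 ∈ pi)
    (hD : DC pi S) : PiGrp pi S := J3.row h h2 h3 hD

end Cfsg.Agent.H982.PiJ

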