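import Cfsg.Agent.H982.LawSL

/-!
# Non-central values of words: transport, `SL₂`, symmetric and alternating groups (helper982)
-/

set_option autoImplicit false

open Polynomial
open scoped commutatorElement

namespace Cfsg.Agent.H982.LawNC

open Cfsg.Agent.H982.LawWord Cfsg.Agent.H982.LawSL

/-- the word `w` has a non-central value in `H` -/
def NC (w : FreeGroup ℕ) (H : Type*) [Group H] : Prop := ∃ f : ℕ → H, FreeGroup.lift f w ∉ Subgroup.center H

section general

variable {w : FreeGroup ℕ} {H H' : Type*} [Group H] [Group H']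

theorem NC.map (h : NC w H) (φ : H →* H') (hφ : Function.Injective φ) : NC w H' := by
  obtain ⟨f, hf⟩ := h
  refine ⟨fun i => φ (f i), fun hc => hf ?_⟩
  rw [← lift_comp φ f w] at hc
  rw [Subgroup.mem_center_iff] at hc ⊢
  intro x
  apply hφ
  rw [map_mul, map_mul, hc]

theorem NC.exists_ne_one (h : NC w H) : ∃ f : ℕ → H, FreeGroup.lift f w ≠ 1 := by
  obtain ⟨f, hf⟩ := h
  exact ⟨f, fun h => hf (h ▸ Subgroup.one_mem _)⟩

theorem NC.quot (h : NC w H) : ∃ f : ℕ → H ⧸ Subgroup.center H, FreeGroup.lift f w ≠ 1 := by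
  obtain ⟨f, hf⟩ := h
  refine ⟨fun i => QuotientGroup.mk' _ (f i), ?_⟩
  rw [← lift_comp (QuotientGroup.mk' (Subgroup.center H)) f w]
  intro h
  exact hf ((QuotientGroup.eq_one_iff _).1 h)

theorem NC.of_subgroup {K : Subgroup H} (h : NC w K) : NC w H := h.map K.subtype K.subtype_injective

/-- transport of commutator subgroups -/
theorem NC.comm (h : NC w (commutator H)) (φ : H →* H') (hφ : Function.Injective φ) : NC w (commutator H') := by
  have hle : (commutator H).map φ ≤ commutator H' := by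
    rw [commutator_def, commutator_def, Subgroup.map_commutator]
    exact Subgroup.commutator_mono le_top le_top
  let ψ : commutator H →* commutator H' :=
    (φ.comp (commutator H).subtype).codRestrict (commutator H') fun x =>
      hle ⟨x, x.2, rfl⟩
  refine h.map ψ ?_
  intro x y hxy
  have := congrArg Subtype.val hxy
  exact Subtype.ext (hφ this)

/-- a word with a non-central value in the commutator subgroup: into any subgroup of the target containing commutators -/
theorem NC.comm_le (h : NC w (commutator H)) (φ : H →* H') (hφ : Function.Injective φ) {K : Subgroup H'}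
    (hK : commutator H' ≤ K) : NC w K :=
  (h.comm φ hφ).map (Subgroup.inclusion hK) (Subgroup.inclusion_injective hK)

end general

section sl

variable (F : Type*) [Field F]

theorem not_mem_center {g : Matrix.SpecialLinearGroup (Fin 2) F} (hg : (g : Matrix (Fin 2) (Fin 2) F) 1 0 ≠ 0) :
    g * up 1 ≠ up 1 * g := by
  intro h
  have := congrFun (congrFun (congrArg Subtype.val h) 0) 0
  rw [Matrix.SpecialLinearGroup.coe_mul, Matrix.SpecialLinearGroup.coe_mul, coe_up] at this
  simp [Matrix.mul_apply, Fin.sum_univ_two] at this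
  exact hg this

variable [Fintype F]

theorem exists_lam (h4 : 4 ≤ Fintype.card F) : ∃ a : F, a ≠ 0 ∧ a * a ≠ 1 := by
  have hd : natDegree (X ^ 3 - X : F[X]) = 3 := by
    compute_degree!
  have h0 : (X ^ 3 - X : F[X]) ≠ 0 := by
    intro h
    rw [h] at hd
    simp at hd
  obtain ⟨t, ht⟩ := exists_eval_ne_zero_of_natDegree_lt_card (X ^ 3 - X : F[X]) h0 (by
    rw [hd, Cardinal.mk_fintype]
    exact_mod_cast h4)
  refine ⟨t, ?_, ?_⟩
  · rintro rfl
    simp at ht
  · intro h
    apply ht
    simp only [eval_sub, eval_pow, eval_X]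
    linear_combination t * h

theorem up_mem (h4 : 4 ≤ Fintype.card F) (b : F) : up b ∈ commutator (Matrix.SpecialLinearGroup (Fin 2) F) := by
  obtain ⟨a, ha0, ha⟩ := exists_lam F h4
  have ha' : a * a - 1 ≠ 0 := sub_ne_zero.2 ha
  have ha2 : a ^ 2 - 1 ≠ 0 := by rwa [sq]
  let d : Matrix.SpecialLinearGroup (Fin 2) F := ⟨!![a, 0; 0, a⁻¹], by simp [Matrix.det_fin_two, ha0]⟩
  have hd : (d : Matrix (Fin 2) (Fin 2) F) = !![a, 0; 0, a⁻¹] := rfl
  have key : up b = ⁅d, up (b / (a * a - 1))⁆ := by
    rw [commutatorElement_def, eq_mul_inv_iff_mul_eq, eq_mul_inv_iff_mul_eq]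
    apply Subtype.ext
    rw [Matrix.SpecialLinearGroup.coe_mul, Matrix.SpecialLinearGroup.coe_mul, Matrix.SpecialLinearGroup.coe_mul, hd, coe_up,
      coe_up, Matrix.mul_fin_two, Matrix.mul_fin_two, Matrix.mul_fin_two]
    ext i j
    fin_cases i <;> fin_cases j
    · simp
    · simp
      field_simp
      ring
    · simp
    · simp
  rw [key]
  exact Subgroup.commutator_mem_commutator (Subgroup.mem_top _) (Subgroup.mem_top _)

theorem lo_mem (h4 : 4 ≤ Fintype.card F) (b : F) : lo b ∈ commutator (Matrix.SpecialLinearGroup (Fin 2) F) := by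
  let s : Matrix.SpecialLinearGroup (Fin 2) F := ⟨!![0, 1; -1, 0], by simp [Matrix.det_fin_two]⟩
  have hs : (s : Matrix (Fin 2) (Fin 2) F) = !![0, 1; -1, 0] := rfl
  have key : lo b = s⁻¹ * up (-b) * s := by
    rw [mul_assoc, eq_inv_mul_iff_mul_eq]
    apply Subtype.ext
    rw [Matrix.SpecialLinearGroup.coe_mul, Matrix.SpecialLinearGroup.coe_mul, hs, coe_up,
      coe_lo, Matrix.mul_fin_two, Matrix.mul_fin_two]
    ext i j
    fin_cases i <;> fin_cases j <;> simp
  rw [key]
  have hn : (commutator (Matrix.SpecialLinearGroup (Fin 2) F)).Normal := inferInstance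
  have := hn.conj_mem _ (up_mem F h4 (-b)) s⁻¹
  rwa [inv_inv] at this

theorem let2_mem (h4 : 4 ≤ Fintype.card F) (t : F) (i : ℕ) :
    let2 t i ∈ commutator (Matrix.SpecialLinearGroup (Fin 2) F) :=
  mul_mem (mul_mem (up_mem F h4 _) (lo_mem F h4 _)) (up_mem F h4 _)

/-- **`SL₂(F)`, `F` large** -/
theorem nc_sl2 {w : FreeGroup ℕ} (hw : w ≠ 1) (hN : PP.bnd w.toWord + 4 ≤ Fintype.card F) :
    NC w (commutator (Matrix.SpecialLinearGroup (Fin 2) F)) := by
  have h4 : 4 ≤ Fintype.card F := by omega
  obtain ⟨t, ht⟩ := exists_entry_ne_zero F hw (by omega)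
  refine ⟨fun i => ⟨let2 t i, let2_mem F h4 t i⟩, fun hc => ?_⟩
  have hc' := Subgroup.mem_center_iff.1 hc ⟨up 1, up_mem F h4 1⟩
  have hl := lift_comp (commutator (Matrix.SpecialLinearGroup (Fin 2) F)).subtype
    (fun i => (⟨let2 t i, let2_mem F h4 t i⟩ : commutator (Matrix.SpecialLinearGroup (Fin 2) F))) w
  have hc2 := congrArg (commutator (Matrix.SpecialLinearGroup (Fin 2) F)).subtype hc'
  rw [map_mul, map_mul, hl] at hc2
  exact not_mem_center F ht hc2.symm

end sl

/-- the bound for symmetric groups: some finite group in which `w` has non-central values on commutators -/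
theorem nc_perm {w : FreeGroup ℕ} (hw : w ≠ 1) :
    ∃ N : ℕ, ∀ k : ℕ, N ≤ k → NC w (commutator (Equiv.Perm (Fin k))) := by
  obtain ⟨p, hp, hpp⟩ := Nat.exists_infinite_primes (PP.bnd w.toWord + 4)
  have : Fact p.Prime := ⟨hpp⟩
  have h := nc_sl2 (ZMod p) hw (by rw [ZMod.card]; exact hp)
  let H := Matrix.SpecialLinearGroup (Fin 2) (ZMod p)
  have : Finite H := inferInstance
  refine ⟨Nat.card H, fun k hk => ?_⟩
  let ι : H ↪ Fin k := (Finite.equivFin H).toEmbedding.trans (Fin.castLEEmb hk)
  have hι : Function.Injective ((Equiv.Perm.viaEmbeddingHom ι).comp (MulAction.toPermHom H H)) := by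
    refine (Equiv.Perm.viaEmbeddingHom_injective ι).comp ?_
    exact MulAction.toPerm_injective
  exact h.comm _ hι

theorem commutator_le_alternating (k : ℕ) : commutator (Equiv.Perm (Fin k)) ≤ alternatingGroup (Fin k) := by
  rw [alternatingGroup]
  exact Abelianization.commutator_subset_ker _

theorem nc_alternating {w : FreeGroup ℕ} (hw : w ≠ 1) :
    ∃ N : ℕ, ∀ k : ℕ, N ≤ k → NC w (alternatingGroup (Fin k)) := by
  obtain ⟨N, hN⟩ := nc_perm hw
  exact ⟨N, fun k hk => (hN k hk).map (Subgroup.inclusion (commutator_le_alternating k)) (Subgroup.inclusion_injective _)⟩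

end Cfsg.Agent.H982.LawNC
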