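import Cfsg.Agent.H607.TW.Defs
import Cfsg.Agent.ClassicalGeometry.AutPSL.Main
import Cfsg.Agent.S0248
import Cfsg.Agent.H982.LawNC

/-!
# S3694, T1: the model of `PSL_n(F)` (helper982)

* `model_sl` : a normal subgroup `N ≃* PSL_n(F)` with trivial centralizer has a `Model`;
* `index_sl` : `|G : N| ≤ 2 |Aut F| |Z|`.
-/

set_option autoImplicit false

namespace Cfsg.Agent.H982.TWModel

open Subgroup Cfsg.Agent.H607.TW
open Cfsg.Agent.ClassicalGeometry.AutPSL.Root Cfsg.Agent.ClassicalGeometry.AutPSL.Auto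
open Cfsg.Agent.ClassicalGeometry.AutPSL.Main

universe u

section Perfect

variable {F : Type} [Field F] [Fintype F] {n : ℕ}

theorem perfect_two (h4 : 4 ≤ Fintype.card F) : commutator (Matrix.SpecialLinearGroup (Fin 2) F) = ⊤ := by
  rw [eq_top_iff]
  intro x _
  refine Cfsg.Agent.LieClassical.SLGen.transvection_induction
    (fun x => x ∈ commutator (Matrix.SpecialLinearGroup (Fin 2) F)) (fun i j hij c => ?_)
    (fun A B hA hB => mul_mem hA hB) x
  fin_cases i <;> fin_cases j
  · exact absurd rfl hij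
  · have : Matrix.SpecialLinearGroup.transvection hij c = LawSL.up c := by
      apply Subtype.ext
      change (1 : Matrix (Fin 2) (Fin 2) F) + Matrix.single 0 1 c = !![1, c; 0, 1]
      ext i j
      fin_cases i <;> fin_cases j <;> simp [Matrix.single]
    rw [this]
    exact LawNC.up_mem F h4 c
  · have : Matrix.SpecialLinearGroup.transvection hij c = LawSL.lo c := by
      apply Subtype.ext
      change (1 : Matrix (Fin 2) (Fin 2) F) + Matrix.single 1 0 c = !![1, 0; c, 1]
      ext i j
      fin_cases i <;> fin_cases j <;> simp [Matrix.single]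
    rw [this]
    exact LawNC.lo_mem F h4 c
  · exact absurd rfl hij

theorem perfect_sl (hn : 2 ≤ n) (h2 : n = 2 → 4 ≤ Fintype.card F) :
    commutator (Matrix.SpecialLinearGroup (Fin n) F) = ⊤ := by
  rcases Nat.eq_or_lt_of_le hn with h | h
  · subst h
    exact perfect_two (h2 rfl)
  · exact Cfsg.Agent.S0248.result n h

end Perfect

section Span

variable {F : Type} [Field F] {n : ℕ}

theorem span_sl (hn : 2 ≤ n) :
    Submodule.span F (Set.range (mt (iSL n F))) = ⊤ := by
  set P := Submodule.span F (Set.range (mt (iSL n F)))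
  have hmem : ∀ s : Matrix.SpecialLinearGroup (Fin n) F, (s : Matrix (Fin n) (Fin n) F) ∈ P :=
    fun s => Submodule.subset_span ⟨s, rfl⟩
  have h1 : (1 : Matrix (Fin n) (Fin n) F) ∈ P := hmem 1
  have hoff : ∀ i j : Fin n, i ≠ j → ∀ c : F, Matrix.single i j c ∈ P := by
    intro i j hij c
    have h2 : (1 : Matrix (Fin n) (Fin n) F) + Matrix.single i j c ∈ P :=
      hmem (Matrix.SpecialLinearGroup.transvection hij c)
    have := P.sub_mem h2 h1
    rwa [add_sub_cancel_left] at this
  have hdiag : ∀ i : Fin n, Matrix.single i i (1 : F) ∈ P := by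
    intro i
    obtain ⟨j, hij⟩ : ∃ j : Fin n, i ≠ j := by
      have : Nontrivial (Fin n) := Fin.nontrivial_iff_two_le.2 hn
      obtain ⟨j, hj⟩ := exists_ne i
      exact ⟨j, hj.symm⟩
    have h2 : ((1 : Matrix (Fin n) (Fin n) F) + Matrix.single i j 1) *
        ((1 : Matrix (Fin n) (Fin n) F) + Matrix.single j i 1) ∈ P := by
      have := hmem (Matrix.SpecialLinearGroup.transvection hij 1 *
        Matrix.SpecialLinearGroup.transvection hij.symm 1)
      rw [Matrix.SpecialLinearGroup.coe_mul] at this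
      exact this
    rw [mul_add, mul_one, add_mul, one_mul, Matrix.single_mul_single_same, mul_one] at h2
    have h3 := P.sub_mem (P.sub_mem (P.sub_mem h2 h1) (hoff i j hij 1)) (hoff j i hij.symm 1)
    have h4 : (1 : Matrix (Fin n) (Fin n) F) + Matrix.single i j 1 +
        (Matrix.single j i 1 + Matrix.single i i 1) - 1 - Matrix.single i j 1 - Matrix.single j i 1 =
        Matrix.single i i 1 := by abel
    rwa [h4] at h3
  rw [eq_top_iff]
  intro x _
  rw [Matrix.matrix_eq_sum_single x]
  refine Submodule.sum_mem _ fun i _ => Submodule.sum_mem _ fun j _ => ?_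
  by_cases hij : i = j
  · subst hij
    have : Matrix.single i i (x i i) = x i i • Matrix.single i i (1 : F) := by
      rw [Matrix.smul_single, smul_eq_mul, mul_one]
    rw [this]
    exact P.smul_mem _ (hdiag i)
  · exact hoff i j hij _

end Span

section Main

variable {G : Type u} [Group G] [Finite G] {N : Subgroup G}
  {F : Type} [Field F] [Fintype F] {n : ℕ}

omit [Finite G] in
set_option linter.unusedVariables false in
/-- **T1**: the model -/
theorem model_sl (hN : N.Normal) (hc : centralizer (N : Set G) = ⊥) (hn : 2 ≤ n) (h2 : n = 2 → 4 ≤ Fintype.card F)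
    (e : ↥N ≃* Matrix.ProjectiveSpecialLinearGroup (Fin n) F) :
    ∃ π : Matrix.SpecialLinearGroup (Fin n) F →* G, Model N (iSL n F) π := by
  let π : Matrix.SpecialLinearGroup (Fin n) F →* G := (N.subtype.comp e.symm.toMonoidHom).comp pr
  have hπ : ∀ s, π s = ((e.symm (pr s) : N) : G) := fun s => rfl
  refine ⟨π, ⟨hn, ?_, ?_, ?_, ?_, perfect_sl hn h2, span_sl hn, ?_⟩⟩
  · exact Matrix.SpecialLinearGroup.toGL_injective
  · ext x
    constructor
    · rintro ⟨s, rfl⟩
      exact (e.symm (pr s)).2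
    · intro hx
      obtain ⟨s, hs⟩ := pr_surjective (e ⟨x, hx⟩)
      exact ⟨s, by rw [hπ, hs, e.symm_apply_apply]⟩
  · intro s
    rw [hπ]
    have h1 : ((e.symm (pr s) : N) : G) = 1 ↔ pr s = 1 := by
      rw [OneMemClass.coe_eq_one, map_eq_one_iff _ e.symm.injective]
    rw [h1]
    constructor
    · intro h
      obtain ⟨c, hc⟩ := exists_smul_of_pr_eq (x := (1 : Matrix.SpecialLinearGroup (Fin n) F)) (y := s)
        (by rw [h, map_one])
      exact ⟨c, by rw [Matrix.SpecialLinearGroup.coe_one] at hc; exact hc⟩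
    · rintro ⟨c, hc⟩
      have := pr_eq_of_smul (x := (1 : Matrix.SpecialLinearGroup (Fin n) F)) (y := s) (c := c)
        (by rw [Matrix.SpecialLinearGroup.coe_one]; exact hc)
      rw [← this, map_one]
  · intro s
    exact s.2
  · intro g
    obtain ⟨p, hp⟩ := CharP.exists F
    have : Fact p.Prime := ⟨CharP.char_is_prime F p⟩
    -- the automorphism of `PSL` induced by `g`
    let α : MulAut (Matrix.ProjectiveSpecialLinearGroup (Fin n) F) :=
      (e.symm.trans (MulAut.conjNormal (H := N) g)).trans e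
    have hα : ∀ s s' : Matrix.SpecialLinearGroup (Fin n) F, α (pr s) = pr s' → π s' = g * π s * g⁻¹ := by
      intro s s' h
      have h1 : e (MulAut.conjNormal (H := N) g (e.symm (pr s))) = pr s' := h
      rw [hπ, ← h1, e.symm_apply_apply]
      rfl
    have hcase : (∃ (A : Matrix.GeneralLinearGroup (Fin n) F) (σ : F ≃+* F), α = lift (cj A * fld σ)) ∨
        (∃ (A : Matrix.GeneralLinearGroup (Fin n) F) (σ : F ≃+* F), α = lift (cj A * fld σ * itr)) := by
      rcases Nat.eq_or_lt_of_le hn with h | h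
      · subst h
        exact Or.inl (surj_two p α)
      · exact surj_three p h α
    rcases hcase with ⟨A, σ, hA⟩ | ⟨A, σ, hA⟩
    · refine ⟨A, σ, Or.inl (Or.inl ⟨?_, ?_⟩)⟩
      · intro x y
        rw [tauP_apply, tauP_apply, tauP_apply, Matrix.map_mul]
        have h1 : ((A⁻¹ : Matrix.GeneralLinearGroup (Fin n) F) : Matrix (Fin n) (Fin n) F) *
            (A : Matrix (Fin n) (Fin n) F) = 1 := by
          rw [← Units.val_mul, inv_mul_cancel, Units.val_one]
        calc _ = (A : Matrix (Fin n) (Fin n) F) * x.map σ * 1 * y.map σ *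
              ((A⁻¹ : Matrix.GeneralLinearGroup (Fin n) F) : Matrix (Fin n) (Fin n) F) := by
              simp only [mul_one, mul_assoc]
          _ = _ := by rw [← h1]; simp only [mul_assoc]
      · intro s
        refine ⟨cj A (fld σ s), ?_, ?_⟩
        · rfl
        · apply hα
          rw [hA, lift_pr]
          rfl
    · refine ⟨A, σ, Or.inr (Or.inr ⟨?_, ?_⟩)⟩
      · intro x y
        rw [tauM_apply, tauM_apply, tauM_apply, Matrix.transpose_mul, Matrix.map_mul]
        have h1 : ((A⁻¹ : Matrix.GeneralLinearGroup (Fin n) F) : Matrix (Fin n) (Fin n) F) *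
            (A : Matrix (Fin n) (Fin n) F) = 1 := by
          rw [← Units.val_mul, inv_mul_cancel, Units.val_one]
        calc _ = (A : Matrix (Fin n) (Fin n) F) * y.transpose.map σ * 1 * x.transpose.map σ *
              ((A⁻¹ : Matrix.GeneralLinearGroup (Fin n) F) : Matrix (Fin n) (Fin n) F) := by
              simp only [mul_one, mul_assoc]
          _ = _ := by rw [← h1]; simp only [mul_assoc]
      · intro s
        refine ⟨cj A (fld σ (s.transpose)), rfl, ?_⟩
        rw [← map_inv]
        apply hα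
        rw [hA, lift_pr]
        congr 1
        have h1 : itr s = (s.transpose)⁻¹ := by
          rw [eq_inv_iff_mul_eq_one]
          apply Subtype.ext
          change (s⁻¹ : Matrix.SpecialLinearGroup (Fin n) F).1.transpose * s.1.transpose = 1
          rw [← Matrix.transpose_mul, ← Matrix.SpecialLinearGroup.coe_mul, mul_inv_cancel,
            Matrix.SpecialLinearGroup.coe_one, Matrix.transpose_one]
        change cj A (fld σ (itr s)) = _
        rw [h1, map_inv, map_inv]

omit [Fintype F] in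
theorem tauP_mul (B : Matrix.GeneralLinearGroup (Fin n) F) (σ : F ≃+* F) (x y : Matrix (Fin n) (Fin n) F) :
    tauP B σ (x * y) = tauP B σ x * tauP B σ y := by
  rw [tauP_apply, tauP_apply, tauP_apply, Matrix.map_mul]
  have h1 : ((B⁻¹ : Matrix.GeneralLinearGroup (Fin n) F) : Matrix (Fin n) (Fin n) F) *
      (B : Matrix (Fin n) (Fin n) F) = 1 := by
    rw [← Units.val_mul, inv_mul_cancel, Units.val_one]
  calc _ = (B : Matrix (Fin n) (Fin n) F) * x.map σ * 1 * y.map σ *
        ((B⁻¹ : Matrix.GeneralLinearGroup (Fin n) F) : Matrix (Fin n) (Fin n) F) := by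
        simp only [mul_one, mul_assoc]
    _ = _ := by rw [← h1]; simp only [mul_assoc]

omit [Fintype F] in
theorem tauM_mul (B : Matrix.GeneralLinearGroup (Fin n) F) (σ : F ≃+* F) (x y : Matrix (Fin n) (Fin n) F) :
    tauM B σ (x * y) = tauM B σ y * tauM B σ x := by
  have h1 : ∀ z : Matrix (Fin n) (Fin n) F, tauM B σ z = tauP B σ z.transpose := fun z => rfl
  rw [h1, h1, h1, Matrix.transpose_mul, tauP_mul]

omit [Fintype F] in
theorem not_comm (hn : 2 ≤ n) : ¬ ∀ x y : Matrix (Fin n) (Fin n) F, x * y = y * x := by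
  intro h
  have h1 := h (Matrix.single ⟨0, by omega⟩ ⟨1, by omega⟩ 1) (Matrix.single ⟨1, by omega⟩ ⟨0, by omega⟩ 1)
  rw [Matrix.single_mul_single_same, Matrix.single_mul_single_same] at h1
  have h2 := congrFun (congrFun h1 ⟨0, by omega⟩) ⟨0, by omega⟩
  simp at h2

omit [Finite G] [Fintype F] in
/-- two lifts with the same matrix part up to `GL` -/
theorem key {π : Matrix.SpecialLinearGroup (Fin n) F →* G}
    {B B' : Matrix.GeneralLinearGroup (Fin n) F} {c : Fˣ}
    (hdet : Matrix.GeneralLinearGroup.det B' = Matrix.GeneralLinearGroup.det B * c ^ n) :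
    ∃ D : Matrix.SpecialLinearGroup (Fin n) F, ∀ (X : Matrix (Fin n) (Fin n) F)
      (s' s'' : Matrix.SpecialLinearGroup (Fin n) F),
      mt (iSL n F) s' = (B : Matrix (Fin n) (Fin n) F) * X *
        ((B⁻¹ : Matrix.GeneralLinearGroup (Fin n) F) : Matrix (Fin n) (Fin n) F) →
      mt (iSL n F) s'' = (B' : Matrix (Fin n) (Fin n) F) * X *
        ((B'⁻¹ : Matrix.GeneralLinearGroup (Fin n) F) : Matrix (Fin n) (Fin n) F) →
      π s'' = π D * π s' * (π D)⁻¹ := by
  let M : Matrix (Fin n) (Fin n) F := ((c⁻¹ : Fˣ) : F) • ((B' : Matrix (Fin n) (Fin n) F) *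
    ((B⁻¹ : Matrix.GeneralLinearGroup (Fin n) F) : Matrix (Fin n) (Fin n) F))
  have hM : M.det = 1 := by
    have h1 : M.det = ((c⁻¹ : Fˣ) : F) ^ n * ((Matrix.GeneralLinearGroup.det B' : Fˣ) : F) *
        ((Matrix.GeneralLinearGroup.det B⁻¹ : Fˣ) : F) := by
      rw [Matrix.det_smul, Fintype.card_fin, Matrix.det_mul, ← mul_assoc]
      rfl
    rw [h1, hdet, map_inv, ← Units.val_pow_eq_pow_val, ← Units.val_mul, ← Units.val_mul, ← Units.val_one]
    congr 1
    rw [inv_pow, mul_comm (Matrix.GeneralLinearGroup.det B), inv_mul_cancel_left, mul_inv_cancel]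
  let D : Matrix.SpecialLinearGroup (Fin n) F := ⟨M, hM⟩
  refine ⟨D, fun X s' s'' h1 h2 => ?_⟩
  have h3 : s'' * D = D * s' := by
    apply Subtype.ext
    change mt (iSL n F) s'' * M = M * mt (iSL n F) s'
    have h4 : ((B'⁻¹ : Matrix.GeneralLinearGroup (Fin n) F) : Matrix (Fin n) (Fin n) F) *
        (B' : Matrix (Fin n) (Fin n) F) = 1 := by
      rw [← Units.val_mul, inv_mul_cancel, Units.val_one]
    have h5 : ((B⁻¹ : Matrix.GeneralLinearGroup (Fin n) F) : Matrix (Fin n) (Fin n) F) *
        (B : Matrix (Fin n) (Fin n) F) = 1 := by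
      rw [← Units.val_mul, inv_mul_cancel, Units.val_one]
    rw [h1, h2, Matrix.mul_smul, Matrix.smul_mul]
    congr 1
    calc _ = (B' : Matrix (Fin n) (Fin n) F) * X *
          (((B'⁻¹ : Matrix.GeneralLinearGroup (Fin n) F) : Matrix (Fin n) (Fin n) F) *
            (B' : Matrix (Fin n) (Fin n) F)) *
          ((B⁻¹ : Matrix.GeneralLinearGroup (Fin n) F) : Matrix (Fin n) (Fin n) F) := by
          simp only [mul_assoc]
      _ = (B' : Matrix (Fin n) (Fin n) F) * (((B⁻¹ : Matrix.GeneralLinearGroup (Fin n) F) :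
            Matrix (Fin n) (Fin n) F) * (B : Matrix (Fin n) (Fin n) F)) * X *
          ((B⁻¹ : Matrix.GeneralLinearGroup (Fin n) F) : Matrix (Fin n) (Fin n) F) := by
          rw [h4, h5, mul_one, mul_one]
      _ = _ := by simp only [mul_assoc]
  rw [eq_mul_inv_iff_mul_eq, ← map_mul, h3, map_mul]

omit [Finite G] [Fintype F] in
theorem mem_of_key {π : Matrix.SpecialLinearGroup (Fin n) F →* G} (hN : N.Normal)
    (hc : centralizer (N : Set G) = ⊥) (hM : Model N (iSL n F) π) {g g' : G}
    {D : Matrix.SpecialLinearGroup (Fin n) F}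
    (h : ∀ s, g' * π s * g'⁻¹ = π D * (g * π s * g⁻¹) * (π D)⁻¹) : g⁻¹ * g' ∈ N := by
  have hD : π D ∈ N := by rw [← hM.range]; exact ⟨D, rfl⟩
  have h1 : g⁻¹ * (π D)⁻¹ * g' ∈ centralizer (N : Set G) := by
    rw [mem_centralizer_iff]
    intro x hx
    rw [SetLike.mem_coe, ← hM.range] at hx
    obtain ⟨s, rfl⟩ := hx
    have h2 := h s
    have h3 : g⁻¹ * (π D)⁻¹ * g' * π s = g⁻¹ * (π D)⁻¹ * (g' * π s * g'⁻¹) * g' := by group
    rw [h3, h2]
    group
  rw [hc, mem_bot] at h1
  have h4 : g⁻¹ * g' = g⁻¹ * π D * g := by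
    have h5 : g' = π D * g := by
      have := congrArg (fun y => π D * g * y) h1
      simp only [mul_one] at this
      rw [← this]
      group
    rw [h5]
    group
  rw [h4]
  have := hN.conj_mem _ hD g⁻¹
  rwa [inv_inv] at this

omit [Finite G] in
/-- **T1**: the index of `N` -/
theorem index_sl {π : Matrix.SpecialLinearGroup (Fin n) F →* G} (hN : N.Normal) (hc : centralizer (N : Set G) = ⊥)
    (hM : Model N (iSL n F) π) :
    N.index ≤ 2 * Nat.card (F ≃+* F) * Nat.card π.ker := by
  classical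
  -- the data of an element
  have hdata : ∀ g : G, ∃ (t : Bool) (B : Matrix.GeneralLinearGroup (Fin n) F) (σ : F ≃+* F),
      ∀ s, ∃ s', mt (iSL n F) s' = (B : Matrix (Fin n) (Fin n) F) *
        (if t then (mt (iSL n F) s).map σ else (mt (iSL n F) s).transpose.map σ) *
        ((B⁻¹ : Matrix.GeneralLinearGroup (Fin n) F) : Matrix (Fin n) (Fin n) F) ∧
        (if t then π s' else (π s')⁻¹) = g * π s * g⁻¹ := by
    intro g
    obtain ⟨B, σ, h | h⟩ := hM.lift g
    · rcases h with ⟨-, h⟩ | ⟨h, -⟩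
      · exact ⟨true, B, σ, fun s => by simpa [tauP_apply] using h s⟩
      · exfalso
        refine not_comm (F := F) hM.two fun x y => (tauP B σ).injective ?_
        rw [h x y, tauP_mul]
    · rcases h with ⟨h, -⟩ | ⟨-, h⟩
      · exfalso
        refine not_comm (F := F) hM.two fun x y => (tauM B σ).injective ?_
        rw [h x y, tauM_mul]
      · exact ⟨false, B, σ, fun s => by simpa [tauM_apply] using h s⟩
  choose t B σ hB using hdata
  let P : Subgroup Fˣ := (powMonoidHom n : Fˣ →* Fˣ).range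
  let f : G ⧸ N → (Bool × (F ≃+* F)) × (Fˣ ⧸ P) := fun q =>
    ((t q.out, σ q.out), ((Matrix.GeneralLinearGroup.det (B q.out) : Fˣ) : Fˣ ⧸ P))
  have hf : Function.Injective f := by
    intro q q' h
    have h1 : t q.out = t q'.out := congrArg (fun z => z.1.1) h
    have h2 : σ q.out = σ q'.out := congrArg (fun z => z.1.2) h
    have h3 : ((Matrix.GeneralLinearGroup.det (B q.out) : Fˣ) : Fˣ ⧸ P) =
      ((Matrix.GeneralLinearGroup.det (B q'.out) : Fˣ) : Fˣ ⧸ P) := congrArg (fun z => z.2) h
    rw [QuotientGroup.eq] at h3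
    obtain ⟨c, hc'⟩ := h3
    have hdet : Matrix.GeneralLinearGroup.det (B q'.out) =
        Matrix.GeneralLinearGroup.det (B q.out) * c ^ n := by
      rw [powMonoidHom_apply] at hc'
      rw [hc']
      group
    obtain ⟨D, hD⟩ := key (π := π) hdet
    have h4 : (q.out : G)⁻¹ * q'.out ∈ N := by
      apply mem_of_key hN hc hM (D := D)
      intro s
      obtain ⟨s', hs1, hs2⟩ := hB q.out s
      obtain ⟨s'', ht1, ht2⟩ := hB q'.out s
      rw [← h1, ← h2] at ht1
      have h5 := hD _ s' s'' hs1 ht1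
      rw [← ht2, ← hs2, ← h1]
      split_ifs
      · exact h5
      · rw [h5]; group
    rw [← QuotientGroup.eq] at h4
    rw [QuotientGroup.out_eq', QuotientGroup.out_eq'] at h4
    exact h4
  have hfin : Finite (F ≃+* F) :=
    Finite.of_injective (fun σ : F ≃+* F => (σ : F → F)) DFunLike.coe_injective
  have h1 : N.index ≤ Nat.card ((Bool × (F ≃+* F)) × (Fˣ ⧸ P)) :=
    Nat.card_le_card_of_injective f hf
  rw [Nat.card_prod, Nat.card_prod] at h1
  have h2 : Nat.card (Fˣ ⧸ P) ≤ Nat.card π.ker := by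
    have h3 : Nat.card (Fˣ ⧸ P) = Nat.card (powMonoidHom n : Fˣ →* Fˣ).ker := by
      have e1 := (powMonoidHom n : Fˣ →* Fˣ).ker.card_mul_index
      have e2 := P.card_mul_index
      rw [Subgroup.index_ker] at e1
      have e3 : 0 < Nat.card P := Nat.card_pos
      have e4 : Nat.card P * Nat.card (Fˣ ⧸ P) = Nat.card P * Nat.card (powMonoidHom n : Fˣ →* Fˣ).ker := by
        rw [mul_comm (Nat.card P) (Nat.card (powMonoidHom n : Fˣ →* Fˣ).ker)]
        exact e2.trans e1.symm
      exact Nat.eq_of_mul_eq_mul_left e3 e4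
    rw [h3]
    have hdet1 : ∀ c : (powMonoidHom n : Fˣ →* Fˣ).ker,
        (((c : Fˣ) : F) • (1 : Matrix (Fin n) (Fin n) F)).det = 1 := by
      intro c
      rw [Matrix.det_smul, Matrix.det_one, mul_one, Fintype.card_fin, ← Units.val_pow_eq_pow_val]
      have := c.2
      rw [MonoidHom.mem_ker, powMonoidHom_apply] at this
      rw [this, Units.val_one]
    let sc : (powMonoidHom n : Fˣ →* Fˣ).ker → Matrix.SpecialLinearGroup (Fin n) F := fun c =>
      ⟨((c : Fˣ) : F) • (1 : Matrix (Fin n) (Fin n) F), hdet1 c⟩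
    have hsc : ∀ c, sc c ∈ π.ker := fun c => by
      rw [MonoidHom.mem_ker, hM.ker]
      exact ⟨((c : Fˣ) : F), rfl⟩
    let k : (powMonoidHom n : Fˣ →* Fˣ).ker → π.ker := fun c => ⟨sc c, hsc c⟩
    refine Nat.card_le_card_of_injective k ?_
    intro c c' h
    have h4 : ((c : Fˣ) : F) • (1 : Matrix (Fin n) (Fin n) F) = ((c' : Fˣ) : F) • (1 : Matrix (Fin n) (Fin n) F) :=
      congrArg (fun z : π.ker => ((z : Matrix.SpecialLinearGroup (Fin n) F) : Matrix (Fin n) (Fin n) F)) h
    have h5 := congrFun (congrFun h4 ⟨0, by have := hM.two; omega⟩) ⟨0, by have := hM.two; omega⟩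
    rw [Matrix.smul_apply, Matrix.smul_apply, Matrix.one_apply_eq, smul_eq_mul, smul_eq_mul, mul_one, mul_one] at h5
    exact Subtype.ext (Units.ext h5)
  have h3 : Nat.card Bool = 2 := by simp
  rw [h3] at h1
  exact h1.trans (Nat.mul_le_mul_left _ h2)

end Main

end Cfsg.Agent.H982.TWModel
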