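import Cfsg.Agent.H982.LawFam
import Cfsg.Agent.Phan.SU2Model

/-!
# A law holds in boundedly many alternating and classical simple groups (helper982)
-/

set_option autoImplicit false

open scoped Matrix

namespace Cfsg.Agent.H982.LawClassical

open Cfsg.Agent.H982.LawWord Cfsg.Agent.H982.LawSL Cfsg.Agent.H982.LawNC Cfsg.Agent.H982.LawFam

section su

variable (F : Type*) [Field F] (q : ℕ)

theorem pmat_mulVec (n : ℕ) (σ : Equiv.Perm (Fin n)) (v : Fin n → F) (i : Fin n) :
    (pmat F n σ *ᵥ v) i = v (σ.symm i) := by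
  simp only [pmat, MonoidHom.coe_mk, OneHom.coe_mk, Matrix.mulVec, dotProduct, Matrix.of_apply, ite_mul, one_mul, zero_mul]
  rw [Finset.sum_eq_single (σ.symm i)]
  · rw [if_pos (by simp)]
  · intro k _ hk
    rw [if_neg]
    rintro rfl
    simp at hk
  · intro h
    exact absurd (Finset.mem_univ _) h

theorem pmat_det (n : ℕ) (σ : Equiv.Perm (Fin n)) (hσ : σ ∈ alternatingGroup (Fin n)) : (pmat F n σ).det = 1 := by
  have h : pmat F n σ = (Equiv.Perm.permMatrix F σ)ᵀ := by
    ext i j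
    simp only [pmat, MonoidHom.coe_mk, OneHom.coe_mk, Matrix.of_apply, Matrix.transpose_apply, Equiv.Perm.permMatrix,
      PEquiv.toMatrix_apply, Equiv.toPEquiv_apply, Option.mem_def, Option.some.injEq]
    by_cases h : i = σ j
    · rw [if_pos h, if_pos h.symm]
    · rw [if_neg h, if_neg (fun h' => h h'.symm)]
  rw [h, Matrix.det_transpose, Matrix.det_permutation, Equiv.Perm.mem_alternatingGroup.1 hσ]
  simp

/-- even permutations in `SU` -/
def pSU (n : ℕ) : alternatingGroup (Fin n) →* Cfsg.SU n F q where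
  toFun σ := Cfsg.Agent.Phan.mk (pmat F n σ) (pmat_det F n σ σ.2) (by
    intro u v
    simp only [Cfsg.hermForm, pmat_mulVec]
    exact Equiv.sum_comp (σ : Equiv.Perm (Fin n)).symm (fun i => u i * v i ^ q))
  map_one' := Cfsg.Agent.Phan.mat_inj (by rw [Cfsg.Agent.Phan.mat_mk, Cfsg.Agent.Phan.mat_one]; exact map_one _)
  map_mul' x y := Cfsg.Agent.Phan.mat_inj (by
    rw [Cfsg.Agent.Phan.mat_mk, Cfsg.Agent.Phan.mat_mul, Cfsg.Agent.Phan.mat_mk, Cfsg.Agent.Phan.mat_mk]
    exact map_mul _ _ _)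

theorem pSU_injective (n : ℕ) : Function.Injective (pSU F q n) := by
  intro σ τ h
  have := congrArg Cfsg.Agent.Phan.mat h
  exact Subtype.ext (pmat_injective F n this)

end su

theorem nc_su {w : FreeGroup ℕ} (hw : w ≠ 1) : ∃ N : ℕ, ∀ (F : Type*) [Field F] [Fintype F] (n q : ℕ), 2 ≤ n →
    Fintype.card F = q ^ 2 → (N ≤ n ∨ N ≤ q) → NC w (Cfsg.SU n F q) := by
  classical
  obtain ⟨N, hN⟩ := nc_alternating hw
  refine ⟨max N (PP.bnd w.toWord + 4), fun F _ _ n q hn hF h => ?_⟩
  rcases h with h | h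
  · exact (hN n (le_trans (le_max_left _ _) h)).map _ (pSU_injective F q n)
  · obtain ⟨P, Q, -, -, θ, -⟩ := Cfsg.Agent.Phan.exists_model hF
    have : Fintype (Cfsg.Agent.Phan.fixedField hF) := Fintype.ofFinite _
    have hc := Cfsg.Agent.Phan.card_fixedField hF
    rw [Nat.card_eq_fintype_card] at hc
    have h1 := (nc_sl2 (Cfsg.Agent.Phan.fixedField hF) hw (by rw [hc]; exact le_trans (le_max_right _ _) h)).of_subgroup
    refine h1.map ((Cfsg.Agent.Phan.emb hF 0 (by omega : 0 + 2 ≤ n)).comp θ.toMonoidHom) ?_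
    exact (Cfsg.Agent.Phan.emb_injective hF 0 _).comp θ.injective

section final

theorem no_law {w : FreeGroup ℕ} {G H : Type*} [Group G] [Group H] (e : G ≃* H ⧸ Subgroup.center H)
    (hlaw : ∀ f : ℕ → G, FreeGroup.lift f w = 1) (h : NC w H) : False := by
  obtain ⟨f, hf⟩ := h.quot
  apply hf
  have h1 := hlaw (fun i => e.symm (f i))
  have h2 := lift_comp e.toMonoidHom (fun i => e.symm (f i)) w
  rw [h1, map_one] at h2
  rw [h2]
  congr 2
  funext i
  simp

theorem card_le {G H : Type*} [Group G] [Group H] (e : G ≃* H ⧸ Subgroup.center H) {F : Type*} [Fintype F]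
    {ι : Type} [Fintype ι] (φ : H → Matrix ι ι F) (hφ : Function.Injective φ) {B k : ℕ} (hB : Fintype.card F ≤ B)
    (hk : Fintype.card ι ≤ k) (hB1 : 1 ≤ B) : Nat.card G ≤ B ^ (k * k) := by
  classical
  have : Finite H := Finite.of_injective φ hφ
  calc Nat.card G = Nat.card (H ⧸ Subgroup.center H) := Nat.card_congr e.toEquiv
    _ ≤ Nat.card H := Nat.card_le_card_of_surjective _ (QuotientGroup.mk'_surjective _)
    _ ≤ Nat.card (Matrix ι ι F) := Nat.card_le_card_of_injective φ hφ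
    _ = Fintype.card F ^ (Fintype.card ι * Fintype.card ι) := by
        rw [Matrix, Nat.card_eq_fintype_card, Fintype.card_fun, Fintype.card_fun, pow_mul]
    _ ≤ B ^ (Fintype.card ι * Fintype.card ι) := Nat.pow_le_pow_left hB _
    _ ≤ B ^ (k * k) := Nat.pow_le_pow_right hB1 (Nat.mul_le_mul hk hk)

theorem main {w : FreeGroup ℕ} (hw : w ≠ 1) :
    ∃ N : ℕ, ∀ (G : Type*) [Group G] [Finite G],
      (Cfsg.IsAlternating G ∨ Cfsg.IsPSL G ∨ Cfsg.IsPSp G ∨ Cfsg.IsPSU G ∨ Cfsg.IsPOmegaOdd G ∨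
          Cfsg.IsPOmegaPlus G ∨ Cfsg.IsPOmegaMinus G) →
      (∀ f : ℕ → G, FreeGroup.lift f w = 1) → Nat.card G ≤ N := by
  classical
  obtain ⟨N1, hN1⟩ := nc_gl.{0} hw
  obtain ⟨N2, hN2⟩ := nc_alternating hw
  obtain ⟨N3, hN3⟩ := nc_su.{0} hw
  set M := N1 + N2 + N3 + 2 with hM
  have hM1 : 1 ≤ M ^ 2 := Nat.one_le_pow _ _ (by omega)
  have hMM : M ≤ M ^ 2 := by nlinarith
  refine ⟨(M ^ 2) ^ ((2 * M + 2) * (2 * M + 2)) + M.factorial, fun G _ _ h hlaw => ?_⟩
  rcases h with h | h | h | h | h | h | h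
  · -- alternating
    obtain ⟨n, -, ⟨e⟩⟩ := h
    by_cases hn : N2 ≤ n
    · exfalso
      obtain ⟨f, hf⟩ := (hN2 n hn).exists_ne_one
      apply hf
      have h1 := hlaw (fun i => e.symm (f i))
      have h2 := lift_comp e.toMonoidHom (fun i => e.symm (f i)) w
      rw [h1, map_one] at h2
      rw [h2]
      congr 2
      funext i
      simp
    · have h1 : Nat.card G ≤ n.factorial := by
        rw [Nat.card_congr e.toEquiv]
        calc Nat.card (alternatingGroup (Fin n)) ≤ Nat.card (Equiv.Perm (Fin n)) :=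
              Nat.card_le_card_of_injective _ Subtype.val_injective
          _ = n.factorial := by rw [Nat.card_perm, Nat.card_eq_fintype_card, Fintype.card_fin]
      have h2 : n.factorial ≤ M.factorial := Nat.factorial_le (by omega)
      omega
  · -- PSL
    obtain ⟨F, _, _, n, hn, -, ⟨e⟩⟩ := h
    by_cases hb : N1 ≤ n ∨ N1 ≤ Fintype.card F
    · exact absurd ((hN1 F n hn hb).map _ (cSL_injective F n)) (fun h => no_law e hlaw h)
    · push Not at hb
      have := card_le e (F := F) (ι := Fin n) (fun g => (g : Matrix (Fin n) (Fin n) F)) Subtype.val_injective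
        (B := M ^ 2) (k := 2 * M + 2) (by omega) (by rw [Fintype.card_fin]; omega) hM1
      omega
  · -- PSp
    obtain ⟨F, _, _, m, hm, -, ⟨e⟩⟩ := h
    by_cases hb : N1 ≤ m ∨ N1 ≤ Fintype.card F
    · exact absurd ((hN1 F m hm hb).of_subgroup.map _ (gSp_injective F m)) (fun h => no_law e hlaw h)
    · push Not at hb
      have := card_le e (F := F) (ι := Fin m ⊕ Fin m) (fun g => (g : Matrix (Fin m ⊕ Fin m) (Fin m ⊕ Fin m) F)) Subtype.val_injective
        (B := M ^ 2) (k := 2 * M + 2) (by omega) (by rw [Fintype.card_sum, Fintype.card_fin]; omega) hM1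
      omega
  · -- PSU
    obtain ⟨F, _, _, n, q, hF, hn, -, ⟨e⟩⟩ := h
    by_cases hb : N3 ≤ n ∨ N3 ≤ q
    · exact absurd (hN3 F n q (by omega) hF hb) (fun h => no_law e hlaw h)
    · push Not at hb
      have hq : q ^ 2 ≤ M ^ 2 := Nat.pow_le_pow_left (by omega) 2
      have := card_le e (F := F) (ι := Fin n) (fun g => Cfsg.Agent.Phan.mat g)
        (fun x y h => Cfsg.Agent.Phan.mat_inj h)
        (B := M ^ 2) (k := 2 * M + 2) (by omega) (by rw [Fintype.card_fin]; omega) hM1
      omega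
  · -- odd
    obtain ⟨F, _, _, m, hm, -, ⟨e⟩⟩ := h
    by_cases hb : N1 ≤ m ∨ N1 ≤ Fintype.card F
    · exact absurd ((hN1 F m (by omega) hb).comm_le (gOdd F m) (gOdd_injective F m) le_rfl) (fun h => no_law e hlaw h)
    · push Not at hb
      have := card_le e (F := F) (ι := Unit ⊕ (Fin m ⊕ Fin m)) (fun g => ((g.1.1 : GL _ F) : Matrix _ _ F))
        (fun x y h => Subtype.ext (Subtype.ext (Units.ext h)))
        (B := M ^ 2) (k := 2 * M + 2) (by omega) (by simp only [Fintype.card_sum, Fintype.card_fin, Fintype.card_unit]; omega) hM1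
      omega
  · -- plus
    obtain ⟨F, _, _, m, hm, ⟨e⟩⟩ := h
    by_cases hb : N1 ≤ m ∨ N1 ≤ Fintype.card F
    · exact absurd ((hN1 F m (by omega) hb).comm_le (gPlus F m) (gPlus_injective F m) le_rfl) (fun h => no_law e hlaw h)
    · push Not at hb
      have := card_le e (F := F) (ι := Fin m ⊕ Fin m) (fun g => ((g.1.1 : GL _ F) : Matrix _ _ F))
        (fun x y h => Subtype.ext (Subtype.ext (Units.ext h)))
        (B := M ^ 2) (k := 2 * M + 2) (by omega) (by simp only [Fintype.card_sum, Fintype.card_fin]; omega) hM1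
      omega
  · -- minus
    obtain ⟨F, _, _, m, a, b, hm, -, ⟨e⟩⟩ := h
    by_cases hb : N1 ≤ m - 1 ∨ N1 ≤ Fintype.card F
    · exact absurd ((hN1 F (m - 1) (by omega) hb).comm_le (gMinus F (m - 1) a b) (gMinus_injective F (m - 1) a b) le_rfl)
        (fun h => no_law e hlaw h)
    · push Not at hb
      have := card_le e (F := F) (ι := (Fin (m - 1) ⊕ Fin (m - 1)) ⊕ Fin 2) (fun g => ((g.1.1 : GL _ F) : Matrix _ _ F))
        (fun x y h => Subtype.ext (Subtype.ext (Units.ext h)))
        (B := M ^ 2) (k := 2 * M + 2) (by omega) (by simp only [Fintype.card_sum, Fintype.card_fin]; omega) hM1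
      omega

end final

end Cfsg.Agent.H982.LawClassical
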