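import Cfsg.Agent.H982.DfPM
import Cfsg.Agent.S0242

/-!
# S4311, BOX D3 (helper982)

`boxD3` : the four `SL₂(q)`'s of `PΩ₈⁺(q)` satisfy the hypotheses `LL` of BOX D2, and every element of order three
commuting with `z` lies in their product.
-/

set_option autoImplicit false
set_option linter.unusedSectionVars false

namespace Cfsg.Agent.H982.DfPsi

open Module QuadraticMap Cfsg.Agent.H167.OP Cfsg.Agent.H170.HL Cfsg.Agent.H170.HL.OmRow Cfsg.Agent.H556.Om
open Cfsg Subgroup Cfsg.Agent.H485.RV Cfsg.Agent.H561.RV Cfsg.Agent.H561.D4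
open Cfsg.Agent.H982.DfMat hiding A4
open Matrix (SpecialLinearGroup det_mul det_one adjugate_mul mul_adjugate)

variable {F : Type} [Field F] {ι : Type} [Fintype ι] [DecidableEq ι] {Q : QuadraticForm F (ι → F)}
  {E : Fin 2 × A4 → ι → F} {α β : F} {Ψ : (Fin 2 → M2 F) ≃ₗ[F] (ι → F)} (P : PsiD Q E α β Ψ)

include P

/-- the product of the four groups -/
theorem inter [Finite F] (hodd : ¬ 2 ∣ (QQ P.h).index) {x : Cfsg.POmega F (⇑Q)} (hx : x ∈ PMS P.two P.hF)
    (hxL : x ∈ ⨆ i, LS P i) : x ∈ ⨆ i, PMS P.two P.hF ⊓ LS P i := by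
  have hcomm : Pairwise fun i j : Fin 2 × Bool => ∀ (S T : SL2 F), Commute (Mb P i S) (Mb P j T) :=
    fun i j hij S T => LS_comm P hij ⟨S, rfl⟩ ⟨T, rfl⟩
  set Φ := MonoidHom.noncommPiCoprod (Mb P) hcomm with hΦ
  have hrange : Φ.range = ⨆ i, LS P i := MonoidHom.noncommPiCoprod_range (Mb P)
  set B : Subgroup (Fin 2 × Bool → SL2 F) := Subgroup.pi Set.univ (fun _ => QQ P.h) with hB
  have hBodd : ¬ 2 ∣ B.index := by
    rw [hB, Subgroup.index_pi, Finset.prod_const]
    intro h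
    exact hodd (Nat.prime_two.dvd_of_dvd_pow h)
  set J := ⨆ i, PMS P.two P.hF ⊓ LS P i with hJ
  have hBJ : B.map Φ ≤ J := by
    rintro _ ⟨f, hf, rfl⟩
    have hf0 : Φ f = Finset.univ.noncommProd (fun i => Mb P i (f i)) (fun _ _ _ _ h => hcomm h _ _) := rfl
    rw [hf0]
    refine Subgroup.noncommProd_mem _ (fun _ _ _ _ h => hcomm h _ _) fun i _ => ?_
    refine Subgroup.mem_iSup_of_mem i ?_
    rw [inf_eq P i hodd]
    exact ⟨f i, hf i (Set.mem_univ i), rfl⟩
  have h1 : (B.map Φ).relIndex (⨆ i, LS P i) ∣ B.index := by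
    rw [← hrange, MonoidHom.range_eq_map, Subgroup.relIndex_map_map, top_sup_eq, Subgroup.relIndex_top_right]
    exact Subgroup.index_dvd_of_le le_sup_left
  have h2 : J.relIndex (⨆ i, LS P i) ∣ (B.map Φ).relIndex (⨆ i, LS P i) := Subgroup.relIndex_dvd_of_le_left _ hBJ
  have hJle : J ≤ PMS P.two P.hF ⊓ ⨆ i, LS P i :=
    iSup_le fun i => le_inf inf_le_left (inf_le_right.trans (le_iSup (LS P) i))
  have h3 : J.relIndex (PMS P.two P.hF ⊓ ⨆ i, LS P i) ∣ J.relIndex (⨆ i, LS P i) :=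
    Dvd.intro _ (Subgroup.relIndex_mul_relIndex _ _ _ hJle inf_le_right)
  have h4 : J.relIndex (PMS P.two P.hF ⊓ ⨆ i, LS P i) ∣ Nat.card ↥(PMS P.two P.hF ⊓ ⨆ i, LS P i) :=
    Subgroup.relIndex_dvd_card _ _
  have h5 : IsPGroup 2 ↥(PMS P.two P.hF ⊓ ⨆ i, LS P i) := (PMS_isPGroup P).to_le inf_le_left
  have h6 : J.relIndex (PMS P.two P.hF ⊓ ⨆ i, LS P i) = 1 := by
    have : Fact (Nat.Prime 2) := ⟨Nat.prime_two⟩
    obtain ⟨n, hn⟩ := IsPGroup.iff_card.1 h5
    rw [hn] at h4
    obtain ⟨m, -, hm⟩ := (Nat.dvd_prime_pow Nat.prime_two).1 h4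
    have h7 := (h3.trans h2).trans h1
    rw [hm] at h7 ⊢
    rcases Nat.eq_zero_or_pos m with rfl | hm0
    · rfl
    · exact absurd ((dvd_pow_self 2 hm0.ne').trans h7) hBodd
  exact Subgroup.relIndex_eq_one.1 h6 ⟨hx, hxL⟩

/-- the block permutations -/
theorem exists_tau (τ : Equiv.Perm (Fin 2)) : ∃ x ∈ PM P.two P.hF,
    TBM (Q := Q) Ψ (x : Cfsg.isometryGroup F (⇑Q)) τ (fun _ => false) := by
  obtain ⟨x, hx⟩ := exists_perm P.gq P.two P.hF (sign_pp τ false 0)
  refine ⟨x, perm_mem_PM P.two P.hF (pp_mem _ _ _) hx, fun _ => LinearMap.id, BMp_of_frame P fun k a => ?_, fun k =>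
    ⟨1, 1, by rw [det_one, one_mul], fun X => ?_⟩⟩
  · change rep (inc (⇑Q)) x (E (k, a)) = _
    rw [hx, mono_e P.hF P.two, pp_apply, one_smul, LinearMap.id_apply, P.ps]
    simp [lin]
  · simp [Typ]

theorem u_adj_eq (b : A4) : (u α β b).adjugate = (if b = (0, 0) then (1 : F) else -1) • u α β b := by
  refine a4_cases (P := fun b => (u α β b).adjugate = (if b = (0, 0) then (1 : F) else -1) • u α β b) ?_ ?_ ?_ ?_ b
  · rw [if_pos rfl, u00, Matrix.adjugate_one, one_smul]
  · rw [if_neg (by decide), u10, adj2]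
    ext i j
    fin_cases i <;> fin_cases j <;> simp
  · rw [if_neg (by decide), u01, adj2]
    ext i j
    fin_cases i <;> fin_cases j <;> simp
  · rw [if_neg (by decide), u11, adj2]
    ext i j
    fin_cases i <;> fin_cases j <;> simp

/-- quaternion conjugation on both blocks -/
theorem exists_del : ∃ x ∈ PM P.two P.hF, TBM (Q := Q) Ψ (x : Cfsg.isometryGroup F (⇑Q)) 1 (fun _ => true) := by
  have hne : ∀ a : A4, ((0, a) : Fin 2 × A4) ≠ (1, a) := by
    intro a h
    have h0 : (0 : Fin 2) = 1 := congrArg Prod.fst h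
    exact absurd h0 (by decide)
  obtain ⟨x, hx⟩ := exists_sg P.gq P.two P.hF (hne (1, 0))
  obtain ⟨y, hy⟩ := exists_sg P.gq P.two P.hF (hne (0, 1))
  obtain ⟨z, hz⟩ := exists_sg P.gq P.two P.hF (hne (1, 1))
  refine ⟨x * y * z, mul_mem (mul_mem (sg_mem_PM _ _ hx) (sg_mem_PM _ _ hy)) (sg_mem_PM _ _ hz), fun _ => adL F,
    BMp_of_frame P fun k a => ?_, fun k => ⟨1, 1, by rw [det_one, one_mul], fun X => ?_⟩⟩
  · change rep (inc (⇑Q)) (x * y * z) (E (k, a)) = Ψ (Pi.single k (u α β a).adjugate)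
    rw [u_adj_eq P, map_mul, map_mul, Module.End.mul_apply, Module.End.mul_apply, hz, mono_e P.hF P.two, id, map_smul,
      hy, mono_e P.hF P.two, id, map_smul, map_smul, hx, mono_e P.hF P.two, id, smul_smul, smul_smul, Pi.single_smul,
      map_smul, P.ps]
    congr 1
    have h1 : ∀ (b : A4) (k : Fin 2) (a : A4), H556.Om.sg F ((0, b) : Fin 2 × A4) (1, b) (k, a) = if a = b then -1 else 1 := by
      intro b k a
      unfold H556.Om.sg
      have h2 : (((k, a) : Fin 2 × A4) = (0, b) ∨ ((k, a) : Fin 2 × A4) = (1, b)) ↔ a = b := by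
        constructor
        · rintro (h | h)
          · exact congrArg Prod.snd h
          · exact congrArg Prod.snd h
        · rintro rfl
          fin_cases k
          · exact Or.inl rfl
          · exact Or.inr rfl
      simp only [h2]
    rw [h1, h1, h1]
    refine a4_cases (P := fun a => (if a = ((1, 1) : A4) then (-1 : F) else 1) * (if a = ((0, 1) : A4) then -1 else 1) *
      (if a = ((1, 0) : A4) then -1 else 1) = if a = (0, 0) then 1 else -1) ?_ ?_ ?_ ?_ a
    · rw [if_neg (by decide), if_neg (by decide), if_neg (by decide), if_pos rfl]; ring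
    · rw [if_neg (by decide), if_neg (by decide), if_pos rfl, if_neg (by decide)]; ring
    · rw [if_neg (by decide), if_pos rfl, if_neg (by decide), if_neg (by decide)]; ring
    · rw [if_pos rfl, if_neg (by decide), if_neg (by decide), if_neg (by decide)]; ring
  · change X.adjugate = Typ true 1 1 X
    simp [Typ]

/-- `PM` has elements of determinant one only -/
theorem typ_of_det {x : Cfsg.Omega F (⇑Q)} {c : Fin 2 → Bool} (hx : TBM (Q := Q) Ψ (x : Cfsg.isometryGroup F (⇑Q)) 1 c)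
    {k : Fin 2} (hk : c k = false) (l : Fin 2) : c l = false := by
  obtain ⟨f, hf, hc⟩ := hx
  have h1 := det_omega x
  rw [hf.det, Fin.prod_univ_two] at h1
  have h2 : ∀ k, LinearMap.det (f k) = if c k then -1 else 1 := by
    intro k
    obtain ⟨A, B, hAB, h⟩ := hc k
    exact det_typ hAB h
  rw [h2, h2] at h1
  have h3 : (-1 : F) ≠ 1 := by
    intro h
    apply P.two
    linear_combination -h
  by_contra hl
  rw [Bool.not_eq_false] at hl
  fin_cases k <;> fin_cases l
  · exact absurd (hl.symm.trans hk) (by decide)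
  · have hk' : c 0 = false := hk
    have hl' : c 1 = true := hl
    rw [hk', hl'] at h1
    simp at h1
    exact h3 h1
  · have hk' : c 1 = false := hk
    have hl' : c 0 = true := hl
    rw [hk', hl'] at h1
    simp at h1
    exact h3 h1
  · exact absurd (hl.symm.trans hk) (by decide)

/-! ### The element of order three -/

theorem typ_sq {f : M2 F →ₗ[F] M2 F} {c : Bool} {A B : M2 F} (hAB : A.det * B.det = 1) (hf : ∀ X, f X = Typ c A B X) :
    ∃ A' B' : M2 F, A'.det * B'.det = 1 ∧ ∀ X, f (f X) = A' * X * B' := by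
  cases c
  · refine ⟨A * A, B * B, ?_, fun X => ?_⟩
    · rw [det_mul, det_mul]
      linear_combination (A.det * B.det + 1) * hAB
    · rw [hf, hf]
      change A * (A * X * B) * B = _
      simp only [mul_assoc]
  · refine ⟨A * B.adjugate, A.adjugate * B, ?_, fun X => ?_⟩
    · rw [det_mul, det_mul, Matrix.det_adjugate, Matrix.det_adjugate]
      simp only [Fintype.card_fin, Nat.add_one_sub_one, pow_one]
      linear_combination (A.det * B.det + 1) * hAB
    · rw [hf, hf]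
      change A * (A * X.adjugate * B).adjugate * B = _
      have h2 : X.adjugate.adjugate = X := by
        rw [Matrix.adjugate_adjugate _ (by simp)]
        simp
      rw [Matrix.adjugate_mul_distrib, Matrix.adjugate_mul_distrib, h2]
      simp only [mul_assoc]

/-- the fourth power of an isometry is a product of multiplications -/
theorem typ_four {f : M2 F →ₗ[F] M2 F} (hf : ∀ X, (f X).det = X.det) :
    ∃ S T : SL2 F, ∀ X, f (f (f (f X))) = actE false S (actE true T X) := by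
  obtain ⟨c, A, B, hAB, h1⟩ := typ_of_iso hf
  obtain ⟨A', B', hAB', h2⟩ := typ_sq P hAB h1
  have hA : A'.det ≠ 0 := left_ne_zero_of_mul_eq_one hAB'
  have hS : ((A'.det)⁻¹ • (A' * A')).det = 1 := by
    rw [Matrix.det_smul, det_mul, Fintype.card_fin]
    field_simp
  have hT : (A'.det • (B' * B')).adjugate.det = 1 := by
    rw [Matrix.det_adjugate, Matrix.det_smul, det_mul, Fintype.card_fin, Nat.add_one_sub_one, pow_one]
    linear_combination (A'.det * B'.det + 1) * hAB'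
  refine ⟨⟨_, hS⟩, ⟨_, hT⟩, fun X => ?_⟩
  rw [h2, h2]
  change A' * (A' * X * B') * B' = ((A'.det)⁻¹ • (A' * A')) * (X * (A'.det • (B' * B')).adjugate.adjugate)
  have h3 : (A'.det • (B' * B')).adjugate.adjugate = A'.det • (B' * B') := by
    rw [Matrix.adjugate_adjugate _ (by simp)]
    simp
  rw [h3, Matrix.mul_smul, Matrix.mul_smul, Matrix.smul_mul, smul_smul, mul_inv_cancel₀ hA, one_smul]
  simp only [mul_assoc]

theorem mem_of_BMp {x : Cfsg.Omega F (⇑Q)} {f : Fin 2 → M2 F →ₗ[F] M2 F}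
    (hx : BMp (Q := Q) Ψ (x : Cfsg.isometryGroup F (⇑Q)) 1 f)
    (h : ∀ k, ∃ S T : SL2 F, ∀ X, f k X = actE false S (actE true T X)) :
    QuotientGroup.mk' (Subgroup.center (Cfsg.Omega F (⇑Q))) x ∈ ⨆ i, LS P i := by
  choose S T h using h
  have h1 : (x : Cfsg.isometryGroup F (⇑Q)) =
      Lam P (0, false) (S 0) * Lam P (0, true) (T 0) * (Lam P (1, false) (S 1) * Lam P (1, true) (T 1)) := by
    have h2 := BMp.mul (BMp.mul (Lam_spec P (0, false) (S 0)) (Lam_spec P (0, true) (T 0)))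
      (BMp.mul (Lam_spec P (1, false) (S 1)) (Lam_spec P (1, true) (T 1)))
    refine BMp.unique hx (BMp.congr h2 fun k X => ?_)
    change lamf (0, false) (S 0) k (lamf (0, true) (T 0) k (lamf (1, false) (S 1) k (lamf (1, true) (T 1) k X))) = f k X
    have h01 : (0 : Fin 2) ≠ 1 := by decide
    fin_cases k
    · change lamf (0, false) (S 0) 0 (lamf (0, true) (T 0) 0 (lamf (1, false) (S 1) 0 (lamf (1, true) (T 1) 0 X))) = f 0 X
      rw [lamf_self, lamf_self, lamf_ne _ _ h01, lamf_ne _ _ h01, h]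
      rfl
    · change lamf (0, false) (S 0) 1 (lamf (0, true) (T 0) 1 (lamf (1, false) (S 1) 1 (lamf (1, true) (T 1) 1 X))) = f 1 X
      rw [lamf_self, lamf_self, lamf_ne _ _ h01.symm, lamf_ne _ _ h01.symm, h]
      rfl
  have h2 : x = Lo P (0, false) (S 0) * Lo P (0, true) (T 0) * (Lo P (1, false) (S 1) * Lo P (1, true) (T 1)) :=
    Subtype.ext h1
  rw [h2, map_mul, map_mul, map_mul]
  exact mul_mem (mul_mem (Subgroup.mem_iSup_of_mem (0, false) ⟨_, rfl⟩) (Subgroup.mem_iSup_of_mem (0, true) ⟨_, rfl⟩))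
    (mul_mem (Subgroup.mem_iSup_of_mem (1, false) ⟨_, rfl⟩) (Subgroup.mem_iSup_of_mem (1, true) ⟨_, rfl⟩))

/-- `z` on the blocks -/
theorem z_apply {z : Cfsg.Omega F (⇑Q)} (hz : IsZ Q E z) (k : Fin 2) (X : M2 F) :
    rep (inc (⇑Q)) z (Ψ (Pi.single k X)) = s0 F (k, (0, 0)) • Ψ (Pi.single k X) := by
  have h1 : BMp (Q := Q) Ψ (z : Cfsg.isometryGroup F (⇑Q)) 1 (fun k => s0 F (k, (0, 0)) • LinearMap.id) := by
    refine BMp_of_frame P fun k a => ?_
    change rep (inc (⇑Q)) z (E (k, a)) = _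
    rw [hz, mono_e P.hF P.two, id, ← P.ps, ← map_smul, ← Pi.single_smul]
    rfl
  have h2 := h1 k X
  change rep (inc (⇑Q)) z (Ψ (Pi.single k X)) = Ψ (Pi.single k (s0 F (k, (0, 0)) • X)) at h2
  rw [h2, Pi.single_smul, map_smul]

theorem exists_BMp_of_comm {z x : Cfsg.Omega F (⇑Q)} (hz : IsZ Q E z) (hxz : x * z = z * x) :
    ∃ f, BMp (Q := Q) Ψ (x : Cfsg.isometryGroup F (⇑Q)) 1 f := by
  have hzW : ∀ w, rep (inc (⇑Q)) z (Ψ w) = Ψ (fun k => s0 F (k, (0, 0)) • w k) := by
    intro w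
    have hw : w = ∑ k, Pi.single k (w k) := (Finset.univ_sum_single w).symm
    have hw' : (fun k => s0 F (k, (0, 0)) • w k) = ∑ k, Pi.single k (s0 F (k, (0, 0)) • w k) :=
      (Finset.univ_sum_single (fun k => s0 F (k, (0, 0)) • w k)).symm
    rw [hw', map_sum]
    conv_lhs => rw [hw, map_sum, map_sum]
    refine Finset.sum_congr rfl fun k _ => ?_
    rw [z_apply P hz, Pi.single_smul, map_smul]
  refine ⟨fun k => (LinearMap.proj k) ∘ₗ (Ψ.symm : (ι → F) →ₗ[F] (Fin 2 → M2 F)) ∘ₗ (rep (inc (⇑Q)) x) ∘ₗ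
    (Ψ : (Fin 2 → M2 F) →ₗ[F] (ι → F)) ∘ₗ (LinearMap.single F (fun _ : Fin 2 => M2 F) k), fun k X => ?_⟩
  change rep (inc (⇑Q)) x (Ψ (Pi.single k X)) = Ψ (Pi.single k (Ψ.symm (rep (inc (⇑Q)) x (Ψ (Pi.single k X))) k))
  set w := Ψ.symm (rep (inc (⇑Q)) x (Ψ (Pi.single k X))) with hw
  have hΨ : Ψ w = rep (inc (⇑Q)) x (Ψ (Pi.single k X)) := Ψ.apply_symm_apply _
  rw [← hΨ]
  congr 1
  have h1 : rep (inc (⇑Q)) z (Ψ w) = s0 F (k, (0, 0)) • Ψ w := by
    rw [hΨ, ← Module.End.mul_apply, ← map_mul, ← hxz, map_mul, Module.End.mul_apply, z_apply P hz, map_smul]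
  rw [hzW, ← map_smul] at h1
  have h2 := Ψ.injective h1
  funext l
  by_cases hl : l = k
  · subst hl
    rw [Pi.single_eq_same]
  · rw [Pi.single_eq_of_ne hl]
    have h3 := congrFun h2 l
    change s0 F (l, (0, 0)) • w l = s0 F (k, (0, 0)) • w l at h3
    have h4 : (s0 F (l, (0, 0)) - s0 F (k, (0, 0))) • w l = 0 := by rw [sub_smul, h3, sub_self]
    refine (smul_eq_zero.1 h4).resolve_left ?_
    intro h5
    apply P.two
    unfold s0 at h5
    fin_cases l <;> fin_cases k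
    · exact absurd rfl hl
    · simp at h5
      linear_combination -h5
    · simp at h5
      linear_combination h5
    · exact absurd rfl hl

omit P in
theorem abs_comm {G : Type*} [Group G] {x z d : G} (h1 : x * z = d * z * x) (hdc : ∀ g, g * d = d * g) (h2 : d * d = 1)
    (hx3 : x ^ 3 = 1) : x * z = z * x := by
  have h3 : x ^ 3 * z = d * d * d * z * x ^ 3 := by
    rw [pow_three']
    calc x * x * x * z = x * (x * (x * z)) := by simp only [mul_assoc]
      _ = x * (x * (d * z * x)) := by rw [h1]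
      _ = x * ((x * d) * z * x) := by simp only [mul_assoc]
      _ = x * ((d * x) * z * x) := by rw [hdc x]
      _ = x * (d * (x * z) * x) := by simp only [mul_assoc]
      _ = x * (d * (d * z * x) * x) := by rw [h1]
      _ = (x * d) * d * z * x * x := by simp only [mul_assoc]
      _ = (d * x) * d * z * x * x := by rw [hdc x]
      _ = d * (x * d) * z * x * x := by simp only [mul_assoc]
      _ = d * (d * x) * z * x * x := by rw [hdc x]
      _ = d * d * (x * z) * x * x := by simp only [mul_assoc]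
      _ = d * d * (d * z * x) * x * x := by rw [h1]
      _ = d * d * d * z * (x * x * x) := by simp only [mul_assoc]
  rw [hx3, one_mul, mul_one, h2, one_mul] at h3
  rw [h1, ← h3]

omit P in
theorem abs_four {G : Type*} [Group G] {x : G} (h : x ^ 3 = 1) : x = x * x * (x * x) := by
  have h1 : x * x * (x * x) = x ^ 3 * x := by
    rw [pow_three']
    simp only [mul_assoc]
  rw [h1, h, one_mul]

omit P in
theorem abs_twelve {G : Type*} [Group G] (x : G) : (x ^ 4) ^ 3 = (x ^ 3 * x ^ 3) * (x ^ 3 * x ^ 3) := by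
  rw [← pow_mul, ← pow_add, ← pow_add]

/-- **The elements of order three.** -/
theorem mem_of_three {z : Cfsg.Omega F (⇑Q)} (hz : IsZ Q E z) {y : Cfsg.POmega F (⇑Q)} (hy : y ^ 3 = 1)
    (hyz : y * QuotientGroup.mk z = QuotientGroup.mk z * y) : y ∈ ⨆ i, LS P i := by
  obtain ⟨x, rfl⟩ := QuotientGroup.mk_surjective y
  have hsq : ∀ g ∈ Subgroup.center (Cfsg.Omega F (⇑Q)), g * g = 1 := by
    intro g hg
    apply rep_inj (Q := Q)
    apply LinearMap.ext
    intro v
    rw [map_mul, Module.End.mul_apply, map_one, Module.End.one_apply]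
    rcases center_cases P hg with h | h
    · rw [h, h]
    · rw [h, h, neg_neg]
  have hc : x ^ 3 ∈ Subgroup.center (Cfsg.Omega F (⇑Q)) := (QuotientGroup.eq_one_iff _).1 hy
  obtain ⟨x', hx'⟩ : ∃ x', x' = x ^ 4 := ⟨_, rfl⟩
  have hx3 : x' ^ 3 = 1 := by
    rw [hx', abs_twelve, hsq _ hc, one_mul]
  have hmk : (QuotientGroup.mk x : Cfsg.POmega F (⇑Q)) = QuotientGroup.mk x' := by
    have h1 : (QuotientGroup.mk x' : Cfsg.POmega F (⇑Q)) = (QuotientGroup.mk x : Cfsg.POmega F (⇑Q)) ^ 4 := by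
      rw [hx']
      rfl
    have h2 : ((QuotientGroup.mk x : Cfsg.POmega F (⇑Q))) ^ 4 = (QuotientGroup.mk x : Cfsg.POmega F (⇑Q)) ^ 3 *
      QuotientGroup.mk x := pow_succ _ 3
    rw [h1, h2, hy, one_mul]
  rw [hmk] at hyz ⊢
  -- `x'` commutes with `z`
  have hd : x' * z * (z * x')⁻¹ ∈ Subgroup.center (Cfsg.Omega F (⇑Q)) := by
    rw [← QuotientGroup.eq_one_iff]
    have h1 : (QuotientGroup.mk (x' * z * (z * x')⁻¹) : Cfsg.POmega F (⇑Q)) =
        (QuotientGroup.mk x' * QuotientGroup.mk z) * (QuotientGroup.mk z * QuotientGroup.mk x')⁻¹ := rfl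
    rw [h1, hyz, mul_inv_cancel]
  have h1 : x' * z = z * x' := by
    refine abs_comm (d := x' * z * (z * x')⁻¹) ?_ (fun g => Subgroup.mem_center_iff.1 hd g) (hsq _ hd) hx3
    rw [mul_assoc (x' * z * (z * x')⁻¹), inv_mul_cancel_right]
  -- the blocks
  obtain ⟨f, hf⟩ := exists_BMp_of_comm P hz h1
  have h5 : x' = x' * x' * (x' * x') := abs_four hx3
  have h6 : BMp (Q := Q) Ψ ((x' * x' * (x' * x') : Cfsg.Omega F (⇑Q)) : Cfsg.isometryGroup F (⇑Q)) 1
      (fun k => (f k ∘ₗ f k) ∘ₗ (f k ∘ₗ f k)) := (hf.mul hf).mul (hf.mul hf)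
  rw [← h5] at h6
  exact mem_of_BMp P h6 fun k => typ_four P (hf.form P k)

/-! ### The hypotheses of BOX D2 -/

/-- the indices -/
noncomputable def ei : Fin 4 ≃ Fin 2 × Bool := Fintype.equivOfCardEq (by simp)

theorem exists_TBM_of_mem {g : Cfsg.POmega F (⇑Q)} (hg : g ∈ PMS P.two P.hF) :
    ∃ (x : Cfsg.Omega F (⇑Q)) (τ : Equiv.Perm (Fin 2)) (c : Fin 2 → Bool),
      g = QuotientGroup.mk' (Subgroup.center (Cfsg.Omega F (⇑Q))) x ∧
      TBM (Q := Q) Ψ (x : Cfsg.isometryGroup F (⇑Q)) τ c := by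
  obtain ⟨x, ⟨s, σ, -, hσ, hx⟩, rfl⟩ := hg
  obtain ⟨τ, c, h⟩ := PM_BMp P hσ hx
  exact ⟨x, τ, c, rfl, h⟩

/-- **The hypotheses of BOX D2.** -/
theorem LL_of [Finite F] (hodd : ¬ 2 ∣ (QQ P.h).index) : LL (PMS P.two P.hF) (fun i => LS P (ei i)) where
  comm i j hij x hx y hy := LS_comm P (fun h => hij (ei.injective h)) hx hy
  inj i j h := ei.injective (LS_injective P h)
  perm g hg i := by
    obtain ⟨x, τ, c, rfl, hx⟩ := exists_TBM_of_mem P hg
    refine ⟨ei.symm (τ (ei i).1, xor (ei i).2 (c (ei i).1)), ?_⟩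
    have h1 := LS_conj P hx (ei i).1 (ei i).2
    rw [← ei.apply_symm_apply (τ (ei i).1, xor (ei i).2 (c (ei i).1))] at h1
    exact h1
  trans i := by
    obtain ⟨x, hx, hxT⟩ := exists_tau P (Equiv.swap (ei 0).1 (ei i).1)
    have h1 := LS_conj P hxT (ei 0).1 (ei 0).2
    rw [Equiv.swap_apply_left, Bool.xor_false] at h1
    by_cases hb : (ei 0).2 = (ei i).2
    · refine ⟨_, ⟨x, hx, rfl⟩, h1.trans ?_⟩
      rw [hb]
    · obtain ⟨y, hy, hyT⟩ := exists_del P
      have h2 := LS_conj P hyT (ei i).1 (ei 0).2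
      have hb' : xor (ei 0).2 true = (ei i).2 := by
        revert hb
        generalize (ei 0).2 = b
        generalize (ei i).2 = c
        revert b c
        decide
      rw [hb', Equiv.Perm.one_apply] at h2
      refine ⟨_, ⟨y * x, mul_mem hy hx, rfl⟩, ?_⟩
      rw [map_mul, map_mul]
      have h3 : (LS P (ei 0)).map
          (MulAut.conj (QuotientGroup.mk' (Subgroup.center (Cfsg.Omega F (⇑Q))) y) *
            MulAut.conj (QuotientGroup.mk' (Subgroup.center (Cfsg.Omega F (⇑Q))) x)).toMonoidHom =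
          ((LS P (ei 0)).map (MulAut.conj (QuotientGroup.mk' (Subgroup.center (Cfsg.Omega F (⇑Q))) x)).toMonoidHom).map
            (MulAut.conj (QuotientGroup.mk' (Subgroup.center (Cfsg.Omega F (⇑Q))) y)).toMonoidHom := by
        rw [Subgroup.map_map]
        rfl
      rw [h3]
      exact (congrArg _ h1).trans h2
  reg g hg h0 i := by
    obtain ⟨x, τ, c, rfl, hx⟩ := exists_TBM_of_mem P hg
    have h1 := LS_conj P hx (ei 0).1 (ei 0).2
    have h2 : LS P (τ (ei 0).1, xor (ei 0).2 (c (ei 0).1)) = LS P (ei 0) := h1.symm.trans h0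
    have h3 := LS_injective P h2
    have h4 : τ (ei 0).1 = (ei 0).1 := congrArg Prod.fst h3
    have h5 : xor (ei 0).2 (c (ei 0).1) = (ei 0).2 := congrArg Prod.snd h3
    have h6 : c (ei 0).1 = false := by
      revert h5
      generalize (ei 0).2 = b
      generalize c (ei 0).1 = d
      revert b d
      decide
    have h7 : τ = 1 := by
      revert h4
      generalize (ei 0).1 = k
      clear h1 h2 h3 hx h0
      revert τ k
      decide
    subst h7
    have h8 := LS_conj P hx (ei i).1 (ei i).2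
    rw [typ_of_det P hx h6, Bool.xor_false, Equiv.Perm.one_apply] at h8
    exact h8
  syl i := syl P (ei i) hodd
  three i := three P (ei i) hodd
  disj i x hx hx' := by
    refine disj P (ei i) hx fun y hy => ?_
    have h1 : (⨆ j : {j // j ≠ i}, LS P (ei j.1)) ≤ Subgroup.centralizer {y} := by
      refine iSup_le fun j w hw => ?_
      rw [Subgroup.mem_centralizer_singleton_iff]
      exact LS_comm P (fun h => j.2 (ei.injective h)) hw hy
    exact Subgroup.mem_centralizer_singleton_iff.1 (h1 hx')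
  inter x hx hxL := by
    have h1 : (⨆ i, LS P (ei i)) = ⨆ i, LS P i := ei.surjective.iSup_comp (LS P)
    have h2 : (⨆ i, PMS P.two P.hF ⊓ LS P (ei i)) = ⨆ i, PMS P.two P.hF ⊓ LS P i :=
      ei.surjective.iSup_comp (fun i => PMS P.two P.hF ⊓ LS P i)
    rw [h2]
    exact inter P hodd hx (by rw [← h1]; exact hxL)

omit P in
theorem exists_ab (F : Type) [Field F] [Finite F] : ∃ α β : F, α * α + β * β = -1 := by
  obtain ⟨p, hp⟩ := CharP.exists F
  have hp' : p.Prime := CharP.char_is_prime F p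
  have : NeZero p := ⟨hp'.ne_zero⟩
  obtain ⟨a, b, hab⟩ := CharP.sq_add_sq F p (-1)
  refine ⟨a, b, ?_⟩
  rw [← pow_two, ← pow_two]
  simpa using hab

omit P in
theorem card_SL2 (F : Type) [Field F] [Finite F] : Nat.card (SpecialLinearGroup (Fin 2) F) =
    Nat.card F * (Nat.card F ^ 2 - 1) := by
  have : Fintype F := Fintype.ofFinite F
  have h1 := Cfsg.Agent.S0242.result (F := F) rfl 2 (by norm_num)
  have hq : 2 ≤ Fintype.card F := Fintype.one_lt_card
  rw [Fin.prod_univ_two] at h1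
  have h3 : Fintype.card F ^ 2 - Fintype.card F ^ 1 = (Fintype.card F - 1) * Fintype.card F := by
    rw [Nat.sub_mul, one_mul, pow_one, pow_two]
  simp only [Fin.val_zero, Fin.val_one, pow_zero] at h1
  rw [h3] at h1
  have h4 : (Fintype.card F - 1) * Nat.card (SpecialLinearGroup (Fin 2) F) =
      (Fintype.card F - 1) * (Fintype.card F * (Fintype.card F ^ 2 - 1)) := by rw [h1]; ring
  rw [Nat.card_eq_fintype_card (α := F)]
  exact Nat.eq_of_mul_eq_mul_left (by omega) h4

omit P in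
theorem dvd_of_sixteen {q n : ℕ} (hq : 1 < q) (h : 16 ∣ q ^ 2 - 1)
    (hn : n * 2 = q ^ 12 * (q ^ 2 - 1) * (q ^ 4 - 1) ^ 2 * (q ^ 6 - 1)) : 2 ^ 14 ∣ n := by
  obtain ⟨m, hm⟩ := h
  have h1 : 1 ≤ q ^ 2 := Nat.one_le_pow _ _ (by omega)
  have h2 : q ^ 2 = 16 * m + 1 := by omega
  have h4 : q ^ 4 - 1 = 32 * (8 * m ^ 2 + m) := by
    have : q ^ 4 = (q ^ 2) ^ 2 := by ring
    rw [this, h2]
    apply Nat.sub_eq_of_eq_add
    ring
  have h6 : q ^ 6 - 1 = 16 * (256 * m ^ 3 + 48 * m ^ 2 + 3 * m) := by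
    have : q ^ 6 = (q ^ 2) ^ 3 := by ring
    rw [this, h2]
    apply Nat.sub_eq_of_eq_add
    ring
  rw [hm, h4, h6] at hn
  have h7 : n = 2 ^ 14 * (8 * (q ^ 12 * m * (8 * m ^ 2 + m) ^ 2 * (256 * m ^ 3 + 48 * m ^ 2 + 3 * m))) := by
    have h8 : n * 2 = 2 ^ 14 * (8 * (q ^ 12 * m * (8 * m ^ 2 + m) ^ 2 * (256 * m ^ 3 + 48 * m ^ 2 + 3 * m))) * 2 := by
      rw [hn]
      ring
    omega
  exact Dvd.intro _ h7.symm

omit P in
/-- **BOX D3.** -/
theorem boxD3 [Finite F] (_hN : BoxN Q) : BoxD3 Q := by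
  intro h E hF z hz h14
  obtain ⟨α, β, hab⟩ := exists_ab F
  obtain ⟨Ψ, P⟩ := exists_Psi h hF hab
  have hqodd : Odd (Nat.card F) := by
    have : Fintype F := Fintype.ofFinite F
    rw [Nat.card_eq_fintype_card, Nat.odd_iff]
    apply FiniteField.odd_card_of_char_ne_two
    intro h2
    apply h.two
    have h3 := ringChar.Nat.cast_ringChar (R := F)
    rw [h2] at h3
    exact_mod_cast h3
  have h16 : ¬ 16 ∣ Nat.card F ^ 2 - 1 := fun h16 => h14 (dvd_of_sixteen Finite.one_lt_card h16 h.card)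
  have hodd : ¬ 2 ∣ (QQ P.h).index := index_odd P.h h.two hqodd h16 (card_SL2 F)
  refine ⟨fun i => LS P (ei i), LL_of P hodd, fun y hy hyz => ?_⟩
  rw [ei.surjective.iSup_comp (LS P)]
  exact mem_of_three P hz hy hyz

end Cfsg.Agent.H982.DfPsi
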