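import Cfsg.Agent.H661.SC.NonPrin
import Cfsg.Agent.H732.DegRee
import Cfsg.Agent.H732.DegSz

/-!
# `IMC` for the Suzuki and the small Ree groups (S4526, rows of helper661)

* `imc_of_deg` : a degree divisible by the full `p`-part of the order;
* `imc_sz`, `imc_ree`.
-/

set_option autoImplicit false

open Cfsg

namespace Cfsg.Agent.H982.ImcTw

open Cfsg.Agent.H625.SylConst Cfsg.Agent.H661.SC

universe u

/-- a degree divisible by the `p`-part of the order -/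
theorem imc_of_deg {S : Type u} [Group S] [Finite S] {p : ℕ} [hp : Fact p.Prime] (hd : p ∣ Nat.card S)
    {d a b : ℕ} (hmem : d ∈ charDegrees S) (hc : Nat.card S = a * b) (ha : a ∣ d) (hb : ¬ p ∣ b) : IMC p S := by
  obtain ⟨χ, rfl⟩ := hmem
  refine IMC.of_defect_zero hd χ (dvd_trans ?_ ha)
  have h0 : Nat.card S ≠ 0 := Nat.card_pos.ne'
  have ha0 : a ≠ 0 := by rintro rfl; exact h0 (by rw [hc, zero_mul])
  have hb0 : b ≠ 0 := by rintro rfl; exact hb (dvd_zero _)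
  rw [hc, Nat.factorization_mul ha0 hb0, Finsupp.add_apply, Nat.factorization_eq_zero_of_not_dvd hb, add_zero]
  exact Nat.ordProj_dvd a p

theorem imc_sz {S : Type u} [Group S] [Finite S] (h : Lie.IsoSuzuki S) (hs : IsSimpleGroup S) {p : ℕ}
    [hp : Fact p.Prime] (hd : p ∣ Nat.card S) : IMC p S := by
  by_cases hp2 : p = 2
  · subst hp2
    exact imc_char (Or.inr (Or.inr (Or.inr (Or.inr (Or.inr (Or.inr (Or.inr (Or.inr (Or.inl ⟨rfl, h⟩))))))))) hd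
  obtain ⟨F, _, _, m, hm, hF, he⟩ := h
  have hcard : Nat.card S = (2 ^ (2 * m + 1)) ^ 2 * (2 ^ (2 * m + 1) - 1) * ((2 ^ (2 * m + 1)) ^ 2 + 1) := by
    obtain ⟨e⟩ := he
    rw [Nat.card_congr e.toEquiv, H438.SzMax.card_sz hF]
  obtain ⟨j, rfl⟩ : ∃ j, m = j + 1 := ⟨m - 1, by omega⟩
  obtain ⟨k, hk⟩ : ∃ k, k = 2 ^ j := ⟨_, rfl⟩
  have hk0 : 0 < k := by rw [hk]; positivity
  have hq : 2 ^ (2 * (j + 1) + 1) = 8 * k ^ 2 := by rw [hk]; ring
  have hmem := H678.SuzGraph.mem_charDegrees hm hF he k (8 * k ^ 2 - 1) (8 * k ^ 2 + 4 * k + 1)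
    (8 * k ^ 2 + 1 - 4 * k) (by rw [hk]; rfl) (by have : 0 < k ^ 2 := by positivity
                                                  omega) rfl (by nlinarith [Nat.sub_add_cancel (show 4 * k ≤ 8 * k ^ 2 + 1 by nlinarith)])
  rw [hq] at hcard
  have h8 : (8 * k ^ 2) ^ 2 + 1 = (8 * k ^ 2 + 4 * k + 1) * (8 * k ^ 2 + 1 - 4 * k) := by
    have h4 : 4 * k ≤ 8 * k ^ 2 + 1 := by nlinarith
    zify [h4]
    ring
  have hpq : ¬ p ∣ (8 * k ^ 2) ^ 2 := by
    intro h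
    have h1 := hp.out.dvd_of_dvd_pow h
    rw [← hq] at h1
    exact hp2 ((Nat.prime_dvd_prime_iff_eq hp.out Nat.prime_two).1 (hp.out.dvd_of_dvd_pow h1))
  have hd' := hd
  rw [hcard] at hd'
  have hcop : p ∣ 8 * k ^ 2 - 1 → ¬ p ∣ (8 * k ^ 2) ^ 2 + 1 := by
    intro h1 h2
    have h3 : 0 < 8 * k ^ 2 := by positivity
    obtain ⟨x, hx⟩ : ∃ x, 8 * k ^ 2 = x + 1 := ⟨8 * k ^ 2 - 1, by omega⟩
    rw [hx] at h1 h2
    rw [Nat.add_sub_cancel] at h1
    have e : (x + 1) ^ 2 + 1 = x * (x + 2) + 2 := by ring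
    rw [e] at h2
    have h4 : p ∣ 2 := (Nat.dvd_add_right (h1.mul_right _)).1 h2
    exact hp2 ((Nat.prime_dvd_prime_iff_eq hp.out Nat.prime_two).1 h4)
  by_cases h1 : p ∣ 8 * k ^ 2 - 1
  · refine imc_of_deg hd ((hmem _).2 (Or.inr (Or.inr (Or.inr (Or.inl rfl)))))
      (a := 8 * k ^ 2 - 1) (b := (8 * k ^ 2) ^ 2 * ((8 * k ^ 2) ^ 2 + 1)) ?_ (dvd_mul_right _ _) ?_
    · rw [hcard]; ring
    · intro h2
      rcases hp.out.dvd_mul.1 h2 with h3 | h3
      · exact hpq h3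
      · exact hcop h1 h3
  · refine imc_of_deg hd ((hmem _).2 (Or.inr (Or.inr (Or.inl rfl))))
      (a := (8 * k ^ 2) ^ 2 + 1) (b := (8 * k ^ 2) ^ 2 * (8 * k ^ 2 - 1)) ?_ (dvd_of_eq (by ring)) ?_
    · rw [hcard]; ring
    · intro h2
      rcases hp.out.dvd_mul.1 h2 with h3 | h3
      · exact hpq h3
      · exact h1 h3

theorem imc_ree {S : Type u} [Group S] [Finite S] (h : Lie.IsoRee S) (hs : IsSimpleGroup S) {p : ℕ}
    [hp : Fact p.Prime] (hd : p ∣ Nat.card S) : IMC p S := by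
  by_cases hp3 : p = 3
  · subst hp3
    exact imc_char (Or.inr (Or.inr (Or.inr (Or.inr (Or.inr (Or.inr (Or.inr (Or.inr (Or.inr (Or.inr ⟨rfl, h⟩)))))))))) hd
  obtain ⟨m, hm, F, hc⟩ := H732.DegRee.facts_of_iso h
  have ar := LieRecognition.ReeClass.arith m
  have hq8 := ar.q8
  obtain ⟨q, hqdef⟩ : ∃ q, q = 3 ^ (2 * m + 1) := ⟨_, rfl⟩
  rw [← hqdef] at F hc hq8
  have hq3 : ¬ p ∣ q ^ 3 := by
    intro h1
    rw [hqdef] at h1
    exact hp3 ((Nat.prime_dvd_prime_iff_eq hp.out Nat.prime_three).1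
      (hp.out.dvd_of_dvd_pow (hp.out.dvd_of_dvd_pow h1)))
  by_cases hp2 : p = 2
  · subst hp2
    -- `|S|_2 = 8`, `4 ∣ q ^ 3 + 1`
    obtain ⟨χ, hχ⟩ := F.ps
    obtain ⟨t, ht⟩ : ∃ t, q = 8 * t + 3 := ⟨q / 8, by omega⟩
    have e1 : q ^ 3 + 1 = 4 * (2 * (64 * t ^ 3 + 72 * t ^ 2 + 27 * t + 3) + 1) := by rw [ht]; ring
    have e2 : q - 1 = 2 * (4 * t + 1) := by omega
    have hχ' : charDegree (χ : S → ℂ) = q ^ 3 + 1 := hχ
    have hq2 : ¬ 2 ∣ q ^ 3 := by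
      intro h1
      have := Nat.prime_two.dvd_of_dvd_pow h1
      omega
    have e3 : Nat.card S = 2 ^ 3 * (q ^ 3 * (4 * t + 1) * (2 * (64 * t ^ 3 + 72 * t ^ 2 + 27 * t + 3) + 1)) := by
      rw [hc, e1, e2]; ring
    have e4 : ¬ 2 ∣ (q ^ 3 * (4 * t + 1) * (2 * (64 * t ^ 3 + 72 * t ^ 2 + 27 * t + 3) + 1)) := by
      intro h1
      rcases Nat.prime_two.dvd_mul.1 h1 with h2 | h2
      · rcases Nat.prime_two.dvd_mul.1 h2 with h2 | h2
        · exact hq2 h2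
        · omega
      · omega
    have e5 : (Nat.card S).factorization 2 = 3 := by
      rw [e3]
      have h0 : (q ^ 3 * (4 * t + 1) * (2 * (64 * t ^ 3 + 72 * t ^ 2 + 27 * t + 3) + 1)) ≠ 0 := by
        intro h0; exact e4 (h0 ▸ dvd_zero _)
      rw [Nat.factorization_mul (by norm_num) h0, Finsupp.add_apply, Nat.factorization_eq_zero_of_not_dvd e4,
        Nat.prime_two.factorization_pow]
      simp
    refine imc_of_pow χ ?_ ?_
    · rw [hχ', e1]
      exact Dvd.intro _ (by ring : 2 * (2 * (2 * (64 * t ^ 3 + 72 * t ^ 2 + 27 * t + 3) + 1)) = _)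
    · rw [hχ', e5, e1]
      exact dvd_mul_right _ _
  · have hd' := hd
    rw [hc] at hd'
    by_cases h1 : p ∣ q - 1
    · obtain ⟨d, hdm, hdd⟩ := F.cusp
      have hcop : ¬ p ∣ q ^ 3 + 1 := by
        intro h2
        obtain ⟨x, hx⟩ : ∃ x, q = x + 1 := ⟨q - 1, by omega⟩
        rw [hx] at h1 h2
        rw [Nat.add_sub_cancel] at h1
        have e : (x + 1) ^ 3 + 1 = x * (x ^ 2 + 3 * x + 3) + 2 := by ring
        rw [e] at h2
        have h4 : p ∣ 2 := (Nat.dvd_add_right (h1.mul_right _)).1 h2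
        exact hp2 ((Nat.prime_dvd_prime_iff_eq hp.out Nat.prime_two).1 h4)
      have e2 : q - 1 = 2 * ((q - 1) / 2) := by omega
      refine imc_of_deg hd hdm (a := (q - 1) / 2) (b := 2 * q ^ 3 * (q ^ 3 + 1)) ?_ ((dvd_mul_left _ _).trans hdd) ?_
      · rw [hc, e2, Nat.mul_div_cancel_left _ (by norm_num)]; ring
      · intro h2
        rcases hp.out.dvd_mul.1 h2 with h3 | h3
        · rcases hp.out.dvd_mul.1 h3 with h3 | h3
          · exact hp2 ((Nat.prime_dvd_prime_iff_eq hp.out Nat.prime_two).1 h3)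
          · exact hq3 h3
        · exact hcop h3
    · refine imc_of_deg hd F.ps (a := q ^ 3 + 1) (b := q ^ 3 * (q - 1)) ?_ dvd_rfl ?_
      · rw [hc]; ring
      · intro h2
        rcases hp.out.dvd_mul.1 h2 with h3 | h3
        · exact hq3 h3
        · exact h1 h3

end Cfsg.Agent.H982.ImcTw
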