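import Cfsg.Agent.H982.ImcSzRee
import Cfsg.Agent.H661.SC.Fix
import Cfsg.Agent.H42.Deg.F4Main
import Cfsg.Agent.H42.Deg.F4BigB
import Cfsg.Agent.H692.RealOver

/-!
# `IMC` for `²F₄(q)`, `q > 2` (S4526, row of helper661)

* `p ∤ (q - 1)(q + 1)`, resp. `p ∣ q + 1`: the big characters of the two parabolic subgroups have defect zero;
* `p ∣ q - 1`, `q - 1` not a power of `p`: the big character has a fixed vector (`fix_big`);
* `q - 1 = p` : `p ^ 3` does not divide the order.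
-/

set_option autoImplicit false
set_option linter.unusedSectionVars false

open scoped Pointwise ComplexConjugate

namespace Cfsg.Agent.H982.ImcTw

open Cfsg Cfsg.Agent.Characters
open Cfsg.Agent.SplitTwo Cfsg.Agent.SplitTwo.ZS Cfsg.Agent.TitsThree.RankTwoZ Cfsg.Agent.SplitTwo.RootSysZ
open Cfsg.Agent.KFacts.TwF4 Cfsg.Agent.KFacts.TwF4.Arc Cfsg.Agent.KFacts.TwF4.SylU Cfsg.Agent.KFacts.TwF4.TorEx
open Cfsg.Agent.KFacts.TwF4.Full Cfsg.Agent.LieRecognition.RankOneAbstract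
open Cfsg.Agent.H42.Deg Cfsg.Agent.H42.Deg.F4
open Cfsg.Agent.H625.SylConst Cfsg.Agent.H661.SC

universe u

section char

variable {F : Type*} [Field F] {σ : F →+* F} {G : Type u} [Group G] (S : Full σ G)
variable [Finite F] [Finite G] (hF : ∃ c : Fˣ, c ≠ 1)

include hF in
/-- the big character of `PP`, with a free linear character `ζ` of `ZJ` -/
theorem fix_big {p : ℕ} [hp : Fact p.Prime] (hpv : (Nat.card S.LO).factorization p ≤ (Nat.card F - 1).factorization p)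
    (hpq : p ∣ Nat.card F - 1)
    (ζ : ZJ S →* ℂˣ) {z1 : ZJ S} (hz1 : ζ z1 * ζ z1 ≠ 1) (hζ : ∀ z : ZJ S, (∃ k : ℕ, z ^ p ^ k = 1) → ζ z = 1) :
    ∃ χ : IrrCharacter G, FixAll p (χ : G → ℂ) ∧ p ∣ charDegree (χ : G → ℂ) := by
  classical
  have := Fintype.ofFinite G
  obtain ⟨θ, hθ, hθ0, hθd⟩ := exists_theta S hF
  obtain ⟨πL, hL1, hL2⟩ := exists_proj (LO_le_PP S) (N1_le_PP S) (fun x hx y hy => N1_norm S hx hy)
    (fun x hx hx' => LO_inf_N1 S hF hx hx') (fun x hx => PP_form S hx)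
  obtain ⟨πZ, hZ1, hZ2⟩ := exists_proj (ZJ_le_PP S) (J_le_PP S) (fun x hx y hy => J19_norm S hx hy)
    (fun x hx hx' => ZJ_inf_J S hF hx hx') (fun x hx => PP_form' S hx)
  have hsurj : Function.Surjective πL := fun l => ⟨⟨l, LO_le_PP S l.2⟩, hL1 l l.2⟩
  have hψ := Cfsg.Agent.CharactersDeep.ExtUnique.isIrr_mul_hom (Core.isIrr_comp πL hsurj hθ) (ζ.comp πZ)
  set ψ : ↥(PP S) → ℂ := fun g => (θ ∘ πL) g * (((ζ.comp πZ) g : ℂˣ) : ℂ) with hψdef
  -- the values of `ψ`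
  have v1 : ψ 1 = θ 1 := by
    rw [hψdef]
    simp only [Function.comp, map_one, Units.val_one, mul_one]
  have v28 : ∀ (g : G) (hg : g ∈ J S.XZ 2 8) (hg' : g ∈ PP S), ψ ⟨g, hg'⟩ = θ 1 := by
    intro g hg hg'
    have a1 : πL ⟨g, hg'⟩ = 1 := hL2 g (Subgroup.mem_sup_right hg)
    have a2 : πZ ⟨g, hg'⟩ = 1 := hZ2 g (J_mono (by norm_num) (by norm_num) hg)
    show θ (πL ⟨g, hg'⟩) * ((ζ (πZ ⟨g, hg'⟩) : ℂˣ) : ℂ) = θ 1
    rw [a1, a2, map_one, Units.val_one, mul_one]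
  have vLO : ∀ (g : G) (hg : g ∈ S.LO) (hg' : g ∈ PP S), ψ ⟨g, hg'⟩ = θ ⟨g, hg⟩ := by
    intro g hg hg'
    have a1 : πL ⟨g, hg'⟩ = ⟨g, hg⟩ := hL1 g hg
    have a2 : πZ ⟨g, hg'⟩ = 1 := hZ2 g (S.LO_le_J hg)
    show θ (πL ⟨g, hg'⟩) * ((ζ (πZ ⟨g, hg'⟩) : ℂˣ) : ℂ) = _
    rw [a1, a2, map_one, Units.val_one, mul_one]
  have vZ : ∀ (g : G) (hg : g ∈ ZJ S) (hg' : g ∈ PP S), ψ ⟨g, hg'⟩ = θ 1 * ((ζ ⟨g, hg⟩ : ℂˣ) : ℂ) := by
    intro g hg hg'
    have a1 : πL ⟨g, hg'⟩ = 1 := hL2 g (Subgroup.mem_sup_left hg)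
    have a2 : πZ ⟨g, hg'⟩ = ⟨g, hg⟩ := hZ1 g hg
    show θ (πL ⟨g, hg'⟩) * ((ζ (πZ ⟨g, hg'⟩) : ℂˣ) : ℂ) = _
    rw [a1, a2]
  have hirr : IsIrrCharacter G (indFun (PP S) ψ) := by
    refine Cfsg.Agent.H53.HC.isIrr_indFun_rep (PP S) hψ fun x hx => ?_
    obtain ⟨a, ha, b, hb, y, hxy, c, hc1, hc4, hy⟩ := dcoset S hx
    refine ⟨a, ha, b, hb, y, hxy, ?_⟩
    have hyi : Maps S.R.X y⁻¹ (fun k => ((2 * c : ℤ) : ZMod (2 * 8)) - k) := hy.inv fun k => sub_sub_cancel _ k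
    rcases eq_or_lt_of_le hc1 with hc | hc
    · -- `c = 1`
      subst hc
      have hinv : ∀ l ∈ ZJ S, y⁻¹ * l * y = l⁻¹ := fun l hl => inv_ZJ S hy hl
      refine ⟨ZJ S, ZJ_le_PP S, fun l hl => by rw [hinv l hl]; exact inv_mem (ZJ_le_PP S hl), ?_⟩
      intro _
      have e : ∀ l : ZJ S, ψ ⟨l, ZJ_le_PP S l.2⟩ * conj (ψ ⟨y⁻¹ * l * y, by
          rw [hinv l l.2]; exact inv_mem (ZJ_le_PP S l.2)⟩) =
          (θ 1 * conj (θ 1)) * (((ζ l : ℂˣ) : ℂ) * ((ζ l : ℂˣ) : ℂ)) := by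
        intro l
        have e2 : (⟨y⁻¹ * l * y, by rw [hinv l l.2]; exact inv_mem (ZJ_le_PP S l.2)⟩ : ↥(PP S)) =
            ⟨((l⁻¹ : ZJ S) : G), ZJ_le_PP S (l⁻¹ : ZJ S).2⟩ := Subtype.ext (hinv l l.2)
        rw [e2, vZ _ l.2, vZ _ (l⁻¹ : ZJ S).2, map_mul]
        have e3 : conj (((ζ ⟨((l⁻¹ : ZJ S) : G), (l⁻¹ : ZJ S).2⟩ : ℂˣ)) : ℂ) = ((ζ l : ℂˣ) : ℂ) := by
          have := conj_unit ζ l⁻¹
          rw [inv_inv] at this
          exact this
        rw [e3]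
        ring
      rw [Finset.sum_congr rfl fun l _ => e l, ← Finset.mul_sum]
      have h0 : ∑ l : ZJ S, ((ζ l : ℂˣ) : ℂ) * ((ζ l : ℂˣ) : ℂ) = 0 := by
        refine sum_eq_zero (f := fun l : ZJ S => ((ζ l : ℂˣ) : ℂ) * ((ζ l : ℂˣ) : ℂ)) (fun a b => ?_) (z := z1) ?_
        · simp only [map_mul, Units.val_mul]
          ring
        · intro h
          apply hz1
          apply Units.ext
          rw [Units.val_mul, Units.val_one]
          exact h
      rw [h0, mul_zero]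
    · -- `c = 2, 3, 4`
      have hmem : ∀ l ∈ S.XZ 1, y⁻¹ * l * y ∈ J S.XZ 2 8 := by
        intro l hl
        have h1 := S.map_sub hyi (mem_J hl le_rfl le_rfl)
        rw [inv_inv] at h1
        exact J_mono (by omega) (by omega) h1
      have hJP : J S.XZ 2 8 ≤ PP S := (J_mono (by norm_num) (by norm_num)).trans (J_le_PP S)
      have hX1 : S.XZ 1 ≤ S.LO := le_sup_left
      refine ⟨S.XZ 1, hX1.trans (LO_le_PP S), fun l hl => hJP (hmem l hl), ?_⟩
      intro _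
      have e : ∀ l : S.XZ 1, ψ ⟨l, LO_le_PP S (hX1 l.2)⟩ * conj (ψ ⟨y⁻¹ * l * y, hJP (hmem l l.2)⟩) =
          θ ⟨l, hX1 l.2⟩ * conj (θ 1) := by
        intro l
        rw [vLO _ (hX1 l.2), v28 _ (hmem l l.2)]
      rw [Finset.sum_congr rfl fun l _ => e l, ← Finset.sum_mul]
      have h0 : ∑ l : S.XZ 1, θ ⟨l, hX1 l.2⟩ = 0 := by
        let _ : Fintype (UU S) := Fintype.ofFinite _
        let e : ↥(S.XZ 1) ≃ ↥(UU S) := (Subgroup.subgroupOfEquivOfLe hX1).symm.toEquiv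
        exact (Fintype.sum_equiv e (fun l : S.XZ 1 => θ ⟨l, hX1 l.2⟩) (fun u : UU S => θ u) fun l => rfl).trans hθ0
      rw [h0, zero_mul]
  refine ⟨⟨_, hirr⟩, ?_, ?_⟩
  · -- fixed vectors
    refine FixAll.indFun (PP S) (Core.isIrr_isCharacter hψ) fun R hR => ?_
    have hθ1 := Cfsg.Agent.Blocks.Basic.irr_one_eq_charDegree hθ
    have hpos : 0 < charDegree θ := Cfsg.Agent.Blocks.Basic.charDegree_pos hθ
    refine fix_of_re ?_ fun z hz => ?_
    · rw [v1, hθ1, Complex.natCast_re]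
      exact_mod_cast hpos
    · obtain ⟨k, hk⟩ := hR ⟨z, hz⟩
      have hk' : z ^ p ^ k = 1 := congrArg Subtype.val hk
      have a2 : ζ (πZ z) = 1 := hζ _ ⟨k, by rw [← map_pow, hk', map_one]⟩
      have a3 : ψ z = θ (πL z) := by
        show θ (πL z) * ((ζ (πZ z) : ℂˣ) : ℂ) = _
        rw [a2, Units.val_one, mul_one]
      rw [a3]
      by_cases h1 : πL z = 1
      · rw [h1, hθ1, Complex.natCast_re]
        exact Nat.cast_nonneg _
      · have h2 : p ∣ orderOf (πL z) := by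
          have h3 : orderOf (πL z) ∣ p ^ k := orderOf_dvd_of_pow_eq_one (by rw [← map_pow, hk', map_one])
          obtain ⟨j, -, hj⟩ := (Nat.dvd_prime_pow hp.out).1 h3
          rw [hj]
          apply dvd_pow_self
          rintro rfl
          rw [pow_zero, orderOf_eq_one_iff] at hj
          exact h1 hj
        have hdz : p ^ (Nat.card S.LO).factorization p ∣ charDegree θ := by
          refine dvd_trans (pow_dvd_pow p hpv) (dvd_trans ?_ hθd)
          exact Nat.ordProj_dvd _ _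
        rw [H692.RealOver.defect_zero_vanish hθ p hp.out hdz h2, Complex.zero_re]
  · have hd := Cfsg.Agent.Blocks.Basic.irr_one_eq_charDegree hirr
    rw [Cfsg.Agent.H53.HC.indFun_one, v1, Cfsg.Agent.Blocks.Basic.irr_one_eq_charDegree hθ] at hd
    have hd' : charDegree (indFun (PP S) ψ) = (PP S).index * charDegree θ := by
      exact_mod_cast hd.symm
    show p ∣ charDegree (indFun (PP S) ψ)
    rw [hd']
    exact (hpq.trans hθd).mul_left _

/-- the linear character of `ZJ` : trivial on the `p`-elements -/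
theorem exists_zeta_p {p r : ℕ} [hp : Fact p.Prime] (hr : r.Prime) (hr2 : r ≠ 2) (hrp : r ≠ p)
    (hrd : r ∣ Nat.card F - 1) :
    ∃ ζ : ZJ S →* ℂˣ, ∃ z, ζ z * ζ z ≠ 1 ∧ ∀ z : ZJ S, (∃ k : ℕ, z ^ p ^ k = 1) → ζ z = 1 := by
  have : Fact r.Prime := ⟨hr⟩
  let _ : CommGroup (ZJ S) := { (inferInstance : Group (ZJ S)) with
    mul_comm := fun a b => Subtype.ext (T_comm S (ZJ_le_T S a.2) (ZJ_le_T S b.2)) }
  have hcard : Nat.card (ZJ S) = Nat.card F - 1 := by rw [card_ZJ, card_units]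
  obtain ⟨z, hz⟩ := exists_prime_orderOf_dvd_card' (G := ZJ S) r (by rw [hcard]; exact hrd)
  have hz1 : z ≠ 1 := by
    intro h
    rw [h, orderOf_one] at hz
    exact hr.one_lt.ne hz
  obtain ⟨ζ, hζ⟩ := CommGroup.exists_apply_ne_one_of_hasEnoughRootsOfUnity (ZJ S) ℂ hz1
  have ho : orderOf (ζ z) = r := by
    have h1 : (ζ z) ^ r = 1 := by rw [← map_pow, ← hz, pow_orderOf_eq_one, map_one]
    exact orderOf_eq_prime h1 hζ
  set a := (Nat.card (ZJ S)).factorization p with ha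
  refine ⟨ζ ^ p ^ a, z, ?_, ?_⟩
  · rw [MonoidHom.pow_apply, ← pow_add, ← two_mul]
    intro h
    have h1 := orderOf_dvd_of_pow_eq_one h
    rw [ho] at h1
    rcases hr.dvd_mul.1 h1 with h2 | h2
    · exact hr2 ((Nat.prime_dvd_prime_iff_eq hr Nat.prime_two).1 h2)
    · exact hrp ((Nat.prime_dvd_prime_iff_eq hr hp.out).1 (hr.dvd_of_dvd_pow h2))
  · rintro w ⟨k, hk⟩
    rw [MonoidHom.pow_apply, ← map_pow]
    have h1 : orderOf w ∣ p ^ k := orderOf_dvd_of_pow_eq_one hk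
    obtain ⟨j, -, hj⟩ := (Nat.dvd_prime_pow hp.out).1 h1
    have h2 : p ^ j ∣ Nat.card (ZJ S) := hj ▸ orderOf_dvd_natCard w
    have h3 : j ≤ a := (hp.out.pow_dvd_iff_le_factorization Nat.card_pos.ne').1 h2
    have h4 : w ^ p ^ a = 1 := by
      rw [← orderOf_dvd_iff_pow_eq_one, hj]
      exact pow_dvd_pow p h3
    rw [h4, map_one]

end char

/-- `x ^ a + 1 = 2 ^ n` -/
theorem eq_one_of_pow {p a n : ℕ} (hp : 2 < p) (ha : a ≠ 0) (h : p ^ a + 1 = 2 ^ n) : a = 1 := by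
  by_contra hne
  have h9 : 9 ≤ p ^ a := by
    calc 9 = 3 ^ 2 := by norm_num
      _ ≤ p ^ 2 := Nat.pow_le_pow_left (by omega) 2
      _ ≤ p ^ a := Nat.pow_le_pow_right (by omega) (by omega)
  have hn : 3 ≤ n := by
    by_contra hlt
    have : 2 ^ n ≤ 2 ^ 2 := Nat.pow_le_pow_right (by norm_num) (by omega)
    omega
  have h8 : 2 ^ n % 8 = 0 := Nat.mod_eq_zero_of_dvd (by
    have := pow_dvd_pow 2 hn
    simpa using this)
  have hodd : p % 2 = 1 := by
    by_contra h1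
    have h2 : 2 ∣ p := by omega
    have h3 : 2 ∣ p ^ a := h2.trans (dvd_pow_self p ha)
    omega
  rcases Nat.even_or_odd a with he | ho
  · obtain ⟨b, rfl⟩ := he
    have h1 : p ^ b % 2 = 1 := by rw [Nat.pow_mod, hodd, one_pow]; norm_num
    have h2 : p ^ (b + b) % 8 = 1 := by
      rw [pow_add, Nat.mul_mod]
      have h3 : p ^ b % 8 = 1 ∨ p ^ b % 8 = 3 ∨ p ^ b % 8 = 5 ∨ p ^ b % 8 = 7 := by omega
      rcases h3 with h3 | h3 | h3 | h3 <;> rw [h3]
    omega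
  · have h1 : p + 1 ∣ 2 ^ n := by
      rw [← h]
      have := Odd.nat_add_dvd_pow_add_pow p 1 ho
      rwa [one_pow] at this
    obtain ⟨s, hs, hps⟩ := (Nat.dvd_prime_pow Nat.prime_two).1 h1
    have h3a : 3 ≤ a := by
      obtain ⟨b, rfl⟩ := ho
      omega
    by_cases hlt : n < 2 * s
    · have h2 : 2 ^ n < 2 ^ (2 * s) := Nat.pow_lt_pow_right (by norm_num) hlt
      have h3 : 2 ^ (2 * s) = (p + 1) ^ 2 := by rw [hps]; ring
      have h4 : p ^ 3 ≤ p ^ a := Nat.pow_le_pow_right (by omega) h3a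
      nlinarith
    · -- `p ^ a + 1 = (2 ^ s - 1) ^ a + 1 ≡ a 2 ^ s`
      have hs0 : s ≠ 0 := by rintro rfl; omega
      obtain ⟨b, hb⟩ := ho
      have h2 : (2 ^ s : ℤ) ^ 2 ∣ (p : ℤ) ^ a + 1 := by
        have h3 : (2 : ℕ) ^ (2 * s) ∣ p ^ a + 1 := by rw [h]; exact pow_dvd_pow 2 (not_lt.1 hlt)
        have h4 : ((2 ^ (2 * s) : ℕ) : ℤ) ∣ ((p ^ a + 1 : ℕ) : ℤ) := Int.natCast_dvd_natCast.2 h3
        push_cast at h4
        rwa [mul_comm 2 s, pow_mul] at h4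
      have hp' : (p : ℤ) = 2 ^ s - 1 := by
        have : ((p + 1 : ℕ) : ℤ) = ((2 ^ s : ℕ) : ℤ) := by rw [hps]
        push_cast at this
        linarith
      -- binomial formula modulo the square
      have h5 : ∀ c : ℕ, ((2 : ℤ) ^ s) ^ 2 ∣ (1 - 2 ^ s : ℤ) ^ c - (1 - c * 2 ^ s) := by
        intro c
        induction c with
        | zero => simp
        | succ c ih =>
          obtain ⟨t, ht⟩ := ih
          refine ⟨t * (1 - 2 ^ s) + c, ?_⟩
          have e : (1 - 2 ^ s : ℤ) ^ c = (1 - c * 2 ^ s) + (2 ^ s) ^ 2 * t := by linarith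
          rw [pow_succ, e]
          push_cast
          ring
      have h6 : (p : ℤ) ^ a = -(1 - 2 ^ s : ℤ) ^ a := by
        rw [hp', ← neg_sub, Odd.neg_pow (by rw [hb]; exact ⟨b, rfl⟩)]
      rw [h6] at h2
      have h7 := dvd_add h2 (h5 a)
      have e7 : -(1 - 2 ^ s : ℤ) ^ a + 1 + ((1 - 2 ^ s) ^ a - (1 - a * 2 ^ s)) = 2 ^ s * a := by ring
      rw [e7, _root_.sq] at h7
      have h8 : (2 : ℤ) ^ s ∣ a := by
        refine (mul_dvd_mul_iff_left (by positivity)).1 h7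
      have h9 : (2 : ℤ) ∣ a := (dvd_pow_self 2 hs0).trans h8
      omega

/-- an irreducible character induced from a `p'`-subgroup, up to a factor -/
theorem imc_of_index {G : Type u} [Group G] [Finite G] {p : ℕ} [hp : Fact p.Prime] (hd : p ∣ Nat.card G)
    (H : Subgroup G) {c : ℕ} (hH : ¬ p ∣ Nat.card H) {χ : G → ℂ} (hχ : IsIrrCharacter G χ)
    (h : H.index * c ∣ charDegree χ) : IMC p G :=
  imc_of_deg hd (d := charDegree χ) ⟨⟨χ, hχ⟩, rfl⟩ (by rw [mul_comm]; exact H.card_mul_index.symm)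
    ((dvd_mul_right _ _).trans h) hH

/-- the odd primes -/
theorem imc_2f4_aux {K : Type} [Field K] [Fintype K] {m : ℕ} (hm : 1 ≤ m) (hK : Fintype.card K = 2 ^ (2 * m + 1))
    (hs : IsSimpleGroup ↥(Lie.twistedF4 K (2 ^ m)))
    [hfin : Finite ↥(Lie.twistedF4 K (2 ^ m))] {p : ℕ} [hp : Fact p.Prime] (hp2 : p ≠ 2)
    (hd : p ∣ Nat.card ↥(Lie.twistedF4 K (2 ^ m))) : IMC p ↥(Lie.twistedF4 K (2 ^ m)) := by
  have hch := Cfsg.Agent.ChevalleyStructure.TwF4.Twisted.charP_two hK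
  obtain ⟨φ, hφ⟩ := Cfsg.Agent.ChevalleyStructure.TwF4.TwistedFix.exists_rln hK
  have hcard := Cfsg.Agent.S1068.result hK
  set S := Cfsg.Agent.KFacts.TwF4.Inst.full hK hφ with hS
  have hF := exists_unit hm hK
  have hq : Nat.card K = 2 ^ (2 * m + 1) := by rw [Nat.card_eq_fintype_card, hK]
  have h8 : 8 ≤ 2 ^ (2 * m + 1) := by
    calc 8 = 2 ^ 3 := by norm_num
      _ ≤ 2 ^ (2 * m + 1) := Nat.pow_le_pow_right (by norm_num) (by omega)
  have h2 : ∀ k : ℕ, ¬ p ∣ 2 ^ k := fun k h =>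
    hp2 ((Nat.prime_dvd_prime_iff_eq hp.out Nat.prime_two).1 (hp.out.dvd_of_dvd_pow h))
  have h2' : ¬ p ∣ 2 := fun h => h2 1 (by rwa [pow_one])
  have heven : 2 ∣ 2 ^ (2 * m + 1) := dvd_pow_self 2 (by omega)
  have hp3 : 2 < p := lt_of_le_of_ne hp.out.two_le (Ne.symm hp2)
  obtain ⟨k, hk⟩ : ∃ k, 2 ^ (2 * m + 1) = k + 1 := ⟨2 ^ (2 * m + 1) - 1, by omega⟩
  have hq0 : ¬ p ∣ k + 1 := hk ▸ h2 _
  have e4 : (k + 1) ^ 4 - 1 = k * (k + 2) * ((k + 1) ^ 2 + 1) := by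
    have : (k + 1) ^ 4 = k * (k + 2) * ((k + 1) ^ 2 + 1) + 1 := by ring
    omega
  rw [hk] at hq hcard
  rw [e4, Nat.add_sub_cancel] at hcard
  have hunit : Nat.card Kˣ = k := by rw [card_units, hq, Nat.add_sub_cancel]
  by_cases hpk : p ∣ k
  · -- `p ∣ q - 1`
    have hp2k : ¬ p ∣ k + 2 := fun h => h2' ((Nat.dvd_add_right hpk).1 h)
    by_cases hr : ∃ r, r.Prime ∧ r ≠ p ∧ r ∣ k
    · obtain ⟨r, hr, hrp, hrk⟩ := hr
      have hr2 : r ≠ 2 := by
        rintro rfl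
        omega
      obtain ⟨ζ, z, hz, hζ⟩ := exists_zeta_p S (p := p) hr hr2 hrp (by rw [hq, Nat.add_sub_cancel]; exact hrk)
      obtain ⟨χ, h1, h3⟩ := fix_big S hF (p := p) (by
        rw [card_LO, hunit, hq, Nat.add_sub_cancel]
        have hk0 : k ≠ 0 := by omega
        rw [Nat.factorization_mul (by positivity) (by positivity), Finsupp.add_apply,
          Nat.factorization_mul (by positivity) hk0, Finsupp.add_apply,
          Nat.factorization_eq_zero_of_not_dvd hq0,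
          Nat.factorization_eq_zero_of_not_dvd (show ¬ p ∣ k + 1 + 1 from hp2k), zero_add, add_zero])
        (by rw [hq, Nat.add_sub_cancel]; exact hpk) ζ hz hζ
      exact FixAll.imc χ h1 h3
    · -- `q - 1 = p`
      push Not at hr
      have hk0 : k ≠ 0 := by omega
      have h5 : k = p ^ k.primeFactorsList.length := Nat.eq_prime_pow_of_unique_prime_dvd hk0
        (fun {d} hd' hdk => by_contra fun hne => hr d hd' hne hdk)
      have h6 := eq_one_of_pow (a := k.primeFactorsList.length) hp3 (by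
        intro h0
        rw [h0, pow_zero] at h5
        omega) (by rw [← h5, ← hk])
      rw [h6, pow_one] at h5
      refine imc_of_IM (fun h7 => ?_) (im _ ⟨K, _, _, m, hm, hK, ⟨MulEquiv.refl _⟩⟩ hs hd)
      rw [hcard] at h7
      have h8' : p ^ 2 * p ∣ p ^ 2 * ((k + 1) ^ 12 * ((k + 1) ^ 3 + 1) * (k + 2) * ((k + 1) ^ 2 + 1) * ((k + 1) ^ 6 + 1)) := by
        have e : (k + 1) ^ 12 * k * ((k + 1) ^ 3 + 1) * (k * (k + 2) * ((k + 1) ^ 2 + 1)) * ((k + 1) ^ 6 + 1) =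
            k ^ 2 * ((k + 1) ^ 12 * ((k + 1) ^ 3 + 1) * (k + 2) * ((k + 1) ^ 2 + 1) * ((k + 1) ^ 6 + 1)) := by ring
        rw [e] at h7
        rw [← pow_succ]
        rwa [show k ^ 2 = p ^ 2 by rw [h5]] at h7
      have h9 := Nat.dvd_of_mul_dvd_mul_left (pow_pos hp.out.pos 2) h8'
      have hcop : ∀ i, ¬ p ∣ (k + 1) ^ i + 1 := by
        intro i hi
        have h10 : (k + 1) ^ i ≡ 1 [MOD p] := by
          have h11 : k + 1 ≡ 1 [MOD p] := by
            have := (Nat.modEq_zero_iff_dvd.2 hpk).add_right 1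
            simpa using this
          simpa using h11.pow i
        have h12 := (h10.add_right 1).symm.trans (Nat.modEq_zero_iff_dvd.2 hi)
        exact h2' (Nat.modEq_zero_iff_dvd.1 h12)
      rcases hp.out.dvd_mul.1 h9 with h | h
      · rcases hp.out.dvd_mul.1 h with h | h
        · rcases hp.out.dvd_mul.1 h with h | h
          · rcases hp.out.dvd_mul.1 h with h | h
            · exact hq0 (hp.out.dvd_of_dvd_pow h)
            · exact hcop _ h
          · exact hp2k h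
        · exact hcop _ h
      · exact hcop _ h
  · by_cases hpk2 : p ∣ k + 2
    · -- `p ∣ q + 1`
      obtain ⟨χ, hχ, h1⟩ := Cfsg.Agent.H42.Deg.F4B.exists_big S hF
      have hPG := Cfsg.Agent.KFacts.TwF4.Perf.two_J S (show S.R.p = 2 from rfl) (a := 1) (b := 7) (by norm_num)
      obtain ⟨a, ha⟩ := (IsPGroup.iff_card (p := 2)).1 hPG
      refine imc_of_index hd _ ?_ hχ h1
      rw [Cfsg.Agent.H42.Deg.F4B.card_PB S hF, hunit, hq, ha]
      intro h
      rcases hp.out.dvd_mul.1 h with h | h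
      · rcases hp.out.dvd_mul.1 h with h | h
        · rcases hp.out.dvd_mul.1 h with h | h
          · rcases hp.out.dvd_mul.1 h with h | h <;> exact hq0 h
          · exact hpk h
        · have e : (k + 1) * (k + 1) + 1 = k * (k + 2) + 2 := by ring
          rw [e] at h
          exact h2' ((Nat.dvd_add_right (hpk2.mul_left _)).1 h)
      · rcases hp.out.dvd_mul.1 h with h | h
        · exact hpk h
        · exact h2 _ h
    · obtain ⟨χ, hχ, h1⟩ := exists_big S hF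
      have hPG := Cfsg.Agent.KFacts.TwF4.Perf.two_J S (show S.R.p = 2 from rfl) (a := 2) (b := 8) (by norm_num)
      obtain ⟨a, ha⟩ := (IsPGroup.iff_card (p := 2)).1 hPG
      refine imc_of_index hd _ ?_ hχ h1
      rw [card_PP S hF, hunit, hq, ha]
      intro h
      rcases hp.out.dvd_mul.1 h with h | h
      · rcases hp.out.dvd_mul.1 h with h | h
        · rcases hp.out.dvd_mul.1 h with h | h
          · exact hq0 h
          · exact hpk h
        · exact hpk2 h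
      · rcases hp.out.dvd_mul.1 h with h | h
        · exact hpk h
        · exact h2 _ h

theorem imc_2f4 {S : Type u} [Group S] [Finite S] (h : Lie.Iso2F4 S) (hs : IsSimpleGroup S) {p : ℕ}
    [hp : Fact p.Prime] (hd : p ∣ Nat.card S) : IMC p S := by
  by_cases hp2 : p = 2
  · subst hp2
    exact imc_char (Or.inr (Or.inr (Or.inr (Or.inr (Or.inr (Or.inr (Or.inr (Or.inr (Or.inr (Or.inl ⟨rfl, h⟩)))))))))) hd
  obtain ⟨K, _, _, m, hm, hK, ⟨e⟩⟩ := h
  have hfin : Finite ↥(Lie.twistedF4 K (2 ^ m)) := Finite.of_equiv S e.toEquiv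
  have hs' : IsSimpleGroup ↥(Lie.twistedF4 K (2 ^ m)) := e.symm.isSimpleGroup
  refine IMC.of_equiv e (imc_2f4_aux hm hK hs' hp2 ?_)
  rwa [← Nat.card_congr e.toEquiv]

end Cfsg.Agent.H982.ImcTw
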