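import Cfsg.Agent.H982.DfPsi

/-!
# S4311, BOX D3: the four subgroups `SL₂(F)` of `PΩ₈⁺(F)` (helper982)

`LS P i` : the image of the `i`-th `SL₂(F)`; `LS_conj` : conjugation by block maps.
-/

set_option autoImplicit false
set_option linter.unusedSectionVars false

namespace Cfsg.Agent.H982.DfPsi

open Module QuadraticMap Cfsg.Agent.H167.OP Cfsg.Agent.H170.HL Cfsg.Agent.H170.HL.OmRow Cfsg.Agent.H556.Om
open Cfsg Subgroup Cfsg.Agent.H485.RV Cfsg.Agent.H561.RV Cfsg.Agent.H561.D4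
open Cfsg.Agent.H982.DfMat hiding A4
open Matrix (SpecialLinearGroup det_mul det_one adjugate_mul mul_adjugate)

variable {F : Type} [Field F] {ι : Type} [Fintype ι] [DecidableEq ι] {Q : QuadraticForm F (ι → F)}
  {E : Fin 2 × A4 → ι → F} {α β : F}

/-- conjugation by an invertible matrix -/
noncomputable def cjM (A : M2 F) (hA : A.det ≠ 0) : SL2 F →* SL2 F where
  toFun S := ⟨A * S.1 * A⁻¹, by
    rw [det_mul, det_mul, S.2, mul_one, ← det_mul, Matrix.mul_nonsing_inv _ (isUnit_iff_ne_zero.2 hA), det_one]⟩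
  map_one' := Subtype.ext (by
    change A * (1 : M2 F) * A⁻¹ = 1
    rw [mul_one, Matrix.mul_nonsing_inv _ (isUnit_iff_ne_zero.2 hA)])
  map_mul' S T := Subtype.ext (by
    change A * (S.1 * T.1) * A⁻¹ = A * S.1 * A⁻¹ * (A * T.1 * A⁻¹)
    have h1 : A⁻¹ * A = 1 := Matrix.nonsing_inv_mul _ (isUnit_iff_ne_zero.2 hA)
    calc A * (S.1 * T.1) * A⁻¹ = A * S.1 * 1 * T.1 * A⁻¹ := by rw [mul_one]; simp only [mul_assoc]
      _ = A * S.1 * (A⁻¹ * A) * T.1 * A⁻¹ := by rw [h1]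
      _ = _ := by simp only [mul_assoc])

theorem cjM_coe {A : M2 F} (hA : A.det ≠ 0) (S : SL2 F) : (cjM A hA S).1 = A * S.1 * A⁻¹ := rfl

theorem cjM_adj {A : M2 F} (hA : A.det ≠ 0) (S : SL2 F) : (cjM A hA S).1.adjugate = A * S.1.adjugate * A⁻¹ := by
  have h1 : cjM A hA S⁻¹ = (cjM A hA S)⁻¹ := map_inv _ _
  exact (congrArg (fun T : SL2 F => T.1) h1).symm

/-- conjugates of multiplications -/
theorem conj_act {f : M2 F →ₗ[F] M2 F} {c : Bool} {A B : M2 F} (hAB : A.det * B.det = 1)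
    (hf : ∀ X, f X = Typ c A B X) (b : Bool) (S : SL2 F) :
    ∃ S' : SL2 F, ∀ X, f (actE b S X) = actE (xor b c) S' (f X) := by
  have hA : A.det ≠ 0 := left_ne_zero_of_mul_eq_one hAB
  have hB : B.det ≠ 0 := right_ne_zero_of_mul_eq_one hAB
  have hA1 : A⁻¹ * A = 1 := Matrix.nonsing_inv_mul _ (isUnit_iff_ne_zero.2 hA)
  have hB1 : B * B⁻¹ = 1 := Matrix.mul_nonsing_inv _ (isUnit_iff_ne_zero.2 hB)
  have hB2 : (B⁻¹)⁻¹ = B := Matrix.nonsing_inv_nonsing_inv _ (isUnit_iff_ne_zero.2 hB)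
  have hB3 : (B⁻¹).det ≠ 0 := by
    rw [Matrix.det_nonsing_inv, Ring.inverse_eq_inv']
    exact inv_ne_zero hB
  cases c <;> cases b
  · refine ⟨cjM A hA S, fun X => ?_⟩
    rw [hf, hf]
    change A * (S.1 * X) * B = A * S.1 * A⁻¹ * (A * X * B)
    calc A * (S.1 * X) * B = A * S.1 * 1 * X * B := by rw [mul_one]; simp only [mul_assoc]
      _ = A * S.1 * (A⁻¹ * A) * X * B := by rw [hA1]
      _ = _ := by simp only [mul_assoc]
  · refine ⟨cjM B⁻¹ hB3 S, fun X => ?_⟩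
    rw [hf, hf]
    change A * (X * S.1.adjugate) * B = A * X * B * (cjM B⁻¹ hB3 S).1.adjugate
    rw [cjM_adj, hB2]
    calc A * (X * S.1.adjugate) * B = A * X * 1 * S.1.adjugate * B := by rw [mul_one]; simp only [mul_assoc]
      _ = A * X * (B * B⁻¹) * S.1.adjugate * B := by rw [hB1]
      _ = _ := by simp only [mul_assoc]
  · refine ⟨cjM B⁻¹ hB3 S, fun X => ?_⟩
    rw [hf, hf]
    change A * (S.1 * X).adjugate * B = A * X.adjugate * B * (cjM B⁻¹ hB3 S).1.adjugate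
    rw [cjM_adj, hB2, Matrix.adjugate_mul_distrib]
    calc A * (X.adjugate * S.1.adjugate) * B = A * X.adjugate * 1 * S.1.adjugate * B := by
          rw [mul_one]; simp only [mul_assoc]
      _ = A * X.adjugate * (B * B⁻¹) * S.1.adjugate * B := by rw [hB1]
      _ = _ := by simp only [mul_assoc]
  · refine ⟨cjM A hA S, fun X => ?_⟩
    rw [hf, hf]
    change A * (X * S.1.adjugate).adjugate * B = A * S.1 * A⁻¹ * (A * X.adjugate * B)
    have h2 : S.1.adjugate.adjugate = S.1 := by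
      have h3 : (S⁻¹)⁻¹ = S := inv_inv S
      exact congrArg (fun T : SL2 F => T.1) h3
    rw [Matrix.adjugate_mul_distrib, h2]
    calc A * (S.1 * X.adjugate) * B = A * S.1 * 1 * X.adjugate * B := by rw [mul_one]; simp only [mul_assoc]
      _ = A * S.1 * (A⁻¹ * A) * X.adjugate * B := by rw [hA1]
      _ = _ := by simp only [mul_assoc]

section LS

variable {Ψ : (Fin 2 → M2 F) ≃ₗ[F] (ι → F)} (P : PsiD Q E α β Ψ)

/-- typed block maps -/
def TBM (Ψ : (Fin 2 → M2 F) ≃ₗ[F] (ι → F)) (x : Cfsg.isometryGroup F (⇑Q)) (τ : Equiv.Perm (Fin 2)) (c : Fin 2 → Bool) :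
    Prop :=
  ∃ f : Fin 2 → M2 F →ₗ[F] M2 F, BMp (Q := Q) Ψ x τ f ∧
    ∀ k, ∃ A B : M2 F, A.det * B.det = 1 ∧ ∀ X, f k X = Typ (c k) A B X

include P

theorem exists_TBM {x : Cfsg.isometryGroup F (⇑Q)} {τ : Equiv.Perm (Fin 2)} {f : Fin 2 → M2 F →ₗ[F] M2 F}
    (hx : BMp (Q := Q) Ψ x τ f) : ∃ c, TBM (Q := Q) Ψ x τ c := by
  choose c A B h1 h2 using fun k => typ_of_iso (hx.form P k)
  exact ⟨c, f, hx, fun k => ⟨A k, B k, h1 k, h2 k⟩⟩

theorem conj_Lam {x : Cfsg.isometryGroup F (⇑Q)} {τ : Equiv.Perm (Fin 2)} {c : Fin 2 → Bool} (hx : TBM (Q := Q) Ψ x τ c)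
    (k : Fin 2) (b : Bool) (S : SL2 F) : ∃ S', x * Lam P (k, b) S * x⁻¹ = Lam P (τ k, xor b (c k)) S' := by
  obtain ⟨f, hx, hf⟩ := hx
  obtain ⟨A, B, hAB, hk⟩ := hf k
  obtain ⟨S', hS'⟩ := conj_act hAB hk b S
  refine ⟨S', ?_⟩
  rw [mul_inv_eq_iff_eq_mul]
  have h1 := BMp.mul hx (Lam_spec P (k, b) S)
  have h2 := BMp.mul (Lam_spec P (τ k, xor b (c k)) S') hx
  rw [mul_one] at h1
  rw [one_mul] at h2
  refine BMp.unique h1 (BMp.congr h2 fun l X => ?_)
  by_cases hl : l = k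
  · subst hl
    change lamf (τ l, xor b (c l)) S' (τ l) (f l X) = f l (lamf (l, b) S l X)
    rw [lamf_self, lamf_self, hS']
  · change lamf (τ k, xor b (c k)) S' (τ l) (f l X) = f l (lamf (k, b) S l X)
    rw [lamf_ne _ _ hl, lamf_ne _ _ (fun h => hl (τ.injective h))]
    rfl

/-- the homomorphisms to `PΩ` -/
noncomputable def Mb (i : Fin 2 × Bool) : SL2 F →* Cfsg.POmega F (⇑Q) :=
  (QuotientGroup.mk' (Subgroup.center (Cfsg.Omega F (⇑Q)))).comp (Lo P i)

theorem Mb_apply (i : Fin 2 × Bool) (S : SL2 F) :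
    Mb P i S = QuotientGroup.mk' (Subgroup.center (Cfsg.Omega F (⇑Q))) (Lo P i S) := rfl

theorem center_cases {g : Cfsg.Omega F (⇑Q)} (hg : g ∈ Subgroup.center (Cfsg.Omega F (⇑Q))) :
    (∀ v, rep (inc (⇑Q)) g v = v) ∨ ∀ v, rep (inc (⇑Q)) g v = -v := by
  have h4 := (Cfsg.Agent.LieClassical.OmegaCenter.mem_center_omega_iff Q P.gq.nd P.gq.card P.gq.sing _).mp hg
  have h4' : inc (⇑Q) g = 1 ∨ inc (⇑Q) g = -1 := h4
  rcases h4' with h5 | h5
  · left
    intro v
    rw [rep_apply, h5, Matrix.one_mulVec]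
  · right
    intro v
    rw [rep_apply, h5, Matrix.neg_mulVec, Matrix.one_mulVec]

theorem neg_ne {v : ι → F} (hv : v = -v) : v = 0 := by
  have h5 : (2 : F) • v = 0 := by
    rw [two_smul]
    nth_rewrite 2 [hv]
    exact add_neg_cancel v
  exact (smul_eq_zero.1 h5).resolve_left P.two

theorem Lo_rep (i : Fin 2 × Bool) (S : SL2 F) (k : Fin 2) (X : M2 F) :
    rep (inc (⇑Q)) (Lo P i S) (Ψ (Pi.single k X)) = Ψ (Pi.single k (lamf i S k X)) :=
  Lam_spec P i S k X

theorem Mb_injective (i : Fin 2 × Bool) : Function.Injective (Mb P i) := by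
  rw [injective_iff_map_eq_one]
  intro S hS
  rw [Mb_apply, QuotientGroup.mk'_apply, QuotientGroup.eq_one_iff] at hS
  have hsing : ∀ {k : Fin 2} {X Y : M2 F}, Ψ (Pi.single k X) = Ψ (Pi.single k Y) → X = Y := by
    intro k X Y h
    exact Pi.single_injective k (Ψ.injective h)
  rcases center_cases P hS with h1 | h1
  · have h2 := hsing ((Lo_rep P i S i.1 1).symm.trans (h1 _))
    obtain ⟨k, b⟩ := i
    rw [lamf_self] at h2
    cases b
    · rw [actE_false, mul_one] at h2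
      exact Subtype.ext h2
    · rw [actE_true, one_mul] at h2
      have h3 : S⁻¹ = 1 := Subtype.ext h2
      exact inv_eq_one.1 h3
  · exfalso
    obtain ⟨l, hl⟩ : ∃ l : Fin 2, l ≠ i.1 := exists_ne _
    have h2 := (Lo_rep P i S l 1).symm.trans (h1 _)
    obtain ⟨k, b⟩ := i
    rw [lamf_ne _ _ hl] at h2
    have h3 := neg_ne P h2
    have h4 : (Pi.single l (1 : M2 F) : Fin 2 → M2 F) = Pi.single l 0 := by
      rw [Pi.single_zero]
      exact Ψ.injective (by rw [map_zero]; exact h3)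
    exact one_ne_zero (Pi.single_injective l h4)

/-- the four subgroups -/
noncomputable def LS (i : Fin 2 × Bool) : Subgroup (Cfsg.POmega F (⇑Q)) := (Mb P i).range

theorem card_LS (i : Fin 2 × Bool) : Nat.card ↥(LS P i) = Nat.card (SL2 F) :=
  (Nat.card_congr (MonoidHom.ofInjective (Mb_injective P i)).toEquiv).symm

theorem LS_conj [Finite F] {x : Cfsg.Omega F (⇑Q)} {τ : Equiv.Perm (Fin 2)} {c : Fin 2 → Bool}
    (hx : TBM (Q := Q) Ψ (x : Cfsg.isometryGroup F (⇑Q)) τ c) (k : Fin 2) (b : Bool) :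
    (LS P (k, b)).map (MulAut.conj (QuotientGroup.mk' (Subgroup.center (Cfsg.Omega F (⇑Q))) x)).toMonoidHom =
      LS P (τ k, xor b (c k)) := by
  have hle : (LS P (k, b)).map (MulAut.conj (QuotientGroup.mk' (Subgroup.center (Cfsg.Omega F (⇑Q))) x)).toMonoidHom ≤
      LS P (τ k, xor b (c k)) := by
    rintro _ ⟨_, ⟨S, rfl⟩, rfl⟩
    obtain ⟨S', hS'⟩ := conj_Lam P hx k b S
    refine ⟨S', ?_⟩
    have h1 : x * Lo P (k, b) S * x⁻¹ = Lo P (τ k, xor b (c k)) S' := Subtype.ext hS'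
    rw [Mb_apply, ← h1, map_mul, map_mul, map_inv]
    rfl
  refine Subgroup.eq_of_le_of_card_ge hle ?_
  rw [card_LS, Subgroup.card_map_of_injective (MulAut.conj _).injective, card_LS]

/-- elements of different `SL₂`'s commute -/
theorem Lam_comm {i j : Fin 2 × Bool} (hij : i ≠ j) (S T : SL2 F) : Lam P i S * Lam P j T = Lam P j T * Lam P i S := by
  have h1 := BMp.mul (Lam_spec P i S) (Lam_spec P j T)
  have h2 := BMp.mul (Lam_spec P j T) (Lam_spec P i S)
  refine BMp.unique h1 (BMp.congr h2 fun l X => ?_)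
  change lamf j T l (lamf i S l X) = lamf i S l (lamf j T l X)
  obtain ⟨k, b⟩ := i
  obtain ⟨m, c⟩ := j
  by_cases hk : l = k
  · subst hk
    by_cases hm : l = m
    · subst hm
      rw [lamf_self, lamf_self]
      have hbc : b ≠ c := fun h => hij (by rw [h])
      cases b <;> cases c
      · exact absurd rfl hbc
      · rw [actE_false, actE_true, actE_false, actE_true, mul_assoc]
      · rw [actE_false, actE_true, actE_false, actE_true, mul_assoc]
      · exact absurd rfl hbc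
    · rw [lamf_ne _ _ hm]
      rfl
  · rw [lamf_ne _ _ hk]
    rfl

theorem LS_comm {i j : Fin 2 × Bool} (hij : i ≠ j) {x y : Cfsg.POmega F (⇑Q)} (hx : x ∈ LS P i) (hy : y ∈ LS P j) :
    x * y = y * x := by
  obtain ⟨S, rfl⟩ := hx
  obtain ⟨T, rfl⟩ := hy
  have h1 : Lo P i S * Lo P j T = Lo P j T * Lo P i S := Subtype.ext (Lam_comm P hij S T)
  rw [Mb_apply, Mb_apply, ← map_mul, h1, map_mul]

/-- central elements of `LS i` come from central elements of `SL₂(F)` -/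
theorem comm_of_Mb {i : Fin 2 × Bool} {S T : SL2 F} (h : Mb P i S * Mb P i T = Mb P i T * Mb P i S) : S * T = T * S := by
  apply Mb_injective P i
  rw [map_mul, map_mul, h]

theorem LS_injective : Function.Injective (LS P) := by
  intro i j hij
  by_contra hne
  have h1 : ∀ S T : SL2 F, S * T = T * S := by
    intro S T
    apply comm_of_Mb P (i := i)
    refine LS_comm P hne ⟨S, rfl⟩ ?_
    rw [← hij]
    exact ⟨T, rfl⟩
  have h2 := h1 (SpecialLinearGroup.transvection (show (0 : Fin 2) ≠ 1 by decide) 1)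
    (SpecialLinearGroup.transvection (show (1 : Fin 2) ≠ 0 by decide) 1)
  have h3 := congrArg (fun S : SL2 F => S.1 0 0) h2
  have h4 : (Matrix.transvection (0 : Fin 2) 1 (1 : F) * Matrix.transvection (1 : Fin 2) 0 (1 : F)) 0 0 =
    (Matrix.transvection (1 : Fin 2) 0 (1 : F) * Matrix.transvection (0 : Fin 2) 1 (1 : F)) 0 0 := h3
  simp [Matrix.transvection, Matrix.mul_apply, Fin.sum_univ_two, Matrix.single] at h4

end LS

end Cfsg.Agent.H982.DfPsi
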