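import Cfsg.Agent.H982.DfConj

/-!
# S4311, BOX D3: the 2-group `PM` and the four `SL₂`'s (helper982)
-/

set_option autoImplicit false
set_option linter.unusedSectionVars false

namespace Cfsg.Agent.H982.DfPsi

open Module QuadraticMap Cfsg.Agent.H167.OP Cfsg.Agent.H170.HL Cfsg.Agent.H170.HL.OmRow Cfsg.Agent.H556.Om
open Cfsg Subgroup Cfsg.Agent.H485.RV Cfsg.Agent.H561.RV Cfsg.Agent.H561.D4
open Cfsg.Agent.H982.DfMat hiding A4
open Matrix (SpecialLinearGroup det_mul det_one adjugate_mul mul_adjugate)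

variable {F : Type} [Field F] {ι : Type} [Fintype ι] [DecidableEq ι] {Q : QuadraticForm F (ι → F)}
  {E : Fin 2 × A4 → ι → F} {α β : F} {Ψ : (Fin 2 → M2 F) ≃ₗ[F] (ι → F)} (P : PsiD Q E α β Ψ)

include P

/-- a block map is determined on the frame -/
theorem BMp_of_frame {x : Cfsg.isometryGroup F (⇑Q)} {τ : Equiv.Perm (Fin 2)} {f : Fin 2 → M2 F →ₗ[F] M2 F}
    (h : ∀ k a, rep (inc' (⇑Q)) x (E (k, a)) = Ψ (Pi.single (τ k) (f k (u α β a)))) : BMp (Q := Q) Ψ x τ f := by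
  intro k X
  have key : (rep (inc' (⇑Q)) x) ∘ₗ (Ψ : (Fin 2 → M2 F) →ₗ[F] (ι → F)) ∘ₗ (LinearMap.single F (fun _ : Fin 2 => M2 F) k) =
      (Ψ : (Fin 2 → M2 F) →ₗ[F] (ι → F)) ∘ₗ (LinearMap.single F (fun _ : Fin 2 => M2 F) (τ k)) ∘ₗ f k := by
    refine (bM P.two P.h).ext fun a => ?_
    rw [bM_apply]
    change rep (inc' (⇑Q)) x (Ψ (Pi.single k (u α β a))) = _
    rw [P.ps, h]
    rfl
  exact congrArg (fun L : M2 F →ₗ[F] (ι → F) => L X) key

/-- the elements of `PM` are block maps -/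
theorem PM_BMp {x : Cfsg.Omega F (⇑Q)} {s : Fin 2 × A4 → F} {σ : Equiv.Perm (Fin 2 × A4)} (hσ : σ ∈ PP)
    (hx : rep (inc (⇑Q)) x = mono (polarBilin Q) E s σ) :
    ∃ τ c, TBM (Q := Q) Ψ (x : Cfsg.isometryGroup F (⇑Q)) τ c := by
  obtain ⟨τ, b, c, rfl⟩ := mem_PP_iff.1 hσ
  have hB : BMp (Q := Q) Ψ (x : Cfsg.isometryGroup F (⇑Q)) τ
      (fun k => (bM P.two P.h).constr F (fun a => s (k, a) • u α β (lin (b k) a + c k))) := by
    refine BMp_of_frame P fun k a => ?_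
    have h1 : (bM P.two P.h).constr F (fun a => s (k, a) • u α β (lin (b k) a + c k)) (u α β a) =
        s (k, a) • u α β (lin (b k) a + c k) := by
      rw [← bM_apply P.two P.h, Basis.constr_basis]
    rw [h1]
    change rep (inc (⇑Q)) x (E (k, a)) = _
    rw [hx, mono_e P.hF P.two, pp_apply, ← P.ps, ← map_smul, ← Pi.single_smul]
  obtain ⟨d, hd⟩ := exists_TBM P hB
  exact ⟨τ, d, hd⟩

/-- block maps which are monomial -/
theorem rep_mono {x : Cfsg.Omega F (⇑Q)} {s : Fin 2 × A4 → F} {σ : Equiv.Perm (Fin 2 × A4)}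
    (h : ∀ k a, rep (inc (⇑Q)) x (E (k, a)) = s (k, a) • E (σ (k, a))) :
    rep (inc (⇑Q)) x = mono (polarBilin Q) E s σ := by
  apply LinearMap.ext
  intro v
  obtain ⟨w, rfl⟩ := Ψ.surjective v
  have hw : w = ∑ k, Pi.single k (w k) := (Finset.univ_sum_single w).symm
  rw [hw, map_sum, map_sum, map_sum]
  refine Finset.sum_congr rfl fun k _ => ?_
  have key : (rep (inc (⇑Q)) x) ∘ₗ (Ψ : (Fin 2 → M2 F) →ₗ[F] (ι → F)) ∘ₗ (LinearMap.single F (fun _ : Fin 2 => M2 F) k) =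
      (mono (polarBilin Q) E s σ) ∘ₗ (Ψ : (Fin 2 → M2 F) →ₗ[F] (ι → F)) ∘ₗ
        (LinearMap.single F (fun _ : Fin 2 => M2 F) k) := by
    refine (bM P.two P.h).ext fun a => ?_
    rw [bM_apply]
    change rep (inc (⇑Q)) x (Ψ (Pi.single k (u α β a))) = mono (polarBilin Q) E s σ (Ψ (Pi.single k (u α β a)))
    rw [P.ps, h, mono_e P.hF P.two]
  exact congrArg (fun L : M2 F →ₗ[F] (ι → F) => L (w k)) key

theorem u_mul_adj (a b : A4) : ∃ s : F, s * s = 1 ∧ u α β a * (u α β b).adjugate = s • u α β (a + b) := by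
  obtain ⟨s, hs, h1⟩ := u_adj P.h b
  obtain ⟨t, ht, h2⟩ := u_mul P.h a b
  exact ⟨s * t, by rw [mul_mul_mul_comm, hs, ht, one_mul], by rw [h1, Matrix.mul_smul, h2, smul_smul]⟩

/-- the quaternion group lies in `PM` -/
theorem Lo_QQ_mem (i : Fin 2 × Bool) {S : SL2 F} (hS : S ∈ QQ P.h) : Lo P i S ∈ PM P.two P.hF := by
  obtain ⟨c, t, ht, hS⟩ := hS
  obtain ⟨k, b⟩ := i
  -- the action on the block
  have key : ∀ a : A4, ∃ s : F, s * s = 1 ∧ actE b S (u α β a) = s • u α β (a + c) := by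
    intro a
    cases b
    · obtain ⟨s, hs, h1⟩ := u_mul P.h c a
      refine ⟨t * s, by rw [mul_mul_mul_comm, hs, ht, one_mul], ?_⟩
      rw [actE_false]
      change (S : M2 F) * _ = _
      rw [hS, Matrix.smul_mul, h1, smul_smul, add_comm c a]
    · obtain ⟨s, hs, h1⟩ := u_mul_adj P a c
      refine ⟨t * s, by rw [mul_mul_mul_comm, hs, ht, one_mul], ?_⟩
      rw [actE_true]
      change _ * (S : M2 F).adjugate = _
      rw [hS, Matrix.adjugate_smul, Fintype.card_fin, Nat.add_one_sub_one, pow_one, Matrix.mul_smul, h1, smul_smul]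
  choose s hs h1 using key
  refine ⟨fun j => if j.1 = k then s j.2 else 1, pp 1 (fun _ => false) (fun l => if l = k then c else 0), fun j => ?_,
    pp_mem _ _ _, ?_⟩
  · dsimp only
    split_ifs
    · exact hs _
    · exact one_mul 1
  · refine rep_mono P fun l a => ?_
    rw [← P.ps, Lo_rep, pp_apply, ← P.ps, ← map_smul, ← Pi.single_smul]
    dsimp only
    by_cases hl : l = k
    · subst hl
      rw [lamf_self, h1, if_pos rfl, if_pos rfl]
      rfl
    · rw [lamf_ne _ _ hl, if_neg hl, if_neg hl, one_smul, add_zero]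
      rfl

/-- `PMS` is a 2-group -/
theorem PMS_isPGroup : IsPGroup 2 ↥(PMS P.two P.hF) :=
  (PM_isPGroup P.two P.hF).map _

theorem comap_Mb [Finite F] (i : Fin 2 × Bool) (hodd : ¬ 2 ∣ (QQ P.h).index) :
    (PMS P.two P.hF).comap (Mb P i) = QQ P.h := by
  have h1 : QQ P.h ≤ (PMS P.two P.hF).comap (Mb P i) := by
    intro S hS
    exact ⟨Lo P i S, Lo_QQ_mem P i hS, rfl⟩
  have h2 : IsPGroup 2 ↥((PMS P.two P.hF).comap (Mb P i)) :=
    (PMS_isPGroup P).comap_of_injective _ (Mb_injective P i)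
  have h3 : (QQ P.h).relIndex ((PMS P.two P.hF).comap (Mb P i)) ∣ (QQ P.h).index :=
    Dvd.intro _ (Subgroup.relIndex_mul_index h1)
  have h4 : (QQ P.h).relIndex ((PMS P.two P.hF).comap (Mb P i)) ∣
      Nat.card ↥((PMS P.two P.hF).comap (Mb P i)) := Subgroup.relIndex_dvd_card _ _
  have h5 : (QQ P.h).relIndex ((PMS P.two P.hF).comap (Mb P i)) = 1 := by
    have : Fact (Nat.Prime 2) := ⟨Nat.prime_two⟩
    obtain ⟨n, hn⟩ := IsPGroup.iff_card.1 h2
    rw [hn] at h4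
    obtain ⟨m, -, hm⟩ := (Nat.dvd_prime_pow Nat.prime_two).1 h4
    rw [hm] at h3 ⊢
    rcases Nat.eq_zero_or_pos m with rfl | hm0
    · rfl
    · exact absurd ((dvd_pow_self 2 hm0.ne').trans h3) hodd
  exact le_antisymm (Subgroup.relIndex_eq_one.1 h5) h1

theorem inf_eq [Finite F] (i : Fin 2 × Bool) (hodd : ¬ 2 ∣ (QQ P.h).index) :
    PMS P.two P.hF ⊓ LS P i = (QQ P.h).map (Mb P i) := by
  rw [← comap_Mb P i hodd, Subgroup.map_comap_eq, inf_comm]
  rfl

theorem syl [Finite F] (i : Fin 2 × Bool) (hodd : ¬ 2 ∣ (QQ P.h).index) :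
    ¬ 2 ∣ (PMS P.two P.hF ⊓ LS P i).relIndex (LS P i) := by
  rw [inf_eq P i hodd]
  have h1 : LS P i = (⊤ : Subgroup (SL2 F)).map (Mb P i) := by
    rw [LS, MonoidHom.range_eq_map]
  rw [h1, Subgroup.relIndex_map_map_of_injective _ _ (Mb_injective P i), Subgroup.relIndex_top_right]
  exact hodd

theorem three [Finite F] (i : Fin 2 × Bool) (hodd : ¬ 2 ∣ (QQ P.h).index) :
    (PMS P.two P.hF ⊓ LS P i).relIndex
      (normalizer ((PMS P.two P.hF ⊓ LS P i : Subgroup (Cfsg.POmega F (⇑Q))) : Set (Cfsg.POmega F (⇑Q))) ⊓ LS P i) ∣ 3 := by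
  have h1 : normalizer ((PMS P.two P.hF ⊓ LS P i : Subgroup (Cfsg.POmega F (⇑Q))) : Set (Cfsg.POmega F (⇑Q))) ⊓ LS P i =
      (NQ P.h).map (Mb P i) := by
    rw [inf_comm, LS, ← Subgroup.map_comap_eq]
    congr 1
    rw [Subgroup.comap_normalizer_eq_of_le_range (f := Mb P i) inf_le_right]
    rw [Subgroup.comap_inf, comap_Mb P i hodd]
    have h2 : (Mb P i).range.comap (Mb P i) = ⊤ := by
      rw [eq_top_iff]
      intro S _
      exact ⟨S, rfl⟩
    rw [h2, inf_top_eq]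
  rw [h1, inf_eq P i hodd, Subgroup.relIndex_map_map_of_injective _ _ (Mb_injective P i)]
  exact relIndex_dvd P.h P.two hodd

theorem disj (i : Fin 2 × Bool) {x : Cfsg.POmega F (⇑Q)} (hx : x ∈ LS P i)
    (hx' : ∀ y ∈ LS P i, x * y = y * x) : ∃ k, x ^ 2 ^ k = 1 := by
  obtain ⟨S, rfl⟩ := hx
  have h1 : ∀ T, S * T = T * S := fun T => comm_of_Mb P (hx' _ ⟨T, rfl⟩)
  have h2 : S ∈ QQ P.h := by
    refine mem_of_fix P.h P.two (ε := 1) (δ := 1) (one_mul 1) (one_mul 1) ?_ ?_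
    · rw [one_smul]
      exact congrArg (fun T : SL2 F => T.1) (h1 (U P.h (0, 1)))
    · rw [one_smul]
      exact congrArg (fun T : SL2 F => T.1) (h1 (U P.h (1, 0)))
  have h3 : S ^ 8 = 1 := by
    have h4 := card_QQ P.h P.two
    have h5 : (⟨S, h2⟩ : ↥(QQ P.h)) ^ 8 = 1 := by
      rw [← h4]
      exact pow_card_eq_one'
    exact congrArg Subtype.val h5
  refine ⟨3, ?_⟩
  rw [← map_pow, show (2 : ℕ) ^ 3 = 8 by norm_num, h3, map_one]

end Cfsg.Agent.H982.DfPsi
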