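import Cfsg.Agent.H982.DfQuat
import Cfsg.Agent.H561.D4.Boxes
import Cfsg.Agent.LieClassical.SLGen

/-!
# S4311, BOX D3: the two blocks as matrix algebras (helper982)

* `PsiD` : a linear equivalence `Ψ : (Fin 2 → M₂(F)) ≃ V` mapping the units `u a` to the frame and `Σ det` to `Q`; `exists_Psi`;
* `BMp` : block monomial isometries; `Lam i : SL₂(F) →* O(V)`, `i = (block, side)`.
-/

set_option autoImplicit false
set_option linter.unusedSectionVars false

namespace Cfsg.Agent.H982.DfPsi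

open Module QuadraticMap Cfsg.Agent.H167.OP Cfsg.Agent.H170.HL Cfsg.Agent.H170.HL.OmRow Cfsg.Agent.H556.Om
open Cfsg Subgroup Cfsg.Agent.H485.RV Cfsg.Agent.H561.RV Cfsg.Agent.H561.D4
open Cfsg.Agent.H982.DfMat hiding A4
open Matrix (SpecialLinearGroup det_mul det_one adjugate_mul mul_adjugate)

variable {F : Type} [Field F] {ι : Type} [Fintype ι] [DecidableEq ι] {Q : QuadraticForm F (ι → F)}
  {E : Fin 2 × A4 → ι → F} {α β : F}

/-- the polar form, bilinear -/
def pdL (F : Type) [Field F] : M2 F →ₗ[F] M2 F →ₗ[F] F := LinearMap.mk₂ F pd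
  (fun X X' Y => by simp only [pd, Matrix.add_apply]; ring)
  (fun c X Y => by simp only [pd, Matrix.smul_apply, smul_eq_mul]; ring)
  (fun X Y Y' => by simp only [pd, Matrix.add_apply]; ring)
  (fun c X Y => by simp only [pd, Matrix.smul_apply, smul_eq_mul]; ring)

theorem pdL_apply (X Y : M2 F) : pdL F X Y = pd X Y := rfl

theorem pd_self (X : M2 F) : pd X X = 2 * X.det := by
  rw [pd, Matrix.det_fin_two]
  ring

/-- the polar form of `Σ det` -/
def pW (F : Type) [Field F] : (Fin 2 → M2 F) →ₗ[F] (Fin 2 → M2 F) →ₗ[F] F :=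
  ∑ k, (pdL F).compl₁₂ (LinearMap.proj k) (LinearMap.proj k)

theorem pW_apply (v w : Fin 2 → M2 F) : pW F v w = ∑ k, pd (v k) (w k) := by
  simp [pW, pdL_apply]

theorem u_li (h2 : (2 : F) ≠ 0) (h : α * α + β * β = -1) : LinearIndependent F (u α β) := by
  rw [Fintype.linearIndependent_iff]
  intro g hg b
  have h1 := congrArg (fun X => pdL F X (u α β b)) hg
  simp only [map_sum, LinearMap.sum_apply, map_smul, LinearMap.smul_apply, pdL_apply, pd_u h, map_zero,
    LinearMap.zero_apply] at h1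
  rw [Finset.sum_eq_single b (fun a _ hab => by rw [if_neg hab, smul_zero]) (fun h => absurd (Finset.mem_univ b) h),
    if_pos rfl, smul_eq_mul] at h1
  exact (mul_eq_zero.1 h1).resolve_right h2

/-- the basis `1, i, j, k` -/
noncomputable def bM (h2 : (2 : F) ≠ 0) (h : α * α + β * β = -1) : Basis A4 F (M2 F) :=
  basisOfLinearIndependentOfCardEqFinrank (u_li h2 h) (by
    rw [Module.finrank_matrix]
    simp)

theorem bM_apply (h2 : (2 : F) ≠ 0) (h : α * α + β * β = -1) (a : A4) : bM h2 h a = u α β a := by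
  rw [bM, coe_basisOfLinearIndependentOfCardEqFinrank]

/-- the identification of `V` with two matrix algebras -/
structure PsiD (Q : QuadraticForm F (ι → F)) (E : Fin 2 × A4 → ι → F) (α β : F) (Ψ : (Fin 2 → M2 F) ≃ₗ[F] (ι → F)) :
    Prop where
  two : (2 : F) ≠ 0
  gq : GoodQ Q
  hF : Frame (polarBilin Q) E
  h : α * α + β * β = -1
  ps : ∀ k a, Ψ (Pi.single k (u α β a)) = E (k, a)
  form : ∀ v w, polarBilin Q (Ψ v) (Ψ w) = ∑ k, pd (v k) (w k)

theorem exists_Psi (hQ : Q8 Q) (hF : Frame (polarBilin Q) E) (h : α * α + β * β = -1) : ∃ Ψ, PsiD Q E α β Ψ := by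
  have h2 := hQ.two
  let bW : Basis (Fin 2 × A4) F (Fin 2 → M2 F) :=
    (Pi.basis (fun _ : Fin 2 => bM h2 h)).reindex (Equiv.sigmaEquivProd (Fin 2) A4)
  have hbW : ∀ k a, bW (k, a) = Pi.single k (u α β a) := by
    intro k a
    rw [Basis.reindex_apply, Equiv.sigmaEquivProd_symm_apply, Pi.basis_apply, bM_apply]
  let bV : Basis (Fin 2 × A4) F (ι → F) := basisOfLinearIndependentOfCardEqFinrank (hF.linearIndependent h2) (by
    rw [Module.finrank_fintype_fun_eq_card, hQ.dim]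
    rfl)
  have hbV : ∀ j, bV j = E j := by
    intro j
    rw [coe_basisOfLinearIndependentOfCardEqFinrank]
  have hps : ∀ j, bW.equiv bV (Equiv.refl _) (bW j) = E j := by
    intro j
    rw [Basis.equiv_apply, Equiv.refl_apply, hbV]
  refine ⟨bW.equiv bV (Equiv.refl _), h2, hQ.gq, hF, h, fun k a => by rw [← hbW, hps], ?_⟩
  have key : (polarBilin Q).compl₁₂ (bW.equiv bV (Equiv.refl _) : (Fin 2 → M2 F) →ₗ[F] (ι → F))
      (bW.equiv bV (Equiv.refl _) : (Fin 2 → M2 F) →ₗ[F] (ι → F)) = pW F := by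
    refine LinearMap.ext_basis bW bW fun i j => ?_
    rw [LinearMap.compl₁₂_apply, pW_apply]
    change polarBilin Q (bW.equiv bV (Equiv.refl _) (bW i)) (bW.equiv bV (Equiv.refl _) (bW j)) = _
    rw [hps, hps, hF.form]
    obtain ⟨k, a⟩ := i
    obtain ⟨l, b⟩ := j
    rw [hbW, hbW, Fin.sum_univ_two]
    have hz : ∀ X : M2 F, pd 0 X = 0 := fun X => by simp [pd]
    have hz' : ∀ X : M2 F, pd X 0 = 0 := fun X => by simp [pd]
    by_cases hkl : k = l
    · subst hkl
      have e1 : ((k, a) = (k, b)) ↔ a = b := by simp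
      fin_cases k
      · simp only [Fin.zero_eta, Pi.single_eq_same]
        rw [Pi.single_eq_of_ne (by decide), hz, add_zero, pd_u h]
        simp
      · simp only [Fin.mk_one, Pi.single_eq_same]
        rw [Pi.single_eq_of_ne (by decide), hz, pd_u h]
        simp
    · rw [if_neg (fun e => hkl (congrArg Prod.fst e))]
      fin_cases k <;> fin_cases l
      · exact absurd rfl hkl
      · simp [hz, hz']
      · simp [hz, hz']
      · exact absurd rfl hkl
  intro v w
  have := congrArg (fun B => B v w) key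
  rw [← pW_apply]
  exact this

theorem PsiD.Q_apply {Ψ : (Fin 2 → M2 F) ≃ₗ[F] (ι → F)} (P : PsiD Q E α β Ψ) (w : Fin 2 → M2 F) :
    Q (Ψ w) = ∑ k, (w k).det := by
  have h1 := P.form w w
  rw [H556.Om.polar_self] at h1
  simp only [pd_self] at h1
  rw [← Finset.mul_sum] at h1
  exact mul_left_cancel₀ P.two h1

/-! ### Block maps -/

/-- `x` maps the block `k` to the block `τ k` by `f k` -/
def BMp (Ψ : (Fin 2 → M2 F) ≃ₗ[F] (ι → F)) (x : Cfsg.isometryGroup F (⇑Q)) (τ : Equiv.Perm (Fin 2))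
    (f : Fin 2 → M2 F →ₗ[F] M2 F) : Prop :=
  ∀ k X, rep (inc' (⇑Q)) x (Ψ (Pi.single k X)) = Ψ (Pi.single (τ k) (f k X))

section BMp

variable {Ψ : (Fin 2 → M2 F) ≃ₗ[F] (ι → F)} {x y : Cfsg.isometryGroup F (⇑Q)} {τ σ : Equiv.Perm (Fin 2)}
  {f g : Fin 2 → M2 F →ₗ[F] M2 F}

theorem rep_ext (h : ∀ k X, rep (inc' (⇑Q)) x (Ψ (Pi.single k X)) = rep (inc' (⇑Q)) y (Ψ (Pi.single k X))) : x = y := by
  apply rep_injective inc'_injective
  apply LinearMap.ext
  intro v
  obtain ⟨w, rfl⟩ := Ψ.surjective v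
  have hw : w = ∑ k, Pi.single k (w k) := (Finset.univ_sum_single w).symm
  rw [hw, map_sum, map_sum, map_sum]
  exact Finset.sum_congr rfl fun k _ => h k (w k)

theorem BMp.unique (hx : BMp (Q := Q) Ψ x τ f) (hy : BMp (Q := Q) Ψ y τ f) : x = y :=
  rep_ext fun k X => by rw [hx, hy]

theorem BMp.one : BMp (Q := Q) Ψ 1 1 (fun _ => LinearMap.id) := by
  intro k X
  rw [map_one]
  rfl

theorem BMp.mul (hx : BMp (Q := Q) Ψ x τ f) (hy : BMp (Q := Q) Ψ y σ g) :
    BMp (Q := Q) Ψ (x * y) (τ * σ) (fun k => f (σ k) ∘ₗ g k) := by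
  intro k X
  rw [map_mul, Module.End.mul_apply, hy, hx]
  rfl

theorem BMp.congr (hx : BMp (Q := Q) Ψ x τ f) (h : ∀ k X, f k X = g k X) : BMp (Q := Q) Ψ x τ g := by
  intro k X
  rw [hx, h]

theorem BMp.form (P : PsiD Q E α β Ψ) (hx : BMp (Q := Q) Ψ x τ f) (k : Fin 2) (X : M2 F) : (f k X).det = X.det := by
  have h1 := iso_apply (Q := ⇑Q) x (Ψ (Pi.single k X))
  have key : ∀ (k : Fin 2) (X : M2 F), Q (Ψ (Pi.single k X)) = X.det := by
    intro k X
    rw [P.Q_apply, Finset.sum_eq_single k, Pi.single_eq_same]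
    · intro l _ hl
      rw [Pi.single_eq_of_ne hl, Matrix.det_zero]
    · intro h
      exact absurd (Finset.mem_univ k) h
  rw [hx, key, key] at h1
  exact h1

theorem exists_BMp (P : PsiD Q E α β Ψ) (f g : Fin 2 → M2 F →ₗ[F] M2 F) (hfg : ∀ k X, f k (g k X) = X)
    (hgf : ∀ k X, g k (f k X) = X) (hd : ∀ k X, (f k X).det = X.det) : ∃ x, BMp (Q := Q) Ψ x 1 f := by
  let fW : (Fin 2 → M2 F) →ₗ[F] (Fin 2 → M2 F) := LinearMap.pi fun k => f k ∘ₗ LinearMap.proj k
  let gW : (Fin 2 → M2 F) →ₗ[F] (Fin 2 → M2 F) := LinearMap.pi fun k => g k ∘ₗ LinearMap.proj k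
  let z : Module.End F (ι → F) := (Ψ : (Fin 2 → M2 F) →ₗ[F] (ι → F)) ∘ₗ fW ∘ₗ (Ψ.symm : (ι → F) →ₗ[F] (Fin 2 → M2 F))
  let z' : Module.End F (ι → F) := (Ψ : (Fin 2 → M2 F) →ₗ[F] (ι → F)) ∘ₗ gW ∘ₗ (Ψ.symm : (ι → F) →ₗ[F] (Fin 2 → M2 F))
  have hz : ∀ w, z (Ψ w) = Ψ (fW w) := by
    intro w
    change Ψ (fW (Ψ.symm (Ψ w))) = _
    rw [Ψ.symm_apply_apply]
  have hz' : ∀ w, z' (Ψ w) = Ψ (gW w) := by
    intro w
    change Ψ (gW (Ψ.symm (Ψ w))) = _
    rw [Ψ.symm_apply_apply]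
  obtain ⟨A, hA⟩ := exists_of_iso (⇑Q) z z' (by
    apply LinearMap.ext
    intro v
    obtain ⟨w, rfl⟩ := Ψ.surjective v
    rw [Module.End.mul_apply, hz', hz, Module.End.one_apply]
    congr 1
    funext k
    exact hfg k (w k)) (by
    apply LinearMap.ext
    intro v
    obtain ⟨w, rfl⟩ := Ψ.surjective v
    rw [Module.End.mul_apply, hz, hz', Module.End.one_apply]
    congr 1
    funext k
    exact hgf k (w k)) (by
    intro v
    obtain ⟨w, rfl⟩ := Ψ.surjective v
    rw [hz, P.Q_apply, P.Q_apply]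
    exact Finset.sum_congr rfl fun k _ => hd k (w k))
  refine ⟨A, fun k X => ?_⟩
  rw [hA, hz]
  congr 1
  funext l
  change f l ((Pi.single k X : Fin 2 → M2 F) l) = (Pi.single k (f k X) : Fin 2 → M2 F) l
  by_cases hl : l = k
  · subst hl
    rw [Pi.single_eq_same, Pi.single_eq_same]
  · rw [Pi.single_eq_of_ne hl, Pi.single_eq_of_ne hl, map_zero]

/-- the determinant -/
theorem BMp.det (hx : BMp (Q := Q) Ψ x 1 f) : LinearMap.det (rep (inc' (⇑Q)) x) = ∏ k, LinearMap.det (f k) := by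
  rw [← LinearMap.det_pi]
  have h1 : rep (inc' (⇑Q)) x = (Ψ : (Fin 2 → M2 F) →ₗ[F] (ι → F)) ∘ₗ
      (LinearMap.pi fun k => f k ∘ₗ LinearMap.proj k) ∘ₗ (Ψ.symm : (ι → F) →ₗ[F] (Fin 2 → M2 F)) := by
    apply LinearMap.ext
    intro v
    obtain ⟨w, rfl⟩ := Ψ.surjective v
    change _ = Ψ ((LinearMap.pi fun k => f k ∘ₗ LinearMap.proj k : (Fin 2 → M2 F) →ₗ[F] (Fin 2 → M2 F)) (Ψ.symm (Ψ w)))
    rw [Ψ.symm_apply_apply]
    have hw : w = ∑ k, Pi.single k (w k) := (Finset.univ_sum_single w).symm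
    conv_lhs => rw [hw, map_sum, map_sum]
    have h2 : (LinearMap.pi fun k => f k ∘ₗ LinearMap.proj k : (Fin 2 → M2 F) →ₗ[F] (Fin 2 → M2 F)) w =
        ∑ k, Pi.single k (f k (w k)) := by
      rw [Finset.univ_sum_single fun k => f k (w k)]
      rfl
    rw [h2, map_sum]
    exact Finset.sum_congr rfl fun k _ => hx k (w k)
  rw [h1, LinearMap.det_conj]

theorem det_omega (x : Cfsg.Omega F (⇑Q)) : LinearMap.det (rep (inc' (⇑Q)) (x : Cfsg.isometryGroup F (⇑Q))) = 1 := by
  let φ : Cfsg.isometryGroup F (⇑Q) →* Fˣ := MonoidHom.toHomUnits (LinearMap.det.comp (rep (inc' (⇑Q))))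
  have h1 : φ x = 1 := by
    have h2 : (x : Cfsg.isometryGroup F (⇑Q)) ∈ commutator (Cfsg.isometryGroup F (⇑Q)) := x.2
    exact Abelianization.commutator_subset_ker φ h2
  exact congrArg Units.val h1

end BMp

/-! ### Left and right multiplications -/

/-- `SL₂(F)` -/
abbrev SL2 (F : Type) [Field F] := SpecialLinearGroup (Fin 2) F

/-- `X ↦ S X`, `X ↦ X S⁻¹` -/
def actE (b : Bool) (S : SL2 F) : M2 F →ₗ[F] M2 F := if b then rmL S.1.adjugate else lmL S.1

theorem actE_false (S : SL2 F) (X : M2 F) : actE false S X = S.1 * X := rfl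

theorem actE_true (S : SL2 F) (X : M2 F) : actE true S X = X * S.1.adjugate := rfl

theorem SS (S : SL2 F) : S.1 * S.1.adjugate = 1 := by rw [mul_adjugate, S.2, one_smul]

theorem SS' (S : SL2 F) : S.1.adjugate * S.1 = 1 := by rw [adjugate_mul, S.2, one_smul]

theorem det_adj (S : SL2 F) : S.1.adjugate.det = 1 := by
  have := congrArg Matrix.det (SS' S)
  rwa [det_mul, S.2, mul_one, det_one] at this

theorem actE_one (b : Bool) (X : M2 F) : actE b (1 : SL2 F) X = X := by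
  cases b
  · exact one_mul X
  · rw [actE_true]
    change X * (1 : M2 F).adjugate = X
    rw [Matrix.adjugate_one, mul_one]

theorem actE_mul (b : Bool) (S T : SL2 F) (X : M2 F) : actE b (S * T) X = actE b S (actE b T X) := by
  cases b
  · exact mul_assoc S.1 T.1 X
  · rw [actE_true, actE_true, actE_true]
    change X * (S.1 * T.1).adjugate = _
    rw [Matrix.adjugate_mul_distrib, mul_assoc]

theorem actE_det (b : Bool) (S : SL2 F) (X : M2 F) : (actE b S X).det = X.det := by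
  cases b
  · rw [actE_false, det_mul, S.2, one_mul]
  · rw [actE_true, det_mul, det_adj, mul_one]

/-- the block functions of `Lam` -/
def lamf (i : Fin 2 × Bool) (S : SL2 F) (k : Fin 2) : M2 F →ₗ[F] M2 F := if k = i.1 then actE i.2 S else LinearMap.id

theorem lamf_self (k : Fin 2) (b : Bool) (S : SL2 F) : lamf (k, b) S k = actE b S := if_pos rfl

theorem lamf_ne {k l : Fin 2} (b : Bool) (S : SL2 F) (h : l ≠ k) : lamf (k, b) S l = LinearMap.id := if_neg h

theorem lamf_one (i : Fin 2 × Bool) (k : Fin 2) (X : M2 F) : lamf i (1 : SL2 F) k X = X := by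
  unfold lamf
  split_ifs
  · exact actE_one _ _
  · rfl

theorem lamf_mul (i : Fin 2 × Bool) (S T : SL2 F) (k : Fin 2) (X : M2 F) :
    lamf i (S * T) k X = lamf i S k (lamf i T k X) := by
  unfold lamf
  split_ifs
  · exact actE_mul _ _ _ _
  · rfl

theorem lamf_det (i : Fin 2 × Bool) (S : SL2 F) (k : Fin 2) (X : M2 F) : (lamf i S k X).det = X.det := by
  unfold lamf
  split_ifs
  · exact actE_det _ _ _
  · rfl

section Lam

variable {Ψ : (Fin 2 → M2 F) ≃ₗ[F] (ι → F)} (P : PsiD Q E α β Ψ)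

include P

theorem exists_Lam (i : Fin 2 × Bool) (S : SL2 F) : ∃ x, BMp (Q := Q) Ψ x 1 (lamf i S) := by
  refine exists_BMp P (lamf i S) (lamf i S⁻¹) (fun k X => ?_) (fun k X => ?_) (lamf_det i S)
  · rw [← lamf_mul, mul_inv_cancel, lamf_one]
  · rw [← lamf_mul, inv_mul_cancel, lamf_one]

/-- the embeddings of `SL₂(F)` -/
noncomputable def Lam (i : Fin 2 × Bool) : SL2 F →* Cfsg.isometryGroup F (⇑Q) where
  toFun S := (exists_Lam P i S).choose
  map_one' := by
    refine BMp.unique (exists_Lam P i 1).choose_spec (BMp.congr BMp.one fun k X => ?_)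
    rw [lamf_one]
    rfl
  map_mul' S T := by
    refine BMp.unique (exists_Lam P i (S * T)).choose_spec
      (BMp.congr (BMp.mul (exists_Lam P i S).choose_spec (exists_Lam P i T).choose_spec) fun k X => ?_)
    rw [lamf_mul]
    rfl

theorem Lam_spec (i : Fin 2 × Bool) (S : SL2 F) : BMp (Q := Q) Ψ (Lam P i S) 1 (lamf i S) :=
  (exists_Lam P i S).choose_spec

theorem Lam_mem (i : Fin 2 × Bool) (S : SL2 F) : Lam P i S ∈ Cfsg.Omega F (⇑Q) := by
  refine Cfsg.Agent.LieClassical.SLGen.transvection_induction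
    (fun S => Lam P i S ∈ commutator (Cfsg.isometryGroup F (⇑Q))) (fun k l hkl c => ?_)
    (fun A B hA hB => by rw [map_mul]; exact mul_mem hA hB) S
  have h1 : SpecialLinearGroup.transvection hkl c =
      SpecialLinearGroup.transvection hkl (c / 2) * SpecialLinearGroup.transvection hkl (c / 2) := by
    apply Subtype.ext
    change Matrix.transvection k l c = Matrix.transvection k l (c / 2) * Matrix.transvection k l (c / 2)
    rw [Matrix.transvection_mul_transvection_same _ _ hkl]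
    have := P.two
    congr 1
    field_simp
    ring
  rw [h1, map_mul]
  exact P.gq.sq _

/-- the embeddings into `Ω` -/
noncomputable def Lo (i : Fin 2 × Bool) : SL2 F →* Cfsg.Omega F (⇑Q) :=
  (Lam P i).codRestrict (Cfsg.Omega F (⇑Q)) (Lam_mem P i)

theorem Lo_coe (i : Fin 2 × Bool) (S : SL2 F) : ((Lo P i S : Cfsg.Omega F (⇑Q)) : Cfsg.isometryGroup F (⇑Q)) = Lam P i S :=
  rfl

end Lam

end Cfsg.Agent.H982.DfPsi
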