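import Cfsg.Agent.H982.DfMat

/-!
# S4311, BOX D3: the quaternion units in `SL₂(F)` (helper982)

`u α β a` : `1, i, j, k` (`α² + β² = -1`); `QQ` : the quaternion group `{± u a}`; `card_QQ`, `QQ_norm`.
-/

set_option autoImplicit false
set_option linter.unusedSectionVars false

namespace Cfsg.Agent.H982.DfMat

open Matrix

variable {F : Type*} [Field F]

/-- the index group -/
abbrev A4 := ZMod 2 × ZMod 2

/-- the quaternion units -/
def u (α β : F) (a : A4) : M2 F :=
  if a = (0, 0) then 1 else if a = (1, 0) then !![α, β; β, -α] else if a = (0, 1) then !![0, 1; -1, 0] else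
    !![-β, α; α, β]

theorem u00 (α β : F) : u α β (0, 0) = 1 := rfl
theorem u10 (α β : F) : u α β (1, 0) = !![α, β; β, -α] := rfl
theorem u01 (α β : F) : u α β (0, 1) = !![0, 1; -1, 0] := rfl
theorem u11 (α β : F) : u α β (1, 1) = !![-β, α; α, β] := rfl

theorem a4_cases {P : A4 → Prop} (h0 : P (0, 0)) (h1 : P (1, 0)) (h2 : P (0, 1)) (h3 : P (1, 1)) (a : A4) : P a := by
  obtain ⟨x, y⟩ := a
  fin_cases x <;> fin_cases y
  · exact h0
  · exact h2
  · exact h1
  · exact h3

/-- computes an identity modulo `h` -/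
local macro "lch" h:term : tactic => `(tactic| (first | linear_combination ($h) | linear_combination -($h) | ring))

variable {α β : F} (h : α * α + β * β = -1)

include h

theorem u_mul (a b : A4) : ∃ s : F, s * s = 1 ∧ u α β a * u α β b = s • u α β (a + b) := by
  have e1 : ((1, 0) : A4) + (1, 0) = (0, 0) := by decide
  have e2 : ((1, 0) : A4) + (0, 1) = (1, 1) := by decide
  have e3 : ((1, 0) : A4) + (1, 1) = (0, 1) := by decide
  have e4 : ((0, 1) : A4) + (1, 0) = (1, 1) := by decide
  have e5 : ((0, 1) : A4) + (0, 1) = (0, 0) := by decide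
  have e6 : ((0, 1) : A4) + (1, 1) = (1, 0) := by decide
  have e7 : ((1, 1) : A4) + (1, 0) = (0, 1) := by decide
  have e8 : ((1, 1) : A4) + (0, 1) = (1, 0) := by decide
  have e9 : ((1, 1) : A4) + (1, 1) = (0, 0) := by decide
  have e0 : ∀ a : A4, (0, 0) + a = a := by decide
  have e0' : ∀ a : A4, a + (0, 0) = a := by decide
  have m1 : (-1 : F) * -1 = 1 := by ring
  revert b
  refine a4_cases (P := fun a => ∀ b, ∃ s : F, s * s = 1 ∧ u α β a * u α β b = s • u α β (a + b)) ?_ ?_ ?_ ?_ a
  · intro b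
    exact ⟨1, one_mul 1, by rw [u00, one_mul, e0, one_smul]⟩
  · intro b
    refine a4_cases (P := fun b => ∃ s : F, s * s = 1 ∧ u α β (1, 0) * u α β b = s • u α β ((1, 0) + b)) ?_ ?_ ?_ ?_ b
    · exact ⟨1, one_mul 1, by rw [u00, mul_one, e0', one_smul]⟩
    · refine ⟨-1, m1, ?_⟩
      rw [e1, u10, u00]
      ext i j
      fin_cases i <;> fin_cases j <;> simp [Matrix.mul_apply, Fin.sum_univ_two] <;> lch h
    · refine ⟨1, one_mul 1, ?_⟩
      rw [e2, u10, u01, u11]
      ext i j
      fin_cases i <;> fin_cases j <;> simp [Matrix.mul_apply, Fin.sum_univ_two]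
    · refine ⟨-1, m1, ?_⟩
      rw [e3, u10, u01, u11]
      ext i j
      fin_cases i <;> fin_cases j <;> simp [Matrix.mul_apply, Fin.sum_univ_two] <;> lch h
  · intro b
    refine a4_cases (P := fun b => ∃ s : F, s * s = 1 ∧ u α β (0, 1) * u α β b = s • u α β ((0, 1) + b)) ?_ ?_ ?_ ?_ b
    · exact ⟨1, one_mul 1, by rw [u00, mul_one, e0', one_smul]⟩
    · refine ⟨-1, m1, ?_⟩
      rw [e4, u10, u01, u11]
      ext i j
      fin_cases i <;> fin_cases j <;> simp [Matrix.mul_apply, Fin.sum_univ_two]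
    · refine ⟨-1, m1, ?_⟩
      rw [e5, u00, u01]
      ext i j
      fin_cases i <;> fin_cases j <;> simp [Matrix.mul_apply, Fin.sum_univ_two]
    · refine ⟨1, one_mul 1, ?_⟩
      rw [e6, u10, u01, u11]
      ext i j
      fin_cases i <;> fin_cases j <;> simp [Matrix.mul_apply, Fin.sum_univ_two]
  · intro b
    refine a4_cases (P := fun b => ∃ s : F, s * s = 1 ∧ u α β (1, 1) * u α β b = s • u α β ((1, 1) + b)) ?_ ?_ ?_ ?_ b
    · exact ⟨1, one_mul 1, by rw [u00, mul_one, e0', one_smul]⟩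
    · refine ⟨1, one_mul 1, ?_⟩
      rw [e7, u10, u01, u11]
      ext i j
      fin_cases i <;> fin_cases j <;> simp [Matrix.mul_apply, Fin.sum_univ_two] <;> lch h
    · refine ⟨-1, m1, ?_⟩
      rw [e8, u10, u01, u11]
      ext i j
      fin_cases i <;> fin_cases j <;> simp [Matrix.mul_apply, Fin.sum_univ_two]
    · refine ⟨-1, m1, ?_⟩
      rw [e9, u00, u11]
      ext i j
      fin_cases i <;> fin_cases j <;> simp [Matrix.mul_apply, Fin.sum_univ_two] <;> lch h

theorem det_u (a : A4) : (u α β a).det = 1 := by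
  refine a4_cases (P := fun a => (u α β a).det = 1) ?_ ?_ ?_ ?_ a
  · rw [u00, det_one]
  · rw [u10, det_fin_two_of]; linear_combination -h
  · rw [u01, det_fin_two_of]; ring
  · rw [u11, det_fin_two_of]; linear_combination -h

theorem pd_u (a b : A4) : pd (u α β a) (u α β b) = if a = b then 2 else 0 := by
  revert b
  refine a4_cases (P := fun a => ∀ b, pd (u α β a) (u α β b) = if a = b then 2 else 0) ?_ ?_ ?_ ?_ a
  · intro b
    refine a4_cases (P := fun b => pd (u α β (0, 0)) (u α β b) = if (0, 0) = b then 2 else 0) ?_ ?_ ?_ ?_ b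
    · rw [if_pos rfl, u00]; simp [pd]; norm_num
    · rw [if_neg (by decide), u00, u10]; simp [pd]
    · rw [if_neg (by decide), u00, u01]; simp [pd]
    · rw [if_neg (by decide), u00, u11]; simp [pd]
  · intro b
    refine a4_cases (P := fun b => pd (u α β (1, 0)) (u α β b) = if (1, 0) = b then 2 else 0) ?_ ?_ ?_ ?_ b
    · rw [if_neg (by decide), u00, u10]; simp [pd]
    · rw [if_pos rfl, u10]; simp [pd]; linear_combination -2 * h
    · rw [if_neg (by decide), u10, u01]; simp [pd]
    · rw [if_neg (by decide), u10, u11]; simp [pd]; ring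
  · intro b
    refine a4_cases (P := fun b => pd (u α β (0, 1)) (u α β b) = if (0, 1) = b then 2 else 0) ?_ ?_ ?_ ?_ b
    · rw [if_neg (by decide), u00, u01]; simp [pd]
    · rw [if_neg (by decide), u10, u01]; simp [pd]
    · rw [if_pos rfl, u01]; simp [pd]; norm_num
    · rw [if_neg (by decide), u01, u11]; simp [pd]
  · intro b
    refine a4_cases (P := fun b => pd (u α β (1, 1)) (u α β b) = if (1, 1) = b then 2 else 0) ?_ ?_ ?_ ?_ b
    · rw [if_neg (by decide), u00, u11]; simp [pd]
    · rw [if_neg (by decide), u10, u11]; simp [pd]; ring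
    · rw [if_neg (by decide), u01, u11]; simp [pd]
    · rw [if_pos rfl, u11]; simp [pd]; linear_combination -2 * h

theorem u_adj (a : A4) : ∃ s : F, s * s = 1 ∧ (u α β a).adjugate = s • u α β a := by
  have m1 : (-1 : F) * -1 = 1 := by ring
  refine a4_cases (P := fun a => ∃ s : F, s * s = 1 ∧ (u α β a).adjugate = s • u α β a) ?_ ?_ ?_ ?_ a
  · exact ⟨1, one_mul 1, by rw [u00, adjugate_one, one_smul]⟩
  · refine ⟨-1, m1, ?_⟩
    rw [u10, adj2]
    ext i j
    fin_cases i <;> fin_cases j <;> simp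
  · refine ⟨-1, m1, ?_⟩
    rw [u01, adj2]
    ext i j
    fin_cases i <;> fin_cases j <;> simp
  · refine ⟨-1, m1, ?_⟩
    rw [u11, adj2]
    ext i j
    fin_cases i <;> fin_cases j <;> simp

theorem u_eq (h2 : (2 : F) ≠ 0) {a b : A4} {s t : F} (hs : s * s = 1) (e : s • u α β a = t • u α β b) :
    a = b ∧ s = t := by
  have hs0 : s ≠ 0 := left_ne_zero_of_mul_eq_one hs
  have h1 : pd (s • u α β a) (u α β a) = pd (t • u α β b) (u α β a) := by rw [e]
  have hsm : ∀ (s : F) (X Y : M2 F), pd (s • X) Y = s * pd X Y := by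
    intro s X Y
    simp only [pd, Matrix.smul_apply, smul_eq_mul]
    ring
  rw [hsm, hsm, pd_u h, pd_u h, if_pos rfl] at h1
  by_cases hab : b = a
  · rw [if_pos hab] at h1
    exact ⟨hab.symm, mul_right_cancel₀ h2 h1⟩
  · rw [if_neg hab, mul_zero] at h1
    exact absurd h1 (mul_ne_zero hs0 h2)

/-- the quaternion group -/
def QQ : Subgroup (SpecialLinearGroup (Fin 2) F) where
  carrier := {S | ∃ (a : A4) (s : F), s * s = 1 ∧ (S : M2 F) = s • u α β a}
  one_mem' := ⟨(0, 0), 1, one_mul 1, by rw [u00, one_smul]; rfl⟩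
  mul_mem' := by
    rintro S T ⟨a, s, hs, hS⟩ ⟨b, t, ht, hT⟩
    obtain ⟨r, hr, hab⟩ := u_mul h a b
    refine ⟨a + b, s * t * r, ?_, ?_⟩
    · calc s * t * r * (s * t * r) = (s * s) * (t * t) * (r * r) := by ring
        _ = 1 := by rw [hs, ht, hr, one_mul, one_mul]
    · change (S : M2 F) * (T : M2 F) = _
      rw [hS, hT, Matrix.smul_mul, Matrix.mul_smul, hab, smul_smul, smul_smul]
  inv_mem' := by
    rintro S ⟨a, s, hs, hS⟩
    obtain ⟨r, hr, ha⟩ := u_adj h a
    refine ⟨a, s * r, ?_, ?_⟩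
    · calc s * r * (s * r) = (s * s) * (r * r) := by ring
        _ = 1 := by rw [hs, hr, one_mul]
    · change (S : M2 F).adjugate = _
      rw [hS, adjugate_smul, ha, smul_smul]
      simp

theorem mem_QQ {S : SpecialLinearGroup (Fin 2) F} :
    S ∈ QQ h ↔ ∃ (a : A4) (s : F), s * s = 1 ∧ (S : M2 F) = s • u α β a := Iff.rfl

theorem sq_one {s : F} (hs : s * s = 1) : s = 1 ∨ s = -1 := mul_self_eq_one_iff.1 hs

theorem card_QQ (h2 : (2 : F) ≠ 0) : Nat.card ↥(QQ h) = 8 := by
  have hdet : ∀ (s : F) (a : A4), s * s = 1 → (s • u α β a).det = 1 := by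
    intro s a hs
    rw [det_smul, det_u h, mul_one, Fintype.card_fin, pow_two, hs]
  have hb : ∀ b : Bool, (if b then (-1 : F) else 1) * (if b then (-1 : F) else 1) = 1 := by
    intro b
    cases b <;> simp
  let g : Bool × A4 → ↥(QQ h) := fun x => ⟨⟨(if x.1 then (-1 : F) else 1) • u α β x.2, hdet _ _ (hb x.1)⟩,
    x.2, _, hb x.1, rfl⟩
  have hg : Function.Bijective g := by
    constructor
    · rintro ⟨b, a⟩ ⟨b', a'⟩ e
      have e1 : (if b then (-1 : F) else 1) • u α β a = (if b' then (-1 : F) else 1) • u α β a' :=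
        congrArg (fun S : ↥(QQ h) => ((S : SpecialLinearGroup (Fin 2) F) : M2 F)) e
      obtain ⟨e2, e3⟩ := u_eq h h2 (hb b) e1
      have h11 : (1 : F) ≠ -1 := by
        intro h1
        apply h2
        linear_combination h1
      subst e2
      congr 1
      cases b <;> cases b'
      · rfl
      · exact absurd e3 h11
      · exact absurd e3.symm h11
      · rfl
    · rintro ⟨S, a, s, hs, hS⟩
      rcases sq_one h hs with rfl | rfl
      · exact ⟨(false, a), Subtype.ext (Subtype.ext (by rw [hS]; rfl))⟩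
      · exact ⟨(true, a), Subtype.ext (Subtype.ext (by rw [hS]; rfl))⟩
  rw [← Nat.card_eq_of_bijective g hg, Nat.card_eq_fintype_card]
  rfl

/-- the elements `u a` of the group -/
def U (a : A4) : SpecialLinearGroup (Fin 2) F := ⟨u α β a, det_u h a⟩

theorem U_mem (a : A4) : U h a ∈ QQ h := ⟨a, 1, one_mul 1, by rw [one_smul]; rfl⟩

/-- the normaliser -/
abbrev NQ : Subgroup (SpecialLinearGroup (Fin 2) F) :=
  Subgroup.normalizer ((QQ h : Subgroup _) : Set (SpecialLinearGroup (Fin 2) F))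

theorem exists_act (S : ↥(NQ h)) (a : A4) :
    ∃ b : A4, ∃ s : F, s * s = 1 ∧ (S.1.1 * u α β a * S.1.1.adjugate : M2 F) = s • u α β b := by
  obtain ⟨b, s, hs, e⟩ := (Subgroup.mem_normalizer_iff.1 S.2 (U h a)).1 (U_mem h a)
  exact ⟨b, s, hs, e⟩

/-- the action on the quaternion units modulo signs -/
noncomputable def actF (S : ↥(NQ h)) (a : A4) : A4 := (exists_act h S a).choose

theorem actF_spec (S : ↥(NQ h)) (a : A4) :
    ∃ s : F, s * s = 1 ∧ (S.1.1 * u α β a * S.1.1.adjugate : M2 F) = s • u α β (actF h S a) :=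
  (exists_act h S a).choose_spec

theorem actF_one (h2 : (2 : F) ≠ 0) (a : A4) : actF h 1 a = a := by
  obtain ⟨s, hs, e⟩ := actF_spec h 1 a
  have e1 : ((1 : ↥(NQ h)).1.1 * u α β a * (1 : ↥(NQ h)).1.1.adjugate : M2 F) = u α β a := by
    change (1 : M2 F) * u α β a * (1 : M2 F).adjugate = _
    rw [one_mul, adjugate_one, mul_one]
  rw [e1] at e
  exact (u_eq h h2 hs (t := 1) (by rw [one_smul]; exact e.symm)).1

theorem actF_mul (h2 : (2 : F) ≠ 0) (S T : ↥(NQ h)) (a : A4) : actF h (S * T) a = actF h S (actF h T a) := by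
  obtain ⟨s, hs, e⟩ := actF_spec h (S * T) a
  obtain ⟨t, ht, eT⟩ := actF_spec h T a
  obtain ⟨r, hr, eS⟩ := actF_spec h S (actF h T a)
  have e1 : ((S * T : ↥(NQ h)).1.1 * u α β a * (S * T : ↥(NQ h)).1.1.adjugate : M2 F) =
      (t * r) • u α β (actF h S (actF h T a)) := by
    change ((S.1.1 * T.1.1 : M2 F) * u α β a * (S.1.1 * T.1.1 : M2 F).adjugate : M2 F) = _
    rw [adjugate_mul_distrib]
    calc S.1.1 * T.1.1 * u α β a * (T.1.1.adjugate * S.1.1.adjugate)
        = S.1.1 * (T.1.1 * u α β a * T.1.1.adjugate) * S.1.1.adjugate := by simp only [mul_assoc]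
      _ = _ := by rw [eT, Matrix.mul_smul, Matrix.smul_mul, eS, smul_smul]
  rw [e1] at e
  refine (u_eq h h2 hs (t := t * r) e.symm).1

/-- the action as a homomorphism -/
noncomputable def actH (h2 : (2 : F) ≠ 0) : ↥(NQ h) →* Equiv.Perm A4 :=
  @MulAction.toPermHom ↥(NQ h) A4 _
    { smul := fun S a => actF h S a
      one_smul := actF_one h h2
      mul_smul := actF_mul h h2 }

theorem actH_apply (h2 : (2 : F) ≠ 0) (S : ↥(NQ h)) (a : A4) : actH h h2 S a = actF h S a := rfl

/-- elements commuting with the units up to sign -/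
theorem unit_of_fix (h2 : (2 : F) ≠ 0) {X : M2 F} (hX : X.det = 1) {ε δ : F} (hε : ε * ε = 1) (hδ : δ * δ = 1)
    (hJ : X * u α β (0, 1) = ε • (u α β (0, 1) * X)) (hI : X * u α β (1, 0) = δ • (u α β (1, 0) * X)) :
    ∃ (a : A4) (s : F), s * s = 1 ∧ X = s • u α β a := by
  obtain ⟨p, q, r, t, rfl⟩ : ∃ p q r t, X = !![p, q; r, t] := ⟨_, _, _, _, Matrix.eta_fin_two X⟩
  rw [det_fin_two_of] at hX
  rw [u01] at hJ
  rw [u10] at hI
  have j1 := congrFun (congrFun hJ 0) 0
  have j2 := congrFun (congrFun hJ 0) 1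
  have i1 := congrFun (congrFun hI 0) 0
  have i2 := congrFun (congrFun hI 0) 1
  simp [Matrix.mul_apply, Fin.sum_univ_two] at j1 j2 i1 i2
  have key : ∀ x y : F, (2 : F) * (x * α) = 0 → (2 : F) * (x * β) = 0 → x = 0 := by
    intro x _ h3 h4
    have h5 := (mul_eq_zero.1 h3).resolve_left h2
    have h6 := (mul_eq_zero.1 h4).resolve_left h2
    linear_combination x * h - α * h5 - β * h6
  rcases sq_one h hε with rfl | rfl
  · obtain rfl : r = -q := by linear_combination -j1
    obtain rfl : t = p := by linear_combination -j2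
    rcases sq_one h hδ with rfl | rfl
    · have hq : q = 0 := key q 0 (by linear_combination -i2) (by linear_combination i1)
      subst hq
      refine ⟨(0, 0), t, by linear_combination hX, ?_⟩
      rw [u00]
      ext i j
      fin_cases i <;> fin_cases j <;> simp
    · have hp : t = 0 := key t 0 (by linear_combination i1) (by linear_combination i2)
      subst hp
      refine ⟨(0, 1), q, by linear_combination hX, ?_⟩
      rw [u01]
      ext i j
      fin_cases i <;> fin_cases j <;> simp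
  · obtain rfl : r = q := by linear_combination j1
    obtain rfl : t = -p := by linear_combination j2
    rcases sq_one h hδ with rfl | rfl
    · have h3 : p * β = r * α := by
        have h4 : (2 : F) * (p * β - r * α) = 0 := by linear_combination i2
        exact sub_eq_zero.1 ((mul_eq_zero.1 h4).resolve_left h2)
      have hp : p = -(α * p + β * r) * α := by linear_combination p * h - β * h3
      have hr : r = -(α * p + β * r) * β := by linear_combination r * h + α * h3
      obtain ⟨s, hs⟩ : ∃ s, s = -(α * p + β * r) := ⟨_, rfl⟩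
      rw [← hs] at hp hr
      refine ⟨(1, 0), s, ?_, ?_⟩
      · rw [hp, hr] at hX
        linear_combination hX + s * s * h
      · rw [u10, hp, hr]
        ext i j
        fin_cases i <;> fin_cases j <;> simp
    · have h3 : p * α = -(r * β) := by
        have h4 : (2 : F) * (p * α + r * β) = 0 := by linear_combination i1
        exact eq_neg_of_add_eq_zero_left ((mul_eq_zero.1 h4).resolve_left h2)
      have hp : p = (α * r - β * p) * β := by linear_combination p * h - α * h3
      have hr : r = -(α * r - β * p) * α := by linear_combination r * h - β * h3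
      obtain ⟨s, hs⟩ : ∃ s, s = α * r - β * p := ⟨_, rfl⟩
      rw [← hs] at hp hr
      refine ⟨(1, 1), -s, ?_, ?_⟩
      · rw [hp, hr] at hX
        linear_combination hX + s * s * h
      · rw [u11, hp, hr]
        ext i j
        fin_cases i <;> fin_cases j <;> simp

theorem mem_of_fix (h2 : (2 : F) ≠ 0) {S : SpecialLinearGroup (Fin 2) F} {ε δ : F} (hε : ε * ε = 1) (hδ : δ * δ = 1)
    (hJ : S.1 * u α β (0, 1) = ε • (u α β (0, 1) * S.1)) (hI : S.1 * u α β (1, 0) = δ • (u α β (1, 0) * S.1)) :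
    S ∈ QQ h := unit_of_fix h h2 S.2 hε hδ hJ hI

theorem ker_le (h2 : (2 : F) ≠ 0) : (actH h h2).ker ≤ (QQ h).subgroupOf (NQ h) := by
  intro S hS
  rw [MonoidHom.mem_ker] at hS
  have hfix : ∀ a, actF h S a = a := by
    intro a
    rw [← actH_apply h h2, hS]
    rfl
  have key : ∀ a, ∃ s : F, s * s = 1 ∧ S.1.1 * u α β a = s • (u α β a * S.1.1) := by
    intro a
    obtain ⟨s, hs, e⟩ := actF_spec h S a
    rw [hfix] at e
    refine ⟨s, hs, ?_⟩
    have h1 : S.1.1.adjugate * S.1.1 = 1 := by rw [adjugate_mul, S.1.2, one_smul]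
    calc S.1.1 * u α β a = S.1.1 * u α β a * (S.1.1.adjugate * S.1.1) := by rw [h1, mul_one]
      _ = (S.1.1 * u α β a * S.1.1.adjugate) * S.1.1 := by simp only [mul_assoc]
      _ = _ := by rw [e, Matrix.smul_mul]
  obtain ⟨s, hs, e⟩ := key (0, 1)
  obtain ⟨t, ht, e'⟩ := key (1, 0)
  exact mem_of_fix h h2 hs ht e e'

/-- **The normaliser of the quaternion group.** -/
theorem relIndex_dvd [Finite F] (h2 : (2 : F) ≠ 0) (hodd : ¬ 2 ∣ (QQ h).index) : (QQ h).relIndex (NQ h) ∣ 3 := by
  have h1 : (QQ h).relIndex (NQ h) ∣ 24 := by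
    have h3 : (QQ h).relIndex (NQ h) ∣ (actH h h2).ker.index := Subgroup.index_dvd_of_le (ker_le h h2)
    have h4 : (actH h h2).ker.index ∣ Nat.card (Equiv.Perm A4) := by
      rw [Subgroup.index_ker]
      exact Subgroup.card_subgroup_dvd_card _
    have h5 : Nat.card (Equiv.Perm A4) = 24 := by
      rw [Nat.card_perm, Nat.card_eq_fintype_card]
      rfl
    rw [h5] at h4
    exact h3.trans h4
  have h3 : (QQ h).relIndex (NQ h) ∣ (QQ h).index :=
    Dvd.intro _ (Subgroup.relIndex_mul_index Subgroup.le_normalizer)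
  have h4 : ((QQ h).relIndex (NQ h)).Coprime (2 ^ 3) := by
    apply Nat.Coprime.pow_right
    rw [Nat.coprime_comm, Nat.Prime.coprime_iff_not_dvd Nat.prime_two]
    exact fun h5 => hodd (h5.trans h3)
  have h5 : (24 : ℕ) = 2 ^ 3 * 3 := by norm_num
  rw [h5] at h1
  exact h4.dvd_of_dvd_mul_left h1

/-- The quaternion group is a Sylow subgroup. -/
theorem index_odd [Finite F] (h2 : (2 : F) ≠ 0) {q : ℕ} (hq : Odd q) (h16 : ¬ 16 ∣ q ^ 2 - 1)
    (hc : Nat.card (SpecialLinearGroup (Fin 2) F) = q * (q ^ 2 - 1)) : ¬ 2 ∣ (QQ h).index := by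
  rintro ⟨m, hm⟩
  have h1 := Subgroup.card_mul_index (QQ h)
  rw [card_QQ h h2, hm, hc] at h1
  apply h16
  have h3 : 16 ∣ q * (q ^ 2 - 1) := ⟨m, by rw [← h1]; ring⟩
  have h4 : Nat.Coprime 16 q := by
    have h5 : Nat.Coprime (2 ^ 4) q := Nat.Coprime.pow_left 4 (Nat.coprime_two_left.2 hq)
    exact h5
  exact h4.dvd_of_dvd_mul_left h3

end Cfsg.Agent.H982.DfMat
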