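import Mathlib

/-!
# S3568, E720: the linear algebra (helper982)

`W = V₁ ⊕ V₂` elementary abelian of order `16`, `E` a group of automorphisms interchanging `V₁` and `V₂`, containing
`R = 3 × 3` acting on `V₁` and `V₂`, such that the stabilizer of `V₁` contains no involution.  If `E` contains an
involution, then `E` permutes `{V₁, V₂}`.
-/

set_option autoImplicit false

namespace Cfsg.Agent.H982.Five720

/-- the situation -/
structure Cx {W : Type*} [AddCommGroup W] (V1 V2 : AddSubgroup W) (E : Subgroup (Equiv.Perm W)) : Prop where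
  add : ∀ e ∈ E, ∀ x y : W, e (x + y) = e x + e y
  two : ∀ x : W, x + x = 0
  dec : ∀ x : W, ∃ a ∈ V1, ∃ b ∈ V2, x = a + b
  inf : ∀ x ∈ V1, x ∈ V2 → x = 0
  four1 : ∀ a ∈ V1, ∀ b ∈ V1, a ≠ 0 → b ≠ 0 → a ≠ b → ∀ c ∈ V1, c = 0 ∨ c = a ∨ c = b ∨ c = a + b
  four2 : ∀ a ∈ V2, ∀ b ∈ V2, a ≠ 0 → b ≠ 0 → a ≠ b → ∀ c ∈ V2, c = 0 ∨ c = a ∨ c = b ∨ c = a + b
  ex1 : ∀ a ∈ V1, a ≠ 0 → ∃ b ∈ V1, b ≠ 0 ∧ a ≠ b
  ex2 : ∀ a ∈ V2, a ≠ 0 → ∃ b ∈ V2, b ≠ 0 ∧ a ≠ b
  tr1 : ∀ a ∈ V1, ∀ a' ∈ V1, a ≠ 0 → a' ≠ 0 → ∃ r ∈ E, r a = a' ∧ (∀ x ∈ V1, r x ∈ V1) ∧ ∀ x ∈ V2, r x = x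
  tr2 : ∀ a ∈ V2, ∀ a' ∈ V2, a ≠ 0 → a' ≠ 0 → ∃ r ∈ E, r a = a' ∧ (∀ x ∈ V2, r x ∈ V2) ∧ ∀ x ∈ V1, r x = x
  sw : ∃ g ∈ E, (∀ a ∈ V1, g a ∈ V2) ∧ (∀ b ∈ V2, g⁻¹ b ∈ V1)
  odd : ∀ e ∈ E, (∀ a ∈ V1, e a ∈ V1) → e * e = 1 → e = 1

variable {W : Type*} [AddCommGroup W] {V1 V2 : AddSubgroup W} {E : Subgroup (Equiv.Perm W)}

/-- `⟨x, y⟩` is an image of `V₁` -/
def OL (V1 : AddSubgroup W) (E : Subgroup (Equiv.Perm W)) (x y : W) : Prop :=
  ∃ h ∈ E, ∃ a ∈ V1, ∃ b ∈ V1, a ≠ 0 ∧ b ≠ 0 ∧ a ≠ b ∧ h a = x ∧ h b = y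

theorem OL.map {x y : W} (h : OL V1 E x y) {k : Equiv.Perm W} (hk : k ∈ E) : OL V1 E (k x) (k y) := by
  obtain ⟨h, hh, a, ha, b, hb, h1, h2, h3, rfl, rfl⟩ := h
  exact ⟨k * h, mul_mem hk hh, a, ha, b, hb, h1, h2, h3, rfl, rfl⟩

namespace Cx

variable (C : Cx V1 V2 E)
include C

theorem neg (x : W) : -x = x := neg_eq_of_add_eq_zero_left (C.two x)

theorem add_self_cancel (x y : W) : x + (x + y) = y := by rw [← add_assoc, C.two, zero_add]

theorem ne_of {x y : W} (h : x + y ≠ 0) : x ≠ y := by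
  rintro rfl
  exact h (C.two x)

theorem add_ne {x y : W} (h : x ≠ y) : x + y ≠ 0 := by
  intro h1
  apply h
  rw [← C.neg y]
  exact eq_neg_of_add_eq_zero_left h1

omit C in
theorem ol_symm {x y : W} (h : OL V1 E x y) : OL V1 E y x := by
  obtain ⟨h, hh, a, ha, b, hb, h1, h2, h3, rfl, rfl⟩ := h
  exact ⟨h, hh, b, hb, a, ha, h2, h1, Ne.symm h3, rfl, rfl⟩

theorem map_zero {e : Equiv.Perm W} (he : e ∈ E) : e 0 = 0 := by
  have h := C.add e he 0 0
  rw [add_zero] at h
  exact left_eq_add.1 h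

theorem map_ne {e : Equiv.Perm W} (he : e ∈ E) {x : W} (hx : x ≠ 0) : e x ≠ 0 := by
  intro h
  rw [← C.map_zero he] at h
  exact hx (e.injective h)

theorem ol_add {x y : W} (h : OL V1 E x y) : OL V1 E x (x + y) := by
  obtain ⟨h, hh, a, ha, b, hb, h1, h2, h3, rfl, rfl⟩ := h
  refine ⟨h, hh, a, ha, a + b, V1.add_mem ha hb, h1, C.add_ne h3, ?_, rfl, C.add h hh a b⟩
  intro h4
  exact h2 (by simpa using h4.symm)

/-- an involution does not fix an image of `V₁` -/
theorem not_fix {x y : W} (h : OL V1 E x y) {e : Equiv.Perm W} (he : e ∈ E) (he2 : e * e = 1) (he1 : e ≠ 1)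
    (h1 : e x = x ∨ e x = y ∨ e x = x + y) (h2 : e y = x ∨ e y = y ∨ e y = x + y) : False := by
  obtain ⟨h, hh, a, ha, b, hb, h3, h4, h5, rfl, rfl⟩ := h
  have hab : a + b ∈ V1 := V1.add_mem ha hb
  have key : h⁻¹ * e * h = 1 := by
    apply C.odd _ (mul_mem (mul_mem (inv_mem hh) he) hh)
    · intro c hc
      have ea : (h⁻¹ * e * h) a ∈ V1 := by
        change h⁻¹ (e (h a)) ∈ V1
        rcases h1 with h1 | h1 | h1 <;> rw [h1]
        · change (h⁻¹ * h) a ∈ V1
          rw [inv_mul_cancel]; exact ha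
        · change (h⁻¹ * h) b ∈ V1
          rw [inv_mul_cancel]; exact hb
        · rw [← C.add h hh]
          change (h⁻¹ * h) (a + b) ∈ V1
          rw [inv_mul_cancel]; exact hab
      have eb : (h⁻¹ * e * h) b ∈ V1 := by
        change h⁻¹ (e (h b)) ∈ V1
        rcases h2 with h1 | h1 | h1 <;> rw [h1]
        · change (h⁻¹ * h) a ∈ V1
          rw [inv_mul_cancel]; exact ha
        · change (h⁻¹ * h) b ∈ V1
          rw [inv_mul_cancel]; exact hb
        · rw [← C.add h hh]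
          change (h⁻¹ * h) (a + b) ∈ V1
          rw [inv_mul_cancel]; exact hab
      rcases C.four1 a ha b hb h3 h4 h5 c hc with rfl | rfl | rfl | rfl
      · have : (h⁻¹ * e * h) 0 = 0 := C.map_zero (mul_mem (mul_mem (inv_mem hh) he) hh)
        rw [this]; exact V1.zero_mem
      · exact ea
      · exact eb
      · rw [C.add _ (mul_mem (mul_mem (inv_mem hh) he) hh)]; exact V1.add_mem ea eb
    · have : h⁻¹ * e * h * (h⁻¹ * e * h) = h⁻¹ * (e * e) * h := by group
      rw [this, he2]; group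
  apply he1
  have : e = h * (h⁻¹ * e * h) * h⁻¹ := by group
  rw [this, key]; group

omit C in
theorem ol_self {v v' : W} (hv : v ∈ V1) (hv' : v' ∈ V1) (h0 : v ≠ 0) (h0' : v' ≠ 0) (hne : v ≠ v') :
    OL V1 E v v' := ⟨1, one_mem _, v, hv, v', hv', h0, h0', hne, rfl, rfl⟩

/-- type `T0` -/
theorem t0 {v w : W} (hv : v ∈ V1) (hw : w ∈ V2) (h0 : v ≠ 0) (hw0 : w ≠ 0) (h : OL V1 E v w)
    {v1 w1 : W} (hv1 : v1 ∈ V1) (hw1 : w1 ∈ V2) (h01 : v1 ≠ 0) (hw01 : w1 ≠ 0) : OL V1 E v1 w1 := by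
  obtain ⟨r, hr, hr1, -, hr2⟩ := C.tr1 v hv v1 hv1 h0 h01
  obtain ⟨s, hs, hs1, -, hs2⟩ := C.tr2 w hw w1 hw1 hw0 hw01
  have := (h.map hr).map hs
  rwa [hr1, hr2 w hw, hs2 v1 hv1, hs1] at this

/-- type `T1` -/
theorem t1 {v v' w : W} (hv : v ∈ V1) (hv' : v' ∈ V1) (hw : w ∈ V2) (h0 : v ≠ 0) (h0' : v' ≠ 0) (hne : v ≠ v')
    (hw0 : w ≠ 0) (h : OL V1 E v (v' + w))
    {v1 v1' w1 : W} (hv1 : v1 ∈ V1) (hv1' : v1' ∈ V1) (hw1 : w1 ∈ V2) (h01 : v1 ≠ 0) (h01' : v1' ≠ 0)
    (hne1 : v1 ≠ v1') (hw01 : w1 ≠ 0) : OL V1 E v1 (v1' + w1) := by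
  obtain ⟨r, hr, hr1, hrm, hr2⟩ := C.tr1 v hv v1 hv1 h0 h01
  obtain ⟨s, hs, hs1, -, hs2⟩ := C.tr2 w hw w1 hw1 hw0 hw01
  have h1 := (h.map hr).map hs
  rw [hr1, C.add r hr, hr2 w hw, C.add s hs, hs2 v1 hv1, hs1, hs2 _ (hrm v' hv')] at h1
  have h2 : r v' ≠ 0 := C.map_ne hr h0'
  have h3 : r v' ≠ v1 := by
    rw [← hr1]
    exact fun h => hne (r.injective h).symm
  rcases C.four1 v1 hv1 v1' hv1' h01 h01' hne1 (r v') (hrm v' hv') with h4 | h4 | h4 | h4
  · exact absurd h4 h2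
  · exact absurd h4 h3
  · rwa [h4] at h1
  · rw [h4] at h1
    have h5 := C.ol_add h1
    have h6 : v1 + (v1 + v1' + w1) = v1' + w1 := by
      rw [add_assoc, C.add_self_cancel]
    rwa [h6] at h5

/-- uniqueness of the decomposition -/
theorem uniq {a a' b b' : W} (ha : a ∈ V1) (ha' : a' ∈ V1) (hb : b ∈ V2) (hb' : b' ∈ V2) (h : a + b = a' + b') :
    a = a' ∧ b = b' := by
  have h1 : a + a' = b + b' := by
    have := congrArg (fun z => z + a' + b) h
    beta_reduce at this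
    have e1 : a + b + a' + b = a + a' + (b + b) := by abel
    have e2 : a' + b' + a' + b = b + b' + (a' + a') := by abel
    rw [e1, e2, C.two, C.two, add_zero, add_zero] at this
    exact this
  have h2 : a + a' = 0 := C.inf _ (V1.add_mem ha ha') (h1 ▸ V2.add_mem hb hb')
  have h3 : a = a' := by
    by_contra hne
    exact C.add_ne hne h2
  have h4 : b + b' = 0 := by rw [← h1, h2]
  exact ⟨h3, by by_contra hne; exact C.add_ne hne h4⟩

theorem ne_zero_of {a b : W} (ha : a ∈ V1) (hb : b ∈ V2) (h : a ≠ 0) : a + b ≠ 0 := by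
  intro h1
  have := C.uniq ha V1.zero_mem hb V2.zero_mem (by rw [h1, add_zero])
  exact h this.1

theorem ne_zero_of' {a b : W} (ha : a ∈ V1) (hb : b ∈ V2) (h : b ≠ 0) : a + b ≠ 0 := by
  intro h1
  have := C.uniq ha V1.zero_mem hb V2.zero_mem (by rw [h1, add_zero])
  exact h this.2

section inv

variable {e : Equiv.Perm W} (he : e ∈ E) (he2 : e * e = 1) (he1 : e ≠ 1) {v v' : W} (hv : v ∈ V1) (hv' : v' ∈ V1)
  (h0 : v ≠ 0) (h0' : v' ≠ 0) (hne : v ≠ v') (hev : e v = v)
include he he2 he1 hv hv' h0 h0' hne hev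

omit C he he1 hv hv' h0 h0' hne hev in
theorem ee (x : W) : e (e x) = x := by
  change (e * e) x = x
  rw [he2]; rfl

/-- an involution of `E` fixing a vector of `V₁` -/
theorem inv_form : ∃ b ∈ V2, b ≠ 0 ∧ e v' = v' + b ∧ e b = b ∧ (∀ w ∈ V2, e w = w ∨ e w = w + v) ∧
    ∃ w ∈ V2, e w = w + v := by
  have ee : ∀ x, e (e x) = x := ee he2
  have eadd := C.add e he
  obtain ⟨a, ha, b, hb, hab⟩ := C.dec (e v')
  -- `b ≠ 0`
  have hb0 : b ≠ 0 := by
    intro hb0
    rw [hb0, add_zero] at hab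
    apply he1
    apply C.odd e he _ he2
    intro c hc
    rcases C.four1 v hv v' hv' h0 h0' hne c hc with rfl | rfl | rfl | rfl
    · rw [C.map_zero he]; exact V1.zero_mem
    · rw [hev]; exact hv
    · rw [hab]; exact ha
    · rw [eadd, hev, hab]; exact V1.add_mem hv ha
  have hc : e (v' + (a + b)) = v' + (a + b) := by
    rw [← hab, eadd, ee, add_comm]
  have hself : OL V1 E v v' := ol_self hv hv' h0 h0' hne
  have hOL : OL V1 E v (a + b) := by
    have := hself.map he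
    rwa [hev, hab] at this
  have hmapv : ∀ {y : W}, OL V1 E v (e y) → OL V1 E v y := by
    intro y h
    have := h.map he
    rwa [hev, ee] at this
  have hnf : ∀ {y : W}, OL V1 E v y → e y = y ∨ e y = v + y → False := by
    intro y h h1
    exact C.not_fix h he he2 he1 (Or.inl hev) (by
      rcases h1 with h1 | h1
      · exact Or.inr (Or.inl h1)
      · exact Or.inr (Or.inr h1))
  have hvv' : v + v' ≠ 0 := C.add_ne hne
  have hvvm : v + v' ∈ V1 := V1.add_mem hv hv'
  have hne2 : v ≠ v + v' := fun h => h0' (left_eq_add.1 h)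
  -- case `T0`
  have hα : ¬ (a = 0 ∨ a = v) := by
    intro hα
    have hT0 : OL V1 E v b := by
      rcases hα with rfl | rfl
      · rwa [zero_add] at hOL
      · have := C.ol_add hOL
        rwa [C.add_self_cancel] at this
    have hT0' : ∀ w ∈ V2, w ≠ 0 → OL V1 E v w := fun w hw hw0 => C.t0 hv hb h0 hb0 hT0 hv hw h0 hw0
    have hT1 : ∀ w ∈ V2, w ≠ 0 → ¬ OL V1 E v (v' + w) := by
      intro w hw hw0 h
      have h1 : OL V1 E v (v' + b) := C.t1 hv hv' hw h0 h0' hne hw0 h hv hv' hb h0 h0' hne hb0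
      rcases hα with rfl | rfl
      · rw [zero_add] at hc
        exact hnf h1 (Or.inl hc)
      · have h2 := C.ol_add h1
        have h3 : v' + (a + b) = a + (v' + b) := by abel
        rw [h3] at hc
        exact hnf h2 (Or.inl hc)
    have key : ∀ w ∈ V2, w ≠ 0 → ∀ a₁ ∈ V1, ∀ b₁ ∈ V2, e w = a₁ + b₁ → a₁ = v' ∨ a₁ = v + v' := by
      intro w hw hw0 a₁ ha₁ b₁ hb₁ hw1
      have h1 : e (v' + w) = (a + a₁) + (b + b₁) := by
        rw [eadd, hab, hw1]; abel
      have hcase : a₁ = 0 ∨ a₁ = v → False := by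
        intro h2
        have h3 : a + a₁ = 0 ∨ a + a₁ = v := by
          rcases hα with rfl | rfl <;> rcases h2 with rfl | rfl
          · left; rw [add_zero]
          · right; rw [zero_add]
          · right; rw [add_zero]
          · left; exact C.two _
        have h4 : OL V1 E v (e (v' + w)) := by
          by_cases h5 : b + b₁ = 0
          · exfalso
            rw [h5, add_zero] at h1
            rcases h3 with h3 | h3
            · rw [h3] at h1
              exact C.map_ne he (C.ne_zero_of hv' hw h0') h1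
            · rw [h3] at h1
              have h6 : v' + w = v := e.injective (by rw [h1, hev])
              have h7 := C.uniq hv' hv hw V2.zero_mem (by rw [h6, add_zero])
              exact hw0 h7.2
          · have h6 := hT0' _ (V2.add_mem hb hb₁) h5
            rw [h1]
            rcases h3 with h3 | h3
            · rwa [h3, zero_add]
            · rw [h3]; exact C.ol_add h6
        exact hT1 w hw hw0 (hmapv h4)
      rcases C.four1 v hv v' hv' h0 h0' hne a₁ ha₁ with h2 | h2 | h2 | h2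
      · exact (hcase (Or.inl h2)).elim
      · exact (hcase (Or.inr h2)).elim
      · exact Or.inl h2
      · exact Or.inr h2
    obtain ⟨b2, hb2, hb20, hbne⟩ := C.ex2 b hb hb0
    obtain ⟨a₁, ha₁, b₁, hb₁, h1⟩ := C.dec (e b)
    obtain ⟨a₂, ha₂, b₂, hb₂, h2⟩ := C.dec (e b2)
    have h3 := key b hb hb0 a₁ ha₁ b₁ hb₁ h1
    have h4 := key b2 hb2 hb20 a₂ ha₂ b₂ hb₂ h2
    have h5 := key (b + b2) (V2.add_mem hb hb2) (C.add_ne hbne) (a₁ + a₂) (V1.add_mem ha₁ ha₂) (b₁ + b₂)
      (V2.add_mem hb₁ hb₂) (by rw [eadd, h1, h2]; abel)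
    have h6 : a₁ + a₂ = 0 ∨ a₁ + a₂ = v := by
      rcases h3 with rfl | rfl <;> rcases h4 with rfl | rfl
      · left; exact C.two _
      · right
        have : a₁ + (v + a₁) = v + (a₁ + a₁) := by abel
        rw [this, C.two, add_zero]
      · right
        rw [add_assoc, C.two, add_zero]
      · left; exact C.two _
    rcases h5 with h5 | h5 <;> rcases h6 with h6 | h6 <;> rw [h6] at h5
    · exact h0' h5.symm
    · exact hne h5
    · exact hvv' h5.symm
    · exact hne2 h5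
  have hβ : a = v' ∨ a = v + v' := by
    rcases C.four1 v hv v' hv' h0 h0' hne a ha with h | h | h | h
    · exact absurd (Or.inl h) hα
    · exact absurd (Or.inr h) hα
    · exact Or.inl h
    · exact Or.inr h
  -- `T1` consists of images of `V₁`
  have hT1b : OL V1 E v (v' + b) := by
    rcases hβ with rfl | rfl
    · exact hOL
    · have := C.ol_add hOL
      have h1 : v + (v + v' + b) = v' + b := by rw [add_assoc v v' b, C.add_self_cancel]
      rwa [h1] at this
  have hT1 : ∀ x ∈ V1, ∀ y ∈ V1, ∀ w ∈ V2, x ≠ 0 → y ≠ 0 → x ≠ y → w ≠ 0 → OL V1 E x (y + w) :=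
    fun x hx y hy w hw hx0 hy0 hxy hw0 =>
      C.t1 hv hv' hb h0 h0' hne hb0 hT1b hx hy hw hx0 hy0 hxy hw0
  -- `e b = b`
  have heb : e b = b := by
    rcases hβ with h | h
    · rw [h, C.add_self_cancel] at hc
      exact hc
    · have h1 : v' + (a + b) = v + b := by
        rw [h]
        have : v' + (v + v' + b) = v + b + (v' + v') := by abel
        rw [this, C.two, add_zero]
      rw [h1, eadd, hev] at hc
      exact add_left_cancel hc
  have hT0 : ∀ w ∈ V2, w ≠ 0 → ¬ OL V1 E v w := by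
    intro w hw hw0 h
    exact hnf (C.t0 hv hw h0 hw0 h hv hb h0 hb0) (Or.inl heb)
  have key : ∀ w ∈ V2, w ≠ 0 → ∀ a₁ ∈ V1, ∀ b₁ ∈ V2, e w = a₁ + b₁ → (a₁ = 0 ∨ a₁ = v) ∧ b₁ ≠ 0 := by
    intro w hw hw0 a₁ ha₁ b₁ hb₁ hw1
    have hcase : a₁ = v' ∨ a₁ = v + v' → False := by
      intro h2
      have h3 : a₁ ≠ 0 := by
        rcases h2 with rfl | rfl
        · exact h0'
        · exact hvv'
      have h4 : v ≠ a₁ := by
        rcases h2 with rfl | rfl
        · exact hne
        · exact hne2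
      have h5 : OL V1 E v (e w) := by
        rw [hw1]
        by_cases hb1 : b₁ = 0
        · rw [hb1, add_zero]
          exact ol_self hv ha₁ h0 h3 h4
        · exact hT1 v hv a₁ ha₁ b₁ hb₁ h0 h3 h4 hb1
      exact hT0 w hw hw0 (hmapv h5)
    have h1 : a₁ = 0 ∨ a₁ = v := by
      rcases C.four1 v hv v' hv' h0 h0' hne a₁ ha₁ with h2 | h2 | h2 | h2
      · exact Or.inl h2
      · exact Or.inr h2
      · exact (hcase (Or.inl h2)).elim
      · exact (hcase (Or.inr h2)).elim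
    refine ⟨h1, ?_⟩
    intro hb1
    rw [hb1, add_zero] at hw1
    rcases h1 with h1 | h1
    · rw [h1] at hw1
      exact C.map_ne he hw0 hw1
    · rw [h1] at hw1
      have h6 : w = v := e.injective (by rw [hw1, hev])
      exact hw0 (by rw [h6]; exact C.inf v hv (h6 ▸ hw))
  have hlam : ∀ w ∈ V2, e w = w ∨ e w = w + v := by
    intro w hw
    by_cases hw0 : w = 0
    · left; rw [hw0]; exact C.map_zero he
    by_cases hwb : w = b
    · left; rw [hwb]; exact heb
    obtain ⟨a₁, ha₁, b₁, hb₁, h1⟩ := C.dec (e w)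
    obtain ⟨h2, h3⟩ := key w hw hw0 a₁ ha₁ b₁ hb₁ h1
    rcases C.four2 b hb w hw hb0 hw0 (Ne.symm hwb) b₁ hb₁ with h4 | h4 | h4 | h4
    · exact absurd h4 h3
    · exfalso
      rw [h4] at h1
      rcases h2 with h2 | h2 <;> rw [h2] at h1
      · rw [zero_add] at h1
        exact hwb (e.injective (by rw [h1, heb]))
      · have h5 : w = v + b := e.injective (by rw [h1, eadd, hev, heb])
        have h6 := C.uniq V1.zero_mem hv hw hb (by rw [zero_add]; exact h5)
        exact h0 h6.1.symm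
    · rw [h4] at h1
      rcases h2 with h2 | h2 <;> rw [h2] at h1
      · left; rw [zero_add] at h1; exact h1
      · right; rw [h1, add_comm]
    · exfalso
      rw [h4] at h1
      have h5 := hT1 v hv v' hv' w hw h0 h0' hne hw0
      apply hnf h5
      have h6 : e (v' + w) = (a + a₁) + w := by
        rw [eadd, hab, h1]
        have : a + b + (a₁ + (b + w)) = (a + a₁) + w + (b + b) := by abel
        rw [this, C.two, add_zero]
      rw [h6]
      rcases hβ with h7 | h7 <;> rcases h2 with h2 | h2 <;> rw [h7, h2]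
      · left; rw [add_zero]
      · right; abel
      · right; rw [add_zero]; abel
      · left
        have : v + v' + v + w = v' + w + (v + v) := by abel
        rw [this, C.two, add_zero]
  have ha' : a = v' := by
    rcases hβ with h | h
    · exact h
    · exfalso
      have h1 := hT1 v' hv' v hv b hb h0' h0 hne.symm hb0
      refine C.not_fix h1 he he2 he1 (Or.inr (Or.inr ?_)) (Or.inr (Or.inl ?_))
      · rw [hab, h]; abel
      · rw [eadd, hev, heb]
  refine ⟨b, hb, hb0, by rw [hab, ha'], heb, hlam, ?_⟩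
  by_contra hcon
  push Not at hcon
  have hall : ∀ w ∈ V2, e w = w := by
    intro w hw
    rcases hlam w hw with h | h
    · exact h
    · exact absurd h (hcon w hw)
  obtain ⟨g, hg, hg1, -⟩ := C.sw
  exact C.not_fix (hself.map hg) he he2 he1 (Or.inl (hall _ (hg1 v hv))) (Or.inr (Or.inl (hall _ (hg1 v' hv'))))

end inv

/-- no involution of `E` fixes a vector of `V₁` -/
theorem no_inv {e : Equiv.Perm W} (he : e ∈ E) (he2 : e * e = 1) (he1 : e ≠ 1) {v : W} (hv : v ∈ V1)
    (h0 : v ≠ 0) (hev : e v = v) : False := by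
  obtain ⟨v', hv', h0', hne⟩ := C.ex1 v hv h0
  obtain ⟨b, hb, hb0, e1, e2, e3, w, hw, e4⟩ := C.inv_form he he2 he1 hv hv' h0 h0' hne hev
  have hw0 : w ≠ 0 := by
    rintro rfl
    rw [C.map_zero he, zero_add] at e4
    exact h0 e4.symm
  have hwb : b ≠ w := by
    rintro rfl
    rw [e2] at e4
    exact h0 (left_eq_add.1 e4)
  obtain ⟨r, hr, hr1, -, hr2⟩ := C.tr2 b hb w hw hb0 hw0
  have hr2' : ∀ x ∈ V1, r⁻¹ x = x := fun x hx => by
    rw [Equiv.Perm.inv_eq_iff_eq, hr2 x hx]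
  set f := r * e * r⁻¹ with hf
  have hfE : f ∈ E := mul_mem (mul_mem hr he) (inv_mem hr)
  have hf2 : f * f = 1 := by
    have : f * f = r * (e * e) * r⁻¹ := by rw [hf]; group
    rw [this, he2]; group
  have hf1 : f ≠ 1 := by
    intro h
    apply he1
    have : e = r⁻¹ * f * r := by rw [hf]; group
    rw [this, h]; group
  have hfv : f v = v := by
    change r (e (r⁻¹ v)) = v
    rw [hr2' v hv, hev, hr2 v hv]
  have hfv' : f v' = v' + w := by
    change r (e (r⁻¹ v')) = v' + w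
    rw [hr2' v' hv', e1, C.add r hr, hr2 v' hv', hr1]
  obtain ⟨b', hb', -, f1, f2, -, w', hw', f4⟩ := C.inv_form hfE hf2 hf1 hv hv' h0 h0' hne hfv
  have hbw : b' = w := by
    rw [hfv'] at f1
    exact (add_left_cancel f1).symm
  rw [hbw] at f2
  have hfb : f b = b + v := by
    have h1 : w' ≠ 0 := by
      rintro rfl
      rw [C.map_zero hfE, zero_add] at f4
      exact h0 f4.symm
    have h2 : w' ≠ w := by
      rintro rfl
      rw [f2] at f4
      exact h0 (left_eq_add.1 f4)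
    rcases C.four2 b hb w hw hb0 hw0 hwb w' hw' with h | h | h | h
    · exact absurd h h1
    · rw [h] at f4; exact f4
    · exact absurd h h2
    · rw [h, C.add f hfE, f2] at f4
      have h3 : f b + w = (b + v) + w := by rw [f4]; abel
      exact add_right_cancel h3
  -- `e` and `f` commute
  have hcomm : e * f = f * e := by
    have hV1 : ∀ x ∈ V1, e (f x) = f (e x) := by
      have hv'c : e (f v') = f (e v') := by
        rw [hfv', e1, C.add e he, C.add f hfE, e1, e4, hfv', hfb]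
        abel
      intro x hx
      rcases C.four1 v hv v' hv' h0 h0' hne x hx with rfl | rfl | rfl | rfl
      · rw [C.map_zero hfE, C.map_zero he, C.map_zero hfE]
      · rw [hfv, hev, hfv]
      · exact hv'c
      · rw [C.add f hfE, C.add e he, C.add e he, C.add f hfE, hv'c, hfv, hev, hfv]
    have hV2 : ∀ x ∈ V2, e (f x) = f (e x) := by
      have hbc : e (f b) = f (e b) := by rw [hfb, e2, C.add e he, e2, hev, hfb]
      have hwc : e (f w) = f (e w) := by rw [f2, e4, C.add f hfE, f2, hfv]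
      intro x hx
      rcases C.four2 b hb w hw hb0 hw0 hwb x hx with rfl | rfl | rfl | rfl
      · rw [C.map_zero hfE, C.map_zero he, C.map_zero hfE]
      · exact hbc
      · exact hwc
      · rw [C.add f hfE, C.add e he, C.add e he, C.add f hfE, hbc, hwc]
    apply Equiv.ext
    intro x
    obtain ⟨x1, hx1, x2, hx2, rfl⟩ := C.dec x
    change e (f (x1 + x2)) = f (e (x1 + x2))
    rw [C.add f hfE, C.add e he, C.add e he, C.add f hfE, hV1 x1 hx1, hV2 x2 hx2]
  have hh2 : e * f * (e * f) = 1 := by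
    have : e * f * (e * f) = (e * e) * (f * f) := by
      calc e * f * (e * f) = e * (f * e) * f := by group
        _ = e * (e * f) * f := by rw [hcomm]
        _ = _ := by group
    rw [this, he2, hf2, one_mul]
  have hhv : (e * f) v = v := by
    change e (f v) = v
    rw [hfv, hev]
  have hhv' : (e * f) v' = v' + b + (w + v) := by
    change e (f v') = _
    rw [hfv', C.add e he, e1, e4]
  have hh1 : e * f ≠ 1 := by
    intro h
    rw [h] at hhv'
    have h1 : v' + (b + w + v) = v' + 0 := by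
      rw [add_zero]
      change v' = _ at hhv'
      rw [hhv']
      have : v' + b + (w + v) = v' + (b + w + v) := by abel
      rw [this, ← this, ← hhv']
      exact this.symm ▸ hhv'.symm
    have h2 := add_left_cancel h1
    have h3 : v + (b + w) = 0 := by rw [add_comm]; exact h2
    exact C.ne_zero_of hv (V2.add_mem hb hw) h0 h3
  obtain ⟨b'', hb'', -, g1, -, -, -⟩ := C.inv_form (mul_mem he hfE) hh2 hh1 hv hv' h0 h0' hne hhv
  rw [hhv'] at g1
  have h1 : v + (b + w) = 0 + b'' := by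
    have h2 : v' + (v + (b + w)) = v' + b'' := by rw [← g1]; abel
    rw [zero_add]
    exact add_left_cancel h2
  exact h0 (C.uniq hv V1.zero_mem (V2.add_mem hb hw) hb'' h1).1

/-- If `E` contains an involution then `E` permutes `V₁`, `V₂`. -/
theorem perm {u : Equiv.Perm W} (hu : u ∈ E) (hu2 : u * u = 1) (hu1 : u ≠ 1) {h : Equiv.Perm W} (hh : h ∈ E) :
    (∀ a ∈ V1, h a ∈ V1) ∨ (∀ a ∈ V1, h a ∈ V2) := by
  -- every image of a vector of `V₁` is in `V₁` or `V₂`
  have hcj : ∀ k ∈ E, k⁻¹ * u * k ∈ E ∧ (k⁻¹ * u * k) * (k⁻¹ * u * k) = 1 ∧ k⁻¹ * u * k ≠ 1 := by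
    intro k hk
    refine ⟨mul_mem (mul_mem (inv_mem hk) hu) hk, ?_, ?_⟩
    · have : k⁻¹ * u * k * (k⁻¹ * u * k) = k⁻¹ * (u * u) * k := by group
      rw [this, hu2]; group
    · intro h
      apply hu1
      have : u = k * (k⁻¹ * u * k) * k⁻¹ := by group
      rw [this, h]; group
  have key : ∀ v ∈ V1, v ≠ 0 → h v ∈ V1 ∨ h v ∈ V2 := by
    intro v hv hv0
    obtain ⟨x1, hx1, x2, hx2, hx⟩ := C.dec (h v)
    by_cases h1 : x1 = 0
    · right; rw [hx, h1, zero_add]; exact hx2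
    by_cases h2 : x2 = 0
    · left; rw [hx, h2, add_zero]; exact hx1
    exfalso
    -- a fixed vector of `u`
    obtain ⟨y, hy0, hy⟩ : ∃ y : W, y ≠ 0 ∧ u y = y := by
      by_contra hcon
      push Not at hcon
      apply hu1
      apply Equiv.ext
      intro y
      change u y = y
      by_contra hne
      apply hcon (u y + y) (C.add_ne hne)
      rw [C.add u hu, ee hu2, add_comm]
    obtain ⟨y1, hy1, y2, hy2, rfl⟩ := C.dec y
    by_cases h3 : y1 = 0
    · rw [h3, zero_add] at hy hy0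
      obtain ⟨g, hg, -, hg2⟩ := C.sw
      obtain ⟨k1, k2, k3⟩ := hcj g hg
      refine C.no_inv k1 k2 k3 (v := g⁻¹ y2) (hg2 y2 hy2) (C.map_ne (inv_mem hg) hy0) ?_
      change g⁻¹ (u (g (g⁻¹ y2))) = g⁻¹ y2
      have h6 : g (g⁻¹ y2) = y2 := by
        change (g * g⁻¹) y2 = y2
        rw [mul_inv_cancel]; rfl
      rw [h6, hy]
    by_cases h4 : y2 = 0
    · rw [h4, add_zero] at hy
      exact C.no_inv hu hu2 hu1 hy1 h3 hy
    obtain ⟨r, hr, hr1, -, hr2⟩ := C.tr1 x1 hx1 y1 hy1 h1 h3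
    obtain ⟨s, hs, hs1, -, hs2⟩ := C.tr2 x2 hx2 y2 hy2 h2 h4
    obtain ⟨k1, k2, k3⟩ := hcj (s * r * h) (mul_mem (mul_mem hs hr) hh)
    have h5 : (s * r * h) v = y1 + y2 := by
      change s (r (h v)) = y1 + y2
      rw [hx, C.add r hr, hr1, hr2 x2 hx2, C.add s hs, hs1, hs2 y1 hy1]
    refine C.no_inv k1 k2 k3 hv hv0 ?_
    change (s * r * h)⁻¹ (u ((s * r * h) v)) = v
    rw [h5, hy, Equiv.Perm.inv_eq_iff_eq, h5]
  by_contra hcon
  push Not at hcon
  obtain ⟨⟨a, ha, ha1⟩, b, hb, hb1⟩ := hcon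
  have ha0 : a ≠ 0 := by rintro rfl; rw [C.map_zero hh] at ha1; exact ha1 V1.zero_mem
  have hb0 : b ≠ 0 := by rintro rfl; rw [C.map_zero hh] at hb1; exact hb1 V2.zero_mem
  have ha2 : h a ∈ V2 := (key a ha ha0).resolve_left ha1
  have hb2 : h b ∈ V1 := (key b hb hb0).resolve_right hb1
  have hab : a ≠ b := by
    rintro rfl
    exact ha1 hb2
  rcases key (a + b) (V1.add_mem ha hb) (C.add_ne hab) with h1 | h1
  · rw [C.add h hh] at h1
    exact ha1 (by
      have := V1.sub_mem h1 hb2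
      rwa [add_sub_cancel_right] at this)
  · rw [C.add h hh] at h1
    exact hb1 (by
      have := V2.sub_mem h1 ha2
      rwa [add_sub_cancel_left] at this)

end Cx

end Cfsg.Agent.H982.Five720
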