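import Cfsg.Agent.H209.Five.Defs
import Cfsg.Agent.H982.Five720a

/-!
# S3568, E720: `N_G(S)` permutes `{V₁, V₂}` (helper982)
-/

set_option autoImplicit false

open Pointwise

namespace Cfsg.Agent.H982.Five720

open Cfsg.Agent.H399 Cfsg.Agent.H209.Five

variable {G : Type*} [Group G]

/-- the four elements of an elementary abelian group of order four -/
theorem four {V : Subgroup G} (h : EA V 4) {a b : G} (ha : a ∈ V) (hb : b ∈ V) (ha1 : a ≠ 1) (hb1 : b ≠ 1)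
    (hab : a ≠ b) {c : G} (hc : c ∈ V) : c = 1 ∨ c = a ∨ c = b ∨ c = a * b := by
  classical
  have hfin : Finite V := Nat.finite_of_card_ne_zero (by rw [h.card]; norm_num)
  have h1 : ({1, a, b, a * b} : Set G) ⊆ (V : Set G) := by
    rintro x (rfl | rfl | rfl | rfl)
    · exact V.one_mem
    · exact ha
    · exact hb
    · exact V.mul_mem ha hb
  have hab1 : a * b ≠ 1 := by
    intro h2
    apply hab
    have h3 := h.sq b hb
    exact mul_right_cancel (h2.trans h3.symm)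
  have haab : a * b ≠ a := fun h2 => hb1 (by simpa using h2)
  have hbab : a * b ≠ b := fun h2 => ha1 (by simpa using h2)
  have h2 : ({1, a, b, a * b} : Set G).ncard = 4 := by
    rw [Set.ncard_insert_of_notMem, Set.ncard_insert_of_notMem, Set.ncard_pair]
    · exact Ne.symm hbab
    · simp only [Set.mem_insert_iff, Set.mem_singleton_iff, not_or]
      exact ⟨hab, Ne.symm haab⟩
    · simp only [Set.mem_insert_iff, Set.mem_singleton_iff, not_or]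
      exact ⟨Ne.symm ha1, Ne.symm hb1, Ne.symm hab1⟩
  have h3 : (V : Set G).ncard = 4 := by
    rw [← Nat.card_coe_set_eq]; exact h.card
  have h4 : ({1, a, b, a * b} : Set G) = (V : Set G) :=
    Set.eq_of_subset_of_ncard_le h1 (by rw [h2, h3]) (Set.toFinite _)
  have h5 : c ∈ ({1, a, b, a * b} : Set G) := by rw [h4]; exact hc
  simpa using h5

theorem exists_ne_one {V : Subgroup G} (h : EA V 4) : ∃ a ∈ V, a ≠ 1 := by
  have : V ≠ ⊥ := by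
    rintro rfl
    have := h.card
    rw [Subgroup.card_bot] at this
    norm_num at this
  exact (Subgroup.ne_bot_iff_exists_ne_one.1 this).elim fun a ha =>
    ⟨a, a.2, fun h => ha (Subtype.ext h)⟩

theorem exists_ne_two {V : Subgroup G} (h : EA V 4) {a : G} (ha : a ∈ V) :
    ∃ b ∈ V, b ≠ 1 ∧ a ≠ b := by
  classical
  by_contra hcon
  push Not at hcon
  have h1 : (V : Set G) ⊆ {1, a} := by
    intro x hx
    by_cases hx1 : x = 1
    · left; exact hx1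
    · right; exact (hcon x hx hx1).symm
  have h2 : (V : Set G).ncard ≤ 2 := by
    refine (Set.ncard_le_ncard h1 (Set.toFinite _)).trans ?_
    exact (Set.ncard_insert_le _ _).trans (by rw [Set.ncard_singleton])
  have h3 : (V : Set G).ncard = 4 := by
    rw [← Nat.card_coe_set_eq]; exact h.card
  omega

/-- an element normalising `V`, fixing a non-trivial element, with its ninth power centralising `V`, centralises `V` -/
theorem fix_all {V : Subgroup G} (h : EA V 4) {t : G} (ht : ∀ x ∈ V, t * x * t⁻¹ ∈ V)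
    (h9 : ∀ x ∈ V, t ^ 9 * x = x * t ^ 9) {a : G} (ha : a ∈ V) (ha1 : a ≠ 1) (hta : t * a = a * t) :
    ∀ x ∈ V, t * x = x * t := by
  obtain ⟨b, hb, hb1, hab⟩ := exists_ne_two h ha
  have h2 : t ^ 2 * b = b * t ^ 2 := by
    have h3 : t * b * t⁻¹ ≠ 1 := fun h => hb1 (by simpa using h)
    have h4 : t * b * t⁻¹ ≠ a := by
      intro h5
      apply hab
      have h6 : t * b * t⁻¹ = t * a * t⁻¹ := by rw [h5, hta, mul_inv_cancel_right]
      exact (mul_left_cancel (mul_right_cancel h6)).symm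
    rcases four h ha hb ha1 hb1 hab (ht b hb) with h5 | h5 | h5 | h5
    · exact absurd h5 h3
    · exact absurd h5 h4
    · have h6 : t * b = b * t := mul_inv_eq_iff_eq_mul.1 h5
      rw [pow_two, mul_assoc, h6, ← mul_assoc, h6, mul_assoc]
    · have h6 : t * b = a * b * t := mul_inv_eq_iff_eq_mul.1 h5
      calc t ^ 2 * b = t * (t * b) := by rw [pow_two, mul_assoc]
        _ = (t * a) * b * t := by rw [h6]; simp only [mul_assoc]
        _ = a * (t * b) * t := by rw [hta]; simp only [mul_assoc]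
        _ = (a * a) * b * t * t := by rw [h6]; simp only [mul_assoc]
        _ = b * t ^ 2 := by rw [h.sq a ha, one_mul, pow_two, mul_assoc]
  have h2' : Commute (t ^ 2) b := h2
  have h9' : Commute (t ^ 9) b := h9 b hb
  have htb : Commute t b := by
    have h3 : t = t ^ 9 * ((t ^ 2) ^ 4)⁻¹ := by group
    rw [h3]
    exact h9'.mul_left ((h2'.pow_left 4).inv_left)
  have hta' : Commute t a := hta
  intro x hx
  rcases four h ha hb ha1 hb1 hab hx with rfl | rfl | rfl | rfl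
  · rw [mul_one, one_mul]
  · exact hta
  · exact htb
  · exact (hta'.mul_right htb)

/-- the situation -/
structure Ct (V₁ V₂ : Subgroup G) (g : G) : Prop where
  h₁ : EA V₁ 4
  h₂ : EA V₂ 4
  hc : ∀ x ∈ V₁, ∀ y ∈ V₂, x * y = y * x
  hi : V₁ ⊓ V₂ = ⊥
  hg₁ : cj g V₁ = V₂
  hg₂ : cj g V₂ = V₁
  hC : Subgroup.centralizer ((V₁ ⊔ V₂ : Subgroup G) : Set G) ≤ V₁ ⊔ V₂
  hN : Nat.card ↥(Nm V₁ ⊓ Nm (V₁ ⊔ V₂)) = 144
  hD : Nm V₁ ⊓ Nm (V₁ ⊔ V₂) ≤ Nm V₂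

namespace Ct

variable {V₁ V₂ : Subgroup G} {g : G} (C : Ct V₁ V₂ g)
include C

theorem le_nm : V₁ ≤ Nm V₂ := by
  rw [le_Nm]
  intro x hx y hy
  rw [C.hc x hx y hy, mul_inv_cancel_right]
  exact hy

theorem mem_sup {z : G} : z ∈ V₁ ⊔ V₂ ↔ ∃ x ∈ V₁, ∃ y ∈ V₂, x * y = z := mul_mem_sup_iff C.le_nm

theorem comm {x y : G} (hx : x ∈ V₁ ⊔ V₂) (hy : y ∈ V₁ ⊔ V₂) : x * y = y * x := by
  obtain ⟨a, ha, b, hb, rfl⟩ := C.mem_sup.1 hx
  obtain ⟨c, hc, d, hd, rfl⟩ := C.mem_sup.1 hy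
  have e1 := C.hc c hc b hb
  have e2 := C.hc a ha d hd
  have e3 := C.h₁.comm a ha c hc
  have e4 := C.h₂.comm b hb d hd
  calc a * b * (c * d) = a * (b * c) * d := by simp only [mul_assoc]
    _ = (a * c) * (b * d) := by rw [← e1]; simp only [mul_assoc]
    _ = c * (a * d) * b := by rw [e3, e4]; simp only [mul_assoc]
    _ = c * d * (a * b) := by rw [e2]; simp only [mul_assoc]

theorem sq {x : G} (hx : x ∈ V₁ ⊔ V₂) : x * x = 1 := by
  obtain ⟨a, ha, b, hb, rfl⟩ := C.mem_sup.1 hx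
  have e1 := C.hc a ha b hb
  calc a * b * (a * b) = a * (b * a) * b := by simp only [mul_assoc]
    _ = (a * a) * (b * b) := by rw [← e1]; simp only [mul_assoc]
    _ = 1 := by rw [C.h₁.sq a ha, C.h₂.sq b hb, one_mul]

theorem one_of_mem {x : G} (h1 : x ∈ V₁) (h2 : x ∈ V₂) : x = 1 := by
  have : x ∈ V₁ ⊓ V₂ := ⟨h1, h2⟩
  rwa [C.hi, Subgroup.mem_bot] at this

theorem uniq {a a' b b' : G} (ha : a ∈ V₁) (ha' : a' ∈ V₁) (hb : b ∈ V₂) (hb' : b' ∈ V₂)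
    (h : a * b = a' * b') : a = a' ∧ b = b' := by
  have h1 : a'⁻¹ * a = b' * b⁻¹ := by
    rw [inv_mul_eq_iff_eq_mul, ← mul_assoc, ← h, mul_inv_cancel_right]
  have h2 : a'⁻¹ * a = 1 :=
    C.one_of_mem (V₁.mul_mem (V₁.inv_mem ha') ha) (h1 ▸ V₂.mul_mem hb' (V₂.inv_mem hb))
  rw [h2] at h1
  exact ⟨(inv_mul_eq_one.1 h2).symm, (mul_inv_eq_one.1 h1.symm).symm⟩

theorem card_S : Nat.card ↥(V₁ ⊔ V₂) = 16 := by
  have h := card_sup C.le_nm
  rw [C.hi, Subgroup.card_bot, C.h₁.card, C.h₂.card, mul_one] at h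
  exact h

theorem g_mem : g ∈ Nm (V₁ ⊔ V₂) := by
  rw [mem_Nm, cj_sup, C.hg₁, C.hg₂, sup_comm]

omit C in
theorem V₁_le : V₁ ≤ V₁ ⊔ V₂ := le_sup_left

omit C in
theorem V₂_le : V₂ ≤ V₁ ⊔ V₂ := le_sup_right

theorem V₁_ne : V₁ ≠ V₂ := by
  intro h
  have h1 := C.hi
  rw [← h, inf_idem] at h1
  have h2 := C.h₁.card
  rw [h1, Subgroup.card_bot] at h2
  norm_num at h2

theorem S_le_D : V₁ ⊔ V₂ ≤ Nm V₁ ⊓ Nm (V₁ ⊔ V₂) := by
  refine le_inf ?_ (self_le_Nm _)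
  rw [le_Nm]
  intro x hx y hy
  rw [C.comm hx (Ct.V₁_le hy), mul_inv_cancel_right]
  exact hy

theorem relIndex_S : (V₁ ⊔ V₂).relIndex (Nm V₁ ⊓ Nm (V₁ ⊔ V₂)) = 9 := by
  have h := card_mul_relIndex C.S_le_D
  rw [C.card_S, C.hN] at h
  omega

theorem mem_S_of_comm {x : G} (h1 : ∀ y ∈ V₁, x * y = y * x) (h2 : ∀ y ∈ V₂, x * y = y * x) :
    x ∈ V₁ ⊔ V₂ := by
  apply C.hC
  rw [Subgroup.mem_centralizer_iff]
  intro y hy
  obtain ⟨a, ha, b, hb, rfl⟩ := C.mem_sup.1 hy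
  have e1 := h1 a ha
  have e2 := h2 b hb
  rw [← mul_assoc x, e1, mul_assoc, mul_assoc, e2]

theorem pow_nine {d : G} (hd : d ∈ Nm V₁ ⊓ Nm (V₁ ⊔ V₂)) : d ^ 9 ∈ V₁ ⊔ V₂ := by
  have hn : ((V₁ ⊔ V₂).subgroupOf (Nm V₁ ⊓ Nm (V₁ ⊔ V₂))).Normal :=
    Subgroup.normal_subgroupOf_of_le_normalizer inf_le_right
  have h := Subgroup.pow_index_mem ((V₁ ⊔ V₂).subgroupOf (Nm V₁ ⊓ Nm (V₁ ⊔ V₂))) ⟨d, hd⟩
  have h9 : ((V₁ ⊔ V₂).subgroupOf (Nm V₁ ⊓ Nm (V₁ ⊔ V₂))).index = 9 := C.relIndex_S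
  rw [h9] at h
  exact h

theorem mem_of_sq {d : G} (hd : d ∈ Nm V₁ ⊓ Nm (V₁ ⊔ V₂)) (h2 : d * d ∈ V₁ ⊔ V₂) : d ∈ V₁ ⊔ V₂ := by
  have h3 : d = d ^ 9 * ((d * d) ^ 4)⁻¹ := by rw [← pow_two]; group
  rw [h3]
  exact mul_mem (C.pow_nine hd) (inv_mem (pow_mem h2 4))

/-- `D` contains an element of order three on `V₁` centralising `V₂` -/
theorem exists_t : ∃ t ∈ Nm V₁ ⊓ Nm (V₁ ⊔ V₂), t ∉ V₁ ⊔ V₂ ∧ ∀ x ∈ V₂, t * x = x * t := by
  classical
  obtain ⟨b, hb, hb1⟩ := exists_ne_one C.h₂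
  have hfin2 : Finite V₂ := Nat.finite_of_card_ne_zero (by rw [C.h₂.card]; norm_num)
  let D := Nm V₁ ⊓ Nm (V₁ ⊔ V₂)
  have hDm : ∀ d : D, (d : G) * b * (d : G)⁻¹ ∈ V₂ := fun d =>
    (Subgroup.mem_normalizer_iff.1 (C.hD d.2) b).1 hb
  let f : (D ⧸ (V₁ ⊔ V₂).subgroupOf D) → V₂ := fun q => ⟨(q.out : G) * b * (q.out : G)⁻¹, hDm q.out⟩
  have hf : ¬ Function.Injective f := by
    intro hf
    have h1 := Nat.card_le_card_of_injective f hf
    rw [C.h₂.card] at h1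
    have h2 : Nat.card (D ⧸ (V₁ ⊔ V₂).subgroupOf D) = 9 := C.relIndex_S
    omega
  rw [Function.not_injective_iff] at hf
  obtain ⟨q, q', hqq, hne⟩ := hf
  have h1 : (q.out : G) * b * (q.out : G)⁻¹ = (q'.out : G) * b * (q'.out : G)⁻¹ := congrArg Subtype.val hqq
  refine ⟨(q.out : G)⁻¹ * (q'.out : G), mul_mem (inv_mem q.out.2) q'.out.2, ?_, ?_⟩
  · intro h2
    apply hne
    have h3 : (q.out)⁻¹ * q'.out ∈ (V₁ ⊔ V₂).subgroupOf D := h2
    have h4 := (QuotientGroup.eq (s := (V₁ ⊔ V₂).subgroupOf D)).2 h3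
    have h5 : ((q.out : D) : D ⧸ (V₁ ⊔ V₂).subgroupOf D) = q := Quotient.out_eq' q
    have h6 : ((q'.out : D) : D ⧸ (V₁ ⊔ V₂).subgroupOf D) = q' := Quotient.out_eq' q'
    rw [h5, h6] at h4
    exact h4
  · have hd : (q.out : G)⁻¹ * (q'.out : G) ∈ D := mul_mem (inv_mem q.out.2) q'.out.2
    refine fix_all C.h₂ (fun x hx => (Subgroup.mem_normalizer_iff.1 (C.hD hd) x).1 hx)
      (fun x hx => C.comm (C.pow_nine hd) (Ct.V₂_le hx)) hb hb1 ?_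
    have h2 : (q'.out : G) * b = (q.out : G) * b * (q.out : G)⁻¹ * (q'.out : G) := by
      rw [h1]; group
    calc (q.out : G)⁻¹ * (q'.out : G) * b = (q.out : G)⁻¹ * ((q'.out : G) * b) := by rw [mul_assoc]
      _ = b * ((q.out : G)⁻¹ * (q'.out : G)) := by rw [h2]; group

theorem tr1 {a a' : G} (ha : a ∈ V₁) (ha' : a' ∈ V₁) (ha1 : a ≠ 1) (ha1' : a' ≠ 1) :
    ∃ r ∈ Nm V₁ ⊓ Nm (V₁ ⊔ V₂), r * a * r⁻¹ = a' ∧ ∀ x ∈ V₂, r * x = x * r := by
  obtain ⟨t, ht, htS, htc⟩ := C.exists_t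
  -- `t` and `t ^ 2` have no fixed points on `V₁`
  have hfpf : ∀ s ∈ Nm V₁ ⊓ Nm (V₁ ⊔ V₂), s ∉ V₁ ⊔ V₂ → (∀ x ∈ V₂, s * x = x * s) →
      ∀ x ∈ V₁, x ≠ 1 → s * x * s⁻¹ ≠ x := by
    intro s hs hsS hsc x hx hx1 h
    apply hsS
    apply C.mem_S_of_comm _ hsc
    exact fix_all C.h₁ (fun y hy => (Subgroup.mem_normalizer_iff.1 hs.1 y).1 hy)
      (fun y hy => C.comm (C.pow_nine hs) (Ct.V₁_le hy)) hx hx1 (mul_inv_eq_iff_eq_mul.1 h)
  have ht2 : t ^ 2 ∈ Nm V₁ ⊓ Nm (V₁ ⊔ V₂) := pow_mem ht 2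
  have ht2S : t ^ 2 ∉ V₁ ⊔ V₂ := by
    intro h
    rw [pow_two] at h
    exact htS (C.mem_of_sq ht h)
  have ht2c : ∀ x ∈ V₂, t ^ 2 * x = x * t ^ 2 := fun x hx => by
    have h : Commute t x := htc x hx
    exact h.pow_left 2
  have hn : ∀ x ∈ V₁, t * x * t⁻¹ ∈ V₁ := fun x hx => (Subgroup.mem_normalizer_iff.1 ht.1 x).1 hx
  have hta := hn a ha
  have hta1 : t * a * t⁻¹ ≠ 1 := fun h => ha1 (by simpa using h)
  have hne : a ≠ t * a * t⁻¹ := fun h => hfpf t ht htS htc a ha ha1 h.symm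
  rcases four C.h₁ ha hta ha1 hta1 hne ha' with h | h | h | h
  · exact absurd h ha1'
  · exact ⟨1, one_mem _, by rw [h]; group, fun x _ => by rw [one_mul, mul_one]⟩
  · exact ⟨t, ht, h.symm, htc⟩
  · refine ⟨t ^ 2, ht2, ?_, ht2c⟩
    have h1 : t ^ 2 * a * (t ^ 2)⁻¹ = t * (t * a * t⁻¹) * t⁻¹ := by rw [pow_two]; group
    have h2 := hn _ hta
    rw [← h1] at h2
    rcases four C.h₁ ha hta ha1 hta1 hne h2 with h3 | h3 | h3 | h3
    · exact absurd (by simpa using h3) ha1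
    · exact absurd h3 (hfpf _ ht2 ht2S ht2c a ha ha1)
    · rw [h1] at h3
      exact absurd h3 (hfpf t ht htS htc _ hta hta1)
    · rw [h3, h]

theorem cj_inv : cj g⁻¹ V₂ = V₁ := by rw [← C.hg₁, cj_inv_cj]

theorem g_conj {x : G} (hx : x ∈ V₁) : g * x * g⁻¹ ∈ V₂ := by
  rw [← C.hg₁]; exact conj_mem_cj.2 hx

theorem g_conj' {x : G} (hx : x ∈ V₂) : g * x * g⁻¹ ∈ V₁ := by
  rw [← C.hg₂]; exact conj_mem_cj.2 hx

theorem g_inv_conj {x : G} (hx : x ∈ V₂) : g⁻¹ * x * g ∈ V₁ := by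
  rw [← C.hg₁] at hx; exact mem_cj.1 hx

theorem g_inv_conj' {x : G} (hx : x ∈ V₁) : g⁻¹ * x * g ∈ V₂ := by
  rw [← C.hg₂] at hx; exact mem_cj.1 hx

theorem tr2 {a a' : G} (ha : a ∈ V₂) (ha' : a' ∈ V₂) (ha1 : a ≠ 1) (ha1' : a' ≠ 1) :
    ∃ r ∈ Nm (V₁ ⊔ V₂), r * a * r⁻¹ = a' ∧ (∀ x ∈ V₂, r * x * r⁻¹ ∈ V₂) ∧ ∀ x ∈ V₁, r * x = x * r := by
  obtain ⟨r, hr, hr1, hr2⟩ := C.tr1 (C.g_inv_conj ha) (C.g_inv_conj ha')
    (fun h => ha1 (by
      have h1 : a = g * (g⁻¹ * a * g) * g⁻¹ := by group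
      rw [h1, h]; group))
    (fun h => ha1' (by
      have h1 : a' = g * (g⁻¹ * a' * g) * g⁻¹ := by group
      rw [h1, h]; group))
  refine ⟨g * r * g⁻¹, mul_mem (mul_mem C.g_mem hr.2) (inv_mem C.g_mem), ?_, ?_, ?_⟩
  · have h1 : g * r * g⁻¹ * a * (g * r * g⁻¹)⁻¹ = g * (r * (g⁻¹ * a * g) * r⁻¹) * g⁻¹ := by group
    rw [h1, hr1]; group
  · intro x hx
    have h1 : g * r * g⁻¹ * x * (g * r * g⁻¹)⁻¹ = g * (r * (g⁻¹ * x * g) * r⁻¹) * g⁻¹ := by group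
    rw [h1]
    exact C.g_conj ((Subgroup.mem_normalizer_iff.1 hr.1 _).1 (C.g_inv_conj hx))
  · intro x hx
    have h1 := hr2 _ (C.g_inv_conj' hx)
    calc g * r * g⁻¹ * x = g * (r * (g⁻¹ * x * g)) * g⁻¹ := by group
      _ = x * (g * r * g⁻¹) := by rw [h1]; group

/-- conjugation on `S` -/
def rho (S : Subgroup G) : ↥(Nm S) →* Equiv.Perm (Additive ↥S) where
  toFun n :=
    { toFun := fun x => Additive.ofMul ⟨(n : G) * (Additive.toMul x : S) * (n : G)⁻¹,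
        (Subgroup.mem_normalizer_iff.1 n.2 _).1 (Additive.toMul x).2⟩
      invFun := fun x => Additive.ofMul ⟨(n : G)⁻¹ * (Additive.toMul x : S) * (n : G), by
        have := (Subgroup.mem_normalizer_iff.1 (inv_mem n.2) _).1 (Additive.toMul x).2
        rwa [inv_inv] at this⟩
      left_inv := fun x => by
        apply Additive.toMul.injective
        apply Subtype.ext
        change (n : G)⁻¹ * ((n : G) * (Additive.toMul x : S) * (n : G)⁻¹) * (n : G) = (Additive.toMul x : S)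
        group
      right_inv := fun x => by
        apply Additive.toMul.injective
        apply Subtype.ext
        change (n : G) * ((n : G)⁻¹ * (Additive.toMul x : S) * (n : G)) * (n : G)⁻¹ = (Additive.toMul x : S)
        group }
  map_one' := by
    apply Equiv.ext
    intro x
    apply Additive.toMul.injective
    apply Subtype.ext
    change (1 : G) * (Additive.toMul x : S) * (1 : G)⁻¹ = (Additive.toMul x : S)
    group
  map_mul' m n := by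
    apply Equiv.ext
    intro x
    apply Additive.toMul.injective
    apply Subtype.ext
    change ((m : G) * (n : G)) * (Additive.toMul x : S) * ((m : G) * (n : G))⁻¹ =
      (m : G) * ((n : G) * (Additive.toMul x : S) * (n : G)⁻¹) * (m : G)⁻¹
    group

omit C in
theorem rho_val {S : Subgroup G} (n : ↥(Nm S)) (x : Additive ↥S) :
    ((Additive.toMul (rho S n x) : S) : G) = (n : G) * (Additive.toMul x : S) * (n : G)⁻¹ := rfl

/-- the commutative group structure of `S` -/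
abbrev cg : CommGroup ↥(V₁ ⊔ V₂) :=
  { (inferInstance : Group ↥(V₁ ⊔ V₂)) with
    mul_comm := fun x y => Subtype.ext (C.comm x.2 y.2) }

/-- the additive version of `V ≤ S` -/
def ad (S V : Subgroup G) : AddSubgroup (Additive ↥S) := Subgroup.toAddSubgroup (V.subgroupOf S)

omit C in
theorem mem_ad {S V : Subgroup G} {x : Additive ↥S} : x ∈ ad S V ↔ ((Additive.toMul x : S) : G) ∈ V := Iff.rfl

theorem rho_eq_one {n : ↥(Nm (V₁ ⊔ V₂))} (h : rho (V₁ ⊔ V₂) n = 1) : (n : G) ∈ V₁ ⊔ V₂ := by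
  have key : ∀ y ∈ V₁ ⊔ V₂, (n : G) * y = y * n := by
    intro y hy
    have h1 := rho_val n (Additive.ofMul (⟨y, hy⟩ : ↥(V₁ ⊔ V₂)))
    rw [h] at h1
    have h2 : y = (n : G) * y * (n : G)⁻¹ := h1
    exact (mul_inv_eq_iff_eq_mul.1 h2.symm)
  exact C.mem_S_of_comm (fun y hy => key y (Ct.V₁_le hy)) (fun y hy => key y (Ct.V₂_le hy))

theorem rho_of_mem {n : ↥(Nm (V₁ ⊔ V₂))} (h : (n : G) ∈ V₁ ⊔ V₂) : rho (V₁ ⊔ V₂) n = 1 := by
  apply Equiv.ext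
  intro x
  apply Additive.toMul.injective
  apply Subtype.ext
  rw [rho_val, C.comm h (Additive.toMul x).2, mul_inv_cancel_right]
  rfl

theorem cx : letI := C.cg
    Cx (ad (V₁ ⊔ V₂) V₁) (ad (V₁ ⊔ V₂) V₂) (rho (V₁ ⊔ V₂)).range := by
  let _ := C.cg
  have hmk : ∀ x : Additive ↥(V₁ ⊔ V₂), ((Additive.toMul x : ↥(V₁ ⊔ V₂)) : G) = 1 ↔ x = 0 := by
    intro x
    constructor
    · intro h
      apply Additive.toMul.injective
      exact Subtype.ext h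
    · rintro rfl; rfl
  have hext : ∀ x y : Additive ↥(V₁ ⊔ V₂),
      ((Additive.toMul x : ↥(V₁ ⊔ V₂)) : G) = ((Additive.toMul y : ↥(V₁ ⊔ V₂)) : G) → x = y := by
    intro x y h
    apply Additive.toMul.injective
    exact Subtype.ext h
  refine ⟨?_, ?_, ?_, ?_, ?_, ?_, ?_, ?_, ?_, ?_, ?_, ?_⟩
  · rintro _ ⟨n, rfl⟩ x y
    apply hext
    change (n : G) * (((Additive.toMul x : ↥(V₁ ⊔ V₂)) : G) * ((Additive.toMul y : ↥(V₁ ⊔ V₂)) : G)) * (n : G)⁻¹ =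
      ((n : G) * ((Additive.toMul x : ↥(V₁ ⊔ V₂)) : G) * (n : G)⁻¹) *
        ((n : G) * ((Additive.toMul y : ↥(V₁ ⊔ V₂)) : G) * (n : G)⁻¹)
    group
  · intro x
    apply hext
    exact C.sq (Additive.toMul x).2
  · intro x
    obtain ⟨a, ha, b, hb, hab⟩ := C.mem_sup.1 (Additive.toMul x).2
    refine ⟨Additive.ofMul ⟨a, Ct.V₁_le ha⟩, ha, Additive.ofMul ⟨b, Ct.V₂_le hb⟩, hb, ?_⟩
    apply hext
    exact hab.symm
  · intro x h1 h2
    exact (hmk x).1 (C.one_of_mem h1 h2)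
  · intro a ha b hb ha0 hb0 hab c hc
    rcases four C.h₁ ha hb (fun h => ha0 ((hmk a).1 h)) (fun h => hb0 ((hmk b).1 h))
      (fun h => hab (hext _ _ h)) hc with h | h | h | h
    · exact Or.inl ((hmk c).1 h)
    · exact Or.inr (Or.inl (hext _ _ h))
    · exact Or.inr (Or.inr (Or.inl (hext _ _ h)))
    · exact Or.inr (Or.inr (Or.inr (hext _ _ h)))
  · intro a ha b hb ha0 hb0 hab c hc
    rcases four C.h₂ ha hb (fun h => ha0 ((hmk a).1 h)) (fun h => hb0 ((hmk b).1 h))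
      (fun h => hab (hext _ _ h)) hc with h | h | h | h
    · exact Or.inl ((hmk c).1 h)
    · exact Or.inr (Or.inl (hext _ _ h))
    · exact Or.inr (Or.inr (Or.inl (hext _ _ h)))
    · exact Or.inr (Or.inr (Or.inr (hext _ _ h)))
  · intro a ha _
    obtain ⟨b, hb, hb1, hab⟩ := exists_ne_two C.h₁ ha
    refine ⟨Additive.ofMul ⟨b, Ct.V₁_le hb⟩, hb, fun h => hb1 ((hmk _).2 h), fun h => hab ?_⟩
    exact congrArg (fun z : Additive ↥(V₁ ⊔ V₂) => ((Additive.toMul z : ↥(V₁ ⊔ V₂)) : G)) h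
  · intro a ha _
    obtain ⟨b, hb, hb1, hab⟩ := exists_ne_two C.h₂ ha
    refine ⟨Additive.ofMul ⟨b, Ct.V₂_le hb⟩, hb, fun h => hb1 ((hmk _).2 h), fun h => hab ?_⟩
    exact congrArg (fun z : Additive ↥(V₁ ⊔ V₂) => ((Additive.toMul z : ↥(V₁ ⊔ V₂)) : G)) h
  · intro a ha a' ha' ha0 ha0'
    obtain ⟨r, hr, hr1, hr2⟩ := C.tr1 ha ha' (fun h => ha0 ((hmk a).1 h)) (fun h => ha0' ((hmk a').1 h))
    refine ⟨rho (V₁ ⊔ V₂) ⟨r, hr.2⟩, ⟨_, rfl⟩, hext _ _ hr1, ?_, ?_⟩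
    · intro x hx
      exact (Subgroup.mem_normalizer_iff.1 hr.1 _).1 hx
    · intro x hx
      apply hext
      rw [rho_val]
      exact mul_inv_eq_iff_eq_mul.2 (hr2 _ hx)
  · intro a ha a' ha' ha0 ha0'
    obtain ⟨r, hr, hr1, hrm, hr2⟩ := C.tr2 ha ha' (fun h => ha0 ((hmk a).1 h)) (fun h => ha0' ((hmk a').1 h))
    refine ⟨rho (V₁ ⊔ V₂) ⟨r, hr⟩, ⟨_, rfl⟩, hext _ _ hr1, ?_, ?_⟩
    · intro x hx
      exact hrm _ hx
    · intro x hx
      apply hext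
      rw [rho_val]
      exact mul_inv_eq_iff_eq_mul.2 (hr2 _ hx)
  · refine ⟨rho (V₁ ⊔ V₂) ⟨g, C.g_mem⟩, ⟨_, rfl⟩, ?_, ?_⟩
    · intro a ha
      exact C.g_conj ha
    · intro b hb
      exact C.g_inv_conj hb
  · rintro _ ⟨n, rfl⟩ h1 h2
    have hn1 : (n : G) ∈ Nm V₁ := by
      have hfin : Finite V₁ := Nat.finite_of_card_ne_zero (by rw [C.h₁.card]; norm_num)
      rw [mem_Nm]
      have hle : cj (n : G) V₁ ≤ V₁ := by
        intro y hy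
        rw [mem_cj] at hy
        have h3 := h1 (Additive.ofMul ⟨(n : G)⁻¹ * y * n, Ct.V₁_le hy⟩) hy
        have h4 : (n : G) * ((n : G)⁻¹ * y * n) * (n : G)⁻¹ ∈ V₁ := h3
        have h5 : (n : G) * ((n : G)⁻¹ * y * n) * (n : G)⁻¹ = y := by group
        rwa [h5] at h4
      exact Subgroup.eq_of_le_of_card_ge hle (by rw [card_cj])
    have hnD : (n : G) ∈ Nm V₁ ⊓ Nm (V₁ ⊔ V₂) := ⟨hn1, n.2⟩
    rw [← map_mul] at h2
    exact C.rho_of_mem (C.mem_of_sq hnD (C.rho_eq_one h2))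

theorem g_not : g ∉ Nm V₁ := by
  intro h
  rw [mem_Nm, C.hg₁] at h
  exact C.V₁_ne h.symm

theorem g_sq : g * g ∈ Nm V₁ ⊓ Nm (V₁ ⊔ V₂) := by
  exact ⟨mem_Nm.2 (by rw [cj_mul, C.hg₁, C.hg₂]), mul_mem C.g_mem C.g_mem⟩

/-- an element interchanging `V₁` and `V₂` with square in `S` -/
theorem exists_x : ∃ x ∈ Nm (V₁ ⊔ V₂), x * x ∈ V₁ ⊔ V₂ ∧ cj x V₁ = V₂ ∧ cj x V₂ = V₁ := by
  have h1 : ∀ k : ℕ, cj (g ^ (2 * k + 1)) V₁ = V₂ ∧ cj (g ^ (2 * k + 1)) V₂ = V₁ := by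
    intro k
    have h2 : (g * g) ^ k ∈ Nm V₁ ⊓ Nm (V₁ ⊔ V₂) := pow_mem C.g_sq k
    have h3 : g ^ (2 * k + 1) = g * (g * g) ^ k := by rw [← pow_two, ← pow_mul, pow_succ']
    rw [h3, cj_mul, cj_mul, cj_of_mem_Nm h2.1, cj_of_mem_Nm (C.hD h2)]
    exact ⟨C.hg₁, C.hg₂⟩
  refine ⟨g ^ 9, pow_mem C.g_mem 9, ?_, (h1 4).1, (h1 4).2⟩
  have h2 : g ^ 9 * g ^ 9 = (g * g) ^ 9 := by rw [(Commute.refl g).mul_pow]
  rw [h2]
  exact C.pow_nine C.g_sq

/-- `N_G(S)` permutes `V₁` and `V₂` -/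
theorem perm {n : G} (hn : n ∈ Nm (V₁ ⊔ V₂)) : cj n V₁ = V₁ ∨ cj n V₁ = V₂ := by
  obtain ⟨x, hx, hx2, hxV, -⟩ := C.exists_x
  have hfin : Finite V₁ := Nat.finite_of_card_ne_zero (by rw [C.h₁.card]; norm_num)
  have hfin2 : Finite V₂ := Nat.finite_of_card_ne_zero (by rw [C.h₂.card]; norm_num)
  let _ := C.cg
  have hu2 : rho (V₁ ⊔ V₂) ⟨x, hx⟩ * rho (V₁ ⊔ V₂) ⟨x, hx⟩ = 1 := by
    rw [← map_mul]
    exact C.rho_of_mem hx2
  have hu1 : rho (V₁ ⊔ V₂) ⟨x, hx⟩ ≠ 1 := by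
    intro h
    have h1 := C.rho_eq_one h
    have h2 : cj x V₁ = V₁ := mem_Nm.1 (C.S_le_D h1).1
    rw [hxV] at h2
    exact C.V₁_ne h2.symm
  have h := C.cx.perm ⟨_, rfl⟩ hu2 hu1 (h := rho (V₁ ⊔ V₂) ⟨n, hn⟩) ⟨_, rfl⟩
  have key : ∀ V : Subgroup G, (∀ a ∈ ad (V₁ ⊔ V₂) V₁, rho (V₁ ⊔ V₂) ⟨n, hn⟩ a ∈ ad (V₁ ⊔ V₂) V) → cj n V₁ ≤ V := by
    intro V h1 y hy
    rw [mem_cj] at hy
    have h3 := h1 (Additive.ofMul ⟨n⁻¹ * y * n, Ct.V₁_le hy⟩) hy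
    have h4 : n * (n⁻¹ * y * n) * n⁻¹ ∈ V := h3
    have h5 : n * (n⁻¹ * y * n) * n⁻¹ = y := by group
    rwa [h5] at h4
  rcases h with h | h
  · left
    exact Subgroup.eq_of_le_of_card_ge (key _ h) (by rw [card_cj])
  · right
    exact Subgroup.eq_of_le_of_card_ge (key _ h) (by rw [card_cj, C.h₁.card, C.h₂.card])

end Ct

end Cfsg.Agent.H982.Five720
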