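import Cfsg.Agent.H54.PQ.Defs
import Cfsg.Agent.Blocks.BrauerHom
import Cfsg.Agent.Blocks.ExtendedFMT
import Cfsg.Agent.H593.GlaubermanP
import Cfsg.Agent.Blocks.FullDefect

/-!
# S4981, LEMMA N, part 1: invariant characters in induced blocks (helper982)
-/

set_option autoImplicit false
set_option linter.unusedSectionVars false
set_option linter.style.haveILetI false

namespace Cfsg.Agent.H982.LN

open Subgroup Cfsg
open scoped ComplexConjugate
open Cfsg.Agent.Blocks.Local
open Cfsg.Agent.Blocks.ConvCentral (lin lin_def irr_one_ne_zero)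
open Cfsg.Agent.Blocks.ExtendedFMT (compIrr compIrr_apply)

universe u v

/-! ### the sums over representatives -/

section Sums

variable {K : Type u} [Group K] [Fintype K]

theorem exists_T : ∃ T : Finset K, ∀ f : K → ℂ, IsClassFunction K f →
    (∀ χ : K → ℂ, IsClassFunction K χ → lin χ f / χ 1 = ∑ t ∈ T, f t * centralChar χ t) ∧
    ∀ (L : Subgroup K) [Fintype L] (ξ : L → ℂ),
      (∑ l : L, f l * ξ l) / ξ 1 = ∑ t ∈ T, f t * inducedCentralChar L ξ t := by
  classical
  obtain ⟨T, hT⟩ := Cfsg.Agent.Blocks.ClassSum.exists_reps (G := K)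
  refine ⟨T, fun f hf => ⟨fun χ hχ => ?_, fun L _ ξ => ?_⟩⟩
  · rw [lin_def, Finset.sum_div]
    have h1 := hT f (fun g => χ g / χ 1) hf
    simp only [← mul_div_assoc] at h1
    rw [h1]
    refine Finset.sum_congr rfl fun t _ => ?_
    rw [Cfsg.Agent.Blocks.ClassSum.finsum_conj_div hχ]
  · have h1 := hT f (fun g => extendByZero L ξ g / ξ 1) hf
    have h2 : (∑ l : L, f l * ξ l) / ξ 1 = ∑ g : K, f g * (extendByZero L ξ g / ξ 1) := by
      rw [Finset.sum_div, ← Finset.sum_subset (Finset.subset_univ (Finset.univ.map (⟨Subtype.val, Subtype.val_injective⟩ : L ↪ K))),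
        Finset.sum_map]
      · refine Finset.sum_congr rfl fun l _ => ?_
        simp only [Function.Embedding.coeFn_mk]
        rw [Cfsg.Agent.Blocks.ClassSum.extendByZero_coe', mul_div_assoc]
      · intro x _ hx
        have hx' : x ∉ L := fun h => hx (Finset.mem_map.2 ⟨⟨x, h⟩, Finset.mem_univ _, rfl⟩)
        rw [Cfsg.Agent.Blocks.ClassSum.extendByZero_of_notMem' L ξ hx', zero_div, mul_zero]
    rw [h2, h1]
    refine Finset.sum_congr rfl fun t _ => ?_
    rw [Cfsg.Agent.Blocks.ClassSum.finsum_conj_extend]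

end Sums

/-! ### the action on characters -/

/-- `MulAut K` acts on the irreducible characters -/
@[reducible] def irrAct (K : Type u) [Group K] : MulAction (MulAut K) (IrrCharacter K) where
  smul a χ := compIrr (a⁻¹ : MulAut K) χ
  one_smul χ := Subtype.ext (funext fun x => by
    show (compIrr ((1 : MulAut K)⁻¹ : MulAut K) χ : K → ℂ) x = _
    rw [compIrr_apply]; simp)
  mul_smul a b χ := Subtype.ext (funext fun x => by
    show (compIrr ((a * b : MulAut K)⁻¹ : MulAut K) χ : K → ℂ) x =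
      (compIrr (a⁻¹ : MulAut K) (compIrr (b⁻¹ : MulAut K) χ) : K → ℂ) x
    rw [compIrr_apply, compIrr_apply, compIrr_apply, mul_inv_rev]; rfl)

section Main

variable {K : Type u} [Group K] [Finite K] {p : ℕ} [Fact p.Prime] {M : Ideal AlgInt}

/-- the degree of the part of the induced character in a block -/
theorem sum_block (hM : IsPModular p M) {L : Subgroup K} (hL : ¬ p ∣ L.index) (η : IrrCharacter L)
    (hη : ¬ p ∣ charDegree (η : L → ℂ)) (χ₀ : IrrCharacter K)
    (h0 : ∀ g, MemLocalIdeal M (inducedCentralChar L (η : L → ℂ) g - centralChar (χ₀ : K → ℂ) g))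
    [Fintype (IrrCharacter K)] {B : Set (IrrCharacter K)} (hB : B = blockOf M (χ₀ : K → ℂ)) [DecidablePred (· ∈ B)]
    (m : IrrCharacter K → ℕ)
    (hm : letI := Fintype.ofFinite L; ∀ χ : IrrCharacter K, classInner (η : L → ℂ) (fun l : L => (χ : K → ℂ) l) = m χ) :
    ¬ p ∣ ∑ χ ∈ Finset.univ.filter (· ∈ B), charDegree (χ : K → ℂ) * m χ := by
  classical
  letI := Fintype.ofFinite L
  letI := Fintype.ofFinite K
  have hprime := isPrime_of_isPModular hM
  have hBb : IsPBlock M B := ⟨χ₀, hB⟩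
  have h0B : χ₀ ∈ B := by rw [hB]; exact Cfsg.Agent.Blocks.Osima.sameBlock_refl hM _
  have hzR : ∀ g, MemLocalRing M (blockCoeff B g) := Cfsg.Agent.Blocks.Osima.memLocalRing_blockCoeff hM hBb
  have hzc : IsClassFunction K (blockCoeff B) := Cfsg.Agent.Blocks.Osima.isClassFunction_blockCoeff B
  obtain ⟨T, hT⟩ := exists_T (K := K)
  obtain ⟨h1, h2⟩ := hT _ hzc
  have h1' := h1 (χ₀ : K → ℂ) (Cfsg.Agent.Blocks.Basic.irr_isClassFunction χ₀.2)
  have h2' := h2 L (η : L → ℂ)
  have h3 : lin (χ₀ : K → ℂ) (blockCoeff B) / (χ₀ : K → ℂ) 1 = 1 := by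
    rw [Cfsg.Agent.Blocks.BlockIdem.lin_blockCoeff, if_pos h0B, div_self (irr_one_ne_zero χ₀.2)]
  -- the congruence
  have h4 : MemLocalIdeal M ((∑ l : L, blockCoeff B l * (η : L → ℂ) l) / (η : L → ℂ) 1 - 1) := by
    rw [← h3, h1', h2', ← Finset.sum_sub_distrib]
    refine memLocalIdeal_sum fun t _ => ?_
    rw [← mul_sub]
    exact memLocalIdeal_mul_left (hzR t) (h0 t)
  -- the sum
  have h5 : (∑ l : L, blockCoeff B l * (η : L → ℂ) l) * (L.index : ℂ) =
      ((∑ χ ∈ Finset.univ.filter (· ∈ B), charDegree (χ : K → ℂ) * m χ : ℕ) : ℂ) := by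
    have h6 : ∀ g : K, blockCoeff B g = (Nat.card K : ℂ)⁻¹ *
        ∑ ψ ∈ Finset.univ.filter (· ∈ B), (ψ : K → ℂ) 1 * conj ((ψ : K → ℂ) g) := by
      intro g
      rw [Cfsg.Agent.Blocks.Basic.blockCoeff_def,
        Cfsg.Agent.Blocks.ExtendedFMT.finsum_mem_eq_sum_filter']
    have h7 : ∀ χ : IrrCharacter K, ∑ l : L, (η : L → ℂ) l * conj ((χ : K → ℂ) l) = (Nat.card L : ℂ) * m χ := by
      intro χ
      rw [← hm χ, Cfsg.Agent.Characters.Core.classInner_def, ← mul_assoc,
        mul_inv_cancel₀ Cfsg.Agent.Characters.Core.card_ne_zero_complex, one_mul]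
    have h8 : ∑ l : L, blockCoeff B l * (η : L → ℂ) l = (Nat.card K : ℂ)⁻¹ *
        ∑ ψ ∈ Finset.univ.filter (· ∈ B), (ψ : K → ℂ) 1 * ((Nat.card L : ℂ) * m ψ) := by
      rw [Finset.mul_sum]
      have : ∀ l : L, blockCoeff B l * (η : L → ℂ) l =
          ∑ ψ ∈ Finset.univ.filter (· ∈ B), (Nat.card K : ℂ)⁻¹ * ((ψ : K → ℂ) 1 * ((η : L → ℂ) l * conj ((ψ : K → ℂ) l))) := by
        intro l
        rw [h6, Finset.mul_sum, Finset.sum_mul]
        exact Finset.sum_congr rfl fun ψ _ => by ring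
      rw [Finset.sum_congr rfl fun l _ => this l, Finset.sum_comm]
      refine Finset.sum_congr rfl fun ψ _ => ?_
      rw [← Finset.mul_sum, ← Finset.mul_sum, h7]
    have h9 : (Nat.card K : ℂ) = (Nat.card L : ℂ) * (L.index : ℂ) := by
      rw [← Nat.cast_mul, L.card_mul_index]
    have hK0 : (Nat.card K : ℂ) ≠ 0 := Cfsg.Agent.Characters.Core.card_ne_zero_complex
    rw [h8]
    push_cast
    rw [mul_assoc, mul_comm _ (L.index : ℂ), ← mul_assoc, Finset.mul_sum]
    refine Finset.sum_congr rfl fun ψ _ => ?_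
    rw [Cfsg.Agent.Blocks.Basic.irr_one_eq_charDegree ψ.2, h9]
    rw [h9] at hK0
    have hL0 : (Nat.card L : ℂ) ≠ 0 := left_ne_zero_of_mul hK0
    have hI0 : (L.index : ℂ) ≠ 0 := right_ne_zero_of_mul hK0
    field_simp
  intro hdvd
  have h6 := (memLocalIdeal_natCast_iff hM _).2 hdvd
  rw [← h5] at h6
  have hη1 : (η : L → ℂ) 1 = (charDegree (η : L → ℂ) : ℂ) := Cfsg.Agent.Blocks.Basic.irr_one_eq_charDegree η.2
  have hη0 := irr_one_ne_zero η.2
  -- `index * η(1)` in the ideal
  have h7 : MemLocalIdeal M (((L.index * charDegree (η : L → ℂ) : ℕ) : ℂ)) := by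
    have h8 := memLocalIdeal_mul_left (memLocalRing_natCast (M := M) (L.index * charDegree (η : L → ℂ))) h4
    have h9 : ((L.index * charDegree (η : L → ℂ) : ℕ) : ℂ) *
        ((∑ l : L, blockCoeff B l * (η : L → ℂ) l) / (η : L → ℂ) 1 - 1) =
        (∑ l : L, blockCoeff B l * (η : L → ℂ) l) * (L.index : ℂ) - ((L.index * charDegree (η : L → ℂ) : ℕ) : ℂ) := by
      push_cast
      rw [← hη1]
      field_simp
    rw [h9] at h8
    have h10 := memLocalIdeal_sub h6 h8
    rwa [sub_sub_cancel] at h10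
  rw [memLocalIdeal_natCast_iff hM] at h7
  rcases ((Fact.out : p.Prime).dvd_mul).1 h7 with h8 | h8
  · exact hL h8
  · exact hη h8

/-- restriction of an automorphism -/
def resA (a : MulAut K) (L : Subgroup K) (h : L.map (a : MulAut K).toMonoidHom = L) : L ≃* L :=
  (a.subgroupMap L).trans (MulEquiv.subgroupCongr h)

theorem resA_coe (a : MulAut K) (L : Subgroup K) (h : L.map (a : MulAut K).toMonoidHom = L) (l : L) :
    ((resA a L h l : L) : K) = a l := rfl

theorem inducedCentralChar_comp (a : MulAut K) (L : Subgroup K) (h : L.map (a : MulAut K).toMonoidHom = L)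
    (ξ : L → ℂ) (hξ : ∀ l l' : L, (l' : K) = a l → ξ l' = ξ l) (g : K) :
    inducedCentralChar L ξ (a g) = inducedCentralChar L ξ g := by
  unfold inducedCentralChar
  symm
  refine finsum_mem_eq_of_bijOn (resA a L h) ⟨?_, ?_, ?_⟩ ?_
  · intro l hl
    obtain ⟨c, hc⟩ := isConj_iff.1 (show IsConj g (l : K) from hl)
    exact isConj_iff.2 ⟨a c, by rw [resA_coe, ← hc, map_mul, map_mul, map_inv]⟩
  · exact (resA a L h).injective.injOn
  · intro l hl
    obtain ⟨l', rfl⟩ := (resA a L h).surjective l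
    refine ⟨l', ?_, rfl⟩
    obtain ⟨c, hc⟩ := isConj_iff.1 (show IsConj (a g) ((resA a L h l' : L) : K) from hl)
    rw [resA_coe] at hc
    refine isConj_iff.2 ⟨a.symm c, a.injective ?_⟩
    rw [map_mul, map_mul, map_inv, MulEquiv.apply_symm_apply, hc]
  · intro l _
    rw [hξ l (resA a L h l) (resA_coe a L h l)]

theorem charDegree_compIrr {H : Type*} [Group H] (e : H ≃* H) (χ : IrrCharacter H) :
    charDegree (compIrr e χ : H → ℂ) = charDegree (χ : H → ℂ) := by
  unfold charDegree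
  rw [compIrr_apply, map_one]

theorem classInner_compIrr {L : Subgroup K} [Fintype L] (η : L → ℂ) (a : MulAut K)
    (h : L.map (a : MulAut K).toMonoidHom = L) (hη : ∀ l l' : L, (l' : K) = a l → η l' = η l) (χ : IrrCharacter K) :
    classInner η (fun l : L => (compIrr (a⁻¹ : MulAut K) χ : K → ℂ) l) =
      classInner η (fun l : L => (χ : K → ℂ) l) := by
  rw [Cfsg.Agent.Characters.Core.classInner_def, Cfsg.Agent.Characters.Core.classInner_def]
  congr 1
  rw [← Equiv.sum_comp (resA a L h).toEquiv]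
  refine Finset.sum_congr rfl fun l _ => ?_
  show η (resA a L h l) * conj ((compIrr (a⁻¹ : MulAut K) χ : K → ℂ) ((resA a L h l : L) : K)) = _
  rw [hη l (resA a L h l) (resA_coe a L h l), compIrr_apply, resA_coe]
  exact congrArg (fun z : K => (η : L → ℂ) l * conj ((χ : K → ℂ) z)) (a.symm_apply_apply _)

/-- **invariant characters in the induced block** -/
theorem exists_inv (hM : IsPModular p M) {L : Subgroup K} (hL : ¬ p ∣ L.index) (η : IrrCharacter L)
    (hη : ¬ p ∣ charDegree (η : L → ℂ)) {P : Subgroup (MulAut K)} (hP : IsPGroup p P)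
    (hPL : ∀ a ∈ P, L.map (a : MulAut K).toMonoidHom = L)
    (hinv : ∀ a ∈ P, ∀ l l' : L, (l' : K) = a l → (η : L → ℂ) l' = (η : L → ℂ) l) (χ₀ : IrrCharacter K)
    (h0 : ∀ g, MemLocalIdeal M (inducedCentralChar L (η : L → ℂ) g - centralChar (χ₀ : K → ℂ) g)) :
    ∃ χ : IrrCharacter K, ¬ p ∣ charDegree (χ : K → ℂ) ∧ (∀ a ∈ P, Cfsg.Agent.H54.PQ.InvF a (χ : K → ℂ)) ∧
      ∀ g, MemLocalIdeal M (inducedCentralChar L (η : L → ℂ) g - centralChar (χ : K → ℂ) g) := by
  classical
  letI := Fintype.ofFinite L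
  have : Finite (IrrCharacter K) := Cfsg.Agent.Characters.Core.finite_irr
  letI := Fintype.ofFinite (IrrCharacter K)
  have hprime := isPrime_of_isPModular hM
  letI := irrAct K
  obtain ⟨B, hB⟩ : ∃ B, B = blockOf M (χ₀ : K → ℂ) := ⟨_, rfl⟩
  have hm : ∀ χ : IrrCharacter K, ∃ m : ℕ, classInner (η : L → ℂ) (fun l : L => (χ : K → ℂ) l) = m := by
    intro χ
    exact Cfsg.Agent.Characters.Core.classInner_isNat (Cfsg.Agent.Characters.Core.isIrr_isCharacter η.2)
      (Cfsg.Agent.Characters.Core.isCharacter_comp L.subtype (Cfsg.Agent.Characters.Core.isIrr_isCharacter χ.2))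
  choose m hm using hm
  have hmain := sum_block hM hL η hη χ₀ h0 hB m hm
  have hBa : ∀ a ∈ P, ∀ χ : IrrCharacter K, compIrr (a⁻¹ : MulAut K) χ ∈ B ↔ χ ∈ B := by
    have h1 : ∀ a ∈ P, ∀ χ : IrrCharacter K, χ ∈ B → compIrr (a : MulAut K) χ ∈ B := by
      intro a ha χ hχ
      rw [hB] at hχ ⊢
      intro g
      have e1 : centralChar (compIrr (a : MulAut K) χ : K → ℂ) g = centralChar (χ : K → ℂ) (a g) :=
        Cfsg.Agent.Blocks.Covering.centralChar_comp_equiv a (χ : K → ℂ) g
      rw [e1]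
      have h2 := h0 (a g)
      rw [inducedCentralChar_comp a L (hPL a ha) _ (hinv a ha)] at h2
      have h3 := memLocalIdeal_sub (h0 g) h2
      have h4 : MemLocalIdeal M (centralChar (χ₀ : K → ℂ) (a g) - centralChar (χ : K → ℂ) (a g)) := hχ (a g)
      have h5 := memLocalIdeal_sub h4 h3
      convert h5 using 1
      ring
    intro a ha χ
    refine ⟨fun h => ?_, fun h => h1 _ (P.inv_mem ha) χ h⟩
    have h2 := h1 a ha _ h
    have h3 : compIrr (a : MulAut K) (compIrr (a⁻¹ : MulAut K) χ) = χ := by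
      refine Subtype.ext (funext fun x => ?_)
      rw [compIrr_apply, compIrr_apply]
      exact congrArg (χ : K → ℂ) (a.symm_apply_apply x)
    rwa [h3] at h2
  obtain ⟨A, hA⟩ := Cfsg.Agent.Blocks.OrbitSum.sum_eq_sum_fixed_add_smul (p := p) (Ω := IrrCharacter K) (P := P) (A := ℤ) hP
    (fun χ => if χ ∈ B then ((charDegree (χ : K → ℂ) * m χ : ℕ) : ℤ) else 0) (by
      rintro ⟨a, ha⟩ χ
      have e1 : (⟨a, ha⟩ : P) • χ = compIrr (a⁻¹ : MulAut K) χ := rfl
      rw [e1]
      by_cases h : χ ∈ B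
      · rw [if_pos h, if_pos ((hBa a ha χ).2 h), charDegree_compIrr]
        have h2 : m (compIrr (a⁻¹ : MulAut K) χ) = m χ := by
          have h3 := hm (compIrr (a⁻¹ : MulAut K) χ)
          rw [classInner_compIrr (η : L → ℂ) a (hPL a ha) (hinv a ha) χ, hm χ] at h3
          exact_mod_cast h3.symm
        rw [h2]
      · rw [if_neg h, if_neg (fun h' => h ((hBa a ha χ).1 h'))])
  -- some fixed term is nonzero modulo `p`
  have hex : ∃ χ ∈ Finset.univ.filter (· ∈ MulAction.fixedPoints P (IrrCharacter K)),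
      ¬ (p : ℤ) ∣ (if χ ∈ B then ((charDegree (χ : K → ℂ) * m χ : ℕ) : ℤ) else 0) := by
    by_contra hcon
    push Not at hcon
    apply hmain
    have h2 : (p : ℤ) ∣ ∑ χ : IrrCharacter K, (if χ ∈ B then ((charDegree (χ : K → ℂ) * m χ : ℕ) : ℤ) else 0) := by
      rw [hA]
      refine dvd_add (Finset.dvd_sum hcon) ?_
      rw [nsmul_eq_mul]
      exact Dvd.intro _ rfl
    rw [← Finset.sum_filter] at h2
    rw [← Int.natCast_dvd_natCast]
    push_cast at h2 ⊢
    exact h2
  obtain ⟨χ, hχ, hχ2⟩ := hex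
  have hfix := (Finset.mem_filter.1 hχ).2
  have hχB : χ ∈ B := by
    by_contra h
    rw [if_neg h] at hχ2
    exact hχ2 (dvd_zero _)
  rw [if_pos hχB, Int.natCast_dvd_natCast] at hχ2
  refine ⟨χ, fun h => hχ2 (h.mul_right _), ?_, ?_⟩
  · intro a ha g
    have h2 := hfix ⟨a, ha⟩
    have h3 : compIrr (a⁻¹ : MulAut K) χ = χ := h2
    have h4 := congrFun (congrArg Subtype.val h3) (a g)
    rw [compIrr_apply] at h4
    rw [← h4]
    exact congrArg (χ : K → ℂ) (a.symm_apply_apply g)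
  · intro g
    rw [hB] at hχB
    have h4 : MemLocalIdeal M (centralChar (χ₀ : K → ℂ) g - centralChar (χ : K → ℂ) g) := hχB g
    exact memLocalIdeal_sub_trans (h0 g) h4

end Main

end Cfsg.Agent.H982.LN
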