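import Cfsg.Prelude.Def_Transfer
import Mathlib

/-!
# S2187, row TRI-9 (NINE): groups (helper982)

`Nine p q` : `p`, `q` generate an elementary abelian group of order 9; `HasN x` : such a pair is fixed by `x`.
-/

set_option autoImplicit false

namespace Cfsg.Agent.H982.TriNine

open Cfsg

variable {G H : Type*} [Group G] [Group H]

/-- `p`, `q` generate an elementary abelian group of order 9. -/
structure Nine (p q : G) : Prop where
  comm : p * q = q * p
  p3 : p ^ 3 = 1
  q3 : q ^ 3 = 1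
  p1 : p ≠ 1
  q1 : q ∉ Subgroup.zpowers p

theorem Nine.map (f : G →* H) (hf : Function.Injective f) {p q : G} (h : Nine p q) : Nine (f p) (f q) where
  comm := by rw [← map_mul, ← map_mul, h.comm]
  p3 := by rw [← map_pow, h.p3, map_one]
  q3 := by rw [← map_pow, h.q3, map_one]
  p1 := fun h1 => h.p1 (hf (by rw [h1, map_one]))
  q1 := by
    rintro ⟨i, hi⟩
    change f p ^ i = f q at hi
    rw [← map_zpow] at hi
    exact h.q1 ⟨i, hf hi⟩

theorem Nine.exists_sub {p q : G} (h : Nine p q) :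
    ∃ A : Subgroup G, IsElementaryAbelian 3 A ∧ Nat.card ↥A = 9 ∧ A ≤ Subgroup.closure {p, q} := by
  have h3 : Fact (Nat.Prime 3) := ⟨Nat.prime_three⟩
  have hq0 : q ≠ 1 := fun h1 => h.q1 (by rw [h1]; exact one_mem _)
  have hp : orderOf p = 3 := orderOf_eq_prime h.p3 h.p1
  have hq : orderOf q = 3 := orderOf_eq_prime h.q3 hq0
  have hC : Commute p q := h.comm
  have hdis : Disjoint (Subgroup.zpowers p) (Subgroup.zpowers q) := by
    rw [disjoint_iff]
    by_contra hne
    have h1 : (Subgroup.zpowers p ⊓ Subgroup.zpowers q).subgroupOf (Subgroup.zpowers q) = ⊥ ∨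
        (Subgroup.zpowers p ⊓ Subgroup.zpowers q).subgroupOf (Subgroup.zpowers q) = ⊤ := by
      have hc : Nat.card ↥(Subgroup.zpowers q) = 3 := by rw [Nat.card_zpowers, hq]
      have : Fact (Nat.card ↥(Subgroup.zpowers q)).Prime := ⟨by rw [hc]; exact Nat.prime_three⟩
      exact Subgroup.eq_bot_or_eq_top_of_prime_card _
    rcases h1 with h1 | h1
    · apply hne
      rw [Subgroup.subgroupOf_eq_bot, disjoint_iff, inf_assoc, inf_idem] at h1
      exact h1
    · rw [Subgroup.subgroupOf_eq_top] at h1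
      exact h.q1 ((h1 (Subgroup.mem_zpowers q)).1)
  have hcomm : ∀ (x : ↥(Subgroup.zpowers p)) (y : ↥(Subgroup.zpowers q)),
      Commute ((Subgroup.zpowers p).subtype x) ((Subgroup.zpowers q).subtype y) := by
    rintro ⟨_, i, rfl⟩ ⟨_, j, rfl⟩
    exact (hC.zpow_zpow i j)
  set f := MonoidHom.noncommCoprod (Subgroup.zpowers p).subtype (Subgroup.zpowers q).subtype hcomm with hf
  have hinj : Function.Injective f := by
    rw [hf, MonoidHom.noncommCoprod_injective]
    refine ⟨Subgroup.subtype_injective _, Subgroup.subtype_injective _, ?_⟩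
    rw [Subgroup.range_subtype, Subgroup.range_subtype]
    exact hdis
  have hel : ∀ y ∈ f.range, ∃ i j : ℤ, y = p ^ i * q ^ j := by
    rintro _ ⟨⟨⟨_, i, rfl⟩, ⟨_, j, rfl⟩⟩, rfl⟩
    exact ⟨i, j, rfl⟩
  refine ⟨f.range, ⟨⟨⟨?_⟩⟩, ?_⟩, ?_, ?_⟩
  · rintro ⟨x, hx⟩ ⟨y, hy⟩
    obtain ⟨i, j, rfl⟩ := hel x hx
    obtain ⟨k, l, rfl⟩ := hel y hy
    apply Subtype.ext
    change p ^ i * q ^ j * (p ^ k * q ^ l) = p ^ k * q ^ l * (p ^ i * q ^ j)
    have h1 : Commute (p ^ i * q ^ j) (p ^ k * q ^ l) :=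
      Commute.mul_left (Commute.mul_right ((Commute.refl p).zpow_zpow i k) (hC.zpow_zpow i l))
        (Commute.mul_right (hC.symm.zpow_zpow j k) ((Commute.refl q).zpow_zpow j l))
    exact h1
  · intro y hy
    obtain ⟨i, j, rfl⟩ := hel y hy
    rw [(hC.zpow_zpow i j).mul_pow, ← zpow_natCast, ← zpow_mul, mul_comm i, zpow_mul, ← zpow_natCast, ← zpow_mul (q),
      mul_comm j, zpow_mul q]
    have h1 : p ^ ((3 : ℕ) : ℤ) = 1 := by rw [zpow_natCast]; exact h.p3
    have h2 : q ^ ((3 : ℕ) : ℤ) = 1 := by rw [zpow_natCast]; exact h.q3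
    rw [h1, h2, one_zpow, one_zpow, one_mul]
  · rw [← Nat.card_congr (MonoidHom.ofInjective hinj).toEquiv, Nat.card_prod, Nat.card_zpowers, Nat.card_zpowers,
      hp, hq]
  · intro y hy
    obtain ⟨i, j, rfl⟩ := hel y hy
    exact mul_mem (zpow_mem (Subgroup.subset_closure (by simp)) i) (zpow_mem (Subgroup.subset_closure (by simp)) j)

/-- An elementary abelian group of order 9 generated by elements of `K`. -/
theorem Nine.exists_le {p q : G} (h : Nine p q) {K : Subgroup G} (hp : p ∈ K) (hq : q ∈ K) :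
    ∃ A : Subgroup G, IsElementaryAbelian 3 A ∧ Nat.card ↥A = 9 ∧ A ≤ K := by
  obtain ⟨A, h1, h2, h3⟩ := h.exists_sub
  refine ⟨A, h1, h2, h3.trans ((Subgroup.closure_le _).2 ?_)⟩
  rintro y (rfl | rfl)
  · exact hp
  · exact hq

/-- `x` fixes a pair generating an elementary abelian group of order 9. -/
def HasN (x : MulAut G) : Prop := ∃ p q : G, Nine p q ∧ x p = p ∧ x q = q

theorem HasN.inv {x : MulAut G} (h : HasN x⁻¹) : HasN x := by
  obtain ⟨p, q, hn, hp, hq⟩ := h
  refine ⟨p, q, hn, ?_, ?_⟩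
  · conv_lhs => rw [← hp]
    exact MulAut.apply_inv_self G x p
  · conv_lhs => rw [← hq]
    exact MulAut.apply_inv_self G x q

theorem HasN.of_conj (α : MulAut G) {x : MulAut G} (h : HasN (α * x * α⁻¹)) : HasN x := by
  obtain ⟨p, q, hn, hp, hq⟩ := h
  have key : ∀ p, (α * x * α⁻¹) p = p → x (α⁻¹ p) = α⁻¹ p := by
    intro p hp
    apply α.injective
    rw [MulAut.mul_apply, MulAut.mul_apply] at hp
    rw [hp, MulAut.apply_inv_self]
  exact ⟨α⁻¹ p, α⁻¹ q, hn.map (α⁻¹ : MulAut G).toMonoidHom (α⁻¹ : MulAut G).injective, key p hp, key q hq⟩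

theorem HasN.of_congr (e : G ≃* H) {x : MulAut G} (h : HasN (MulAut.congr e x)) : HasN x := by
  obtain ⟨p, q, hn, hp, hq⟩ := h
  have key : ∀ p, (MulAut.congr e x) p = p → x (e.symm p) = e.symm p := by
    intro p hp
    apply e.injective
    rw [e.apply_symm_apply]
    exact hp
  exact ⟨e.symm p, e.symm q, hn.map e.symm.toMonoidHom e.symm.injective, key p hp, key q hq⟩

end Cfsg.Agent.H982.TriNine
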